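import Groth.Agent.GeomIrredStrata.Count
import Groth.Prelude.Def_MoreMor
import Mathlib.AlgebraicGeometry.Geometrically.Irreducible
import Mathlib.AlgebraicGeometry.Geometrically.Connected
import Mathlib.FieldTheory.PurelyInseparable.Basic

/-!
# The numbers of components of the geometric fibre over a point
-/

set_option autoImplicit false

universe u

open CategoryTheory CategoryTheory.Limits AlgebraicGeometry

namespace Groth.Agent.GeomIrredStrata

variable {X Y : Scheme.{u}} (f : X ⟶ Y)

/-- The two numbers of components of the geometric fibre. -/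
noncomputable def gc (y : Y) : ℕ∞ × ℕ∞ := (MoreMor.nGeomIrredComp f y, MoreMor.nGeomConnComp f y)

theorem gc_eq (y : Y) : gc f y = counts (MoreMor.geomFiber f y) := rfl

/-- A morphism from the spectrum of a field to a scheme is given by the point and a field extension. -/
theorem exists_fieldFactor {k : Type u} [Field k] (a : Spec (CommRingCat.of k) ⟶ Y) :
    ∃ φ : Y.residueField (a (IsLocalRing.closedPoint k)) ⟶ CommRingCat.of k,
      Spec.map φ ≫ Y.fromSpecResidueField _ = a :=
  ⟨(Scheme.SpecToEquivOfField k Y a).2, (Scheme.SpecToEquivOfField k Y).left_inv a⟩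

variable [LocallyOfFiniteType f] [QuasiCompact f]

/-- The counts at an algebraically closed point only depend on the image. -/
theorem counts_point (k : Type u) [Field k] [IsAlgClosed k] (a : Spec (CommRingCat.of k) ⟶ Y) :
    counts ↥(pullback f a) = gc f (a (IsLocalRing.closedPoint k)) := by
  obtain ⟨φ, hφ⟩ := exists_fieldFactor a
  generalize a (IsLocalRing.closedPoint k) = y at φ hφ ⊢
  subst hφ
  let κ := Y.residueField y
  let fy : f.fiber y ⟶ Spec (CommRingCat.of κ) := f.fiberToSpecResidueField y
  have : LocallyOfFiniteType fy := MorphismProperty.pullback_snd _ _ ‹LocallyOfFiniteType f›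
  have : QuasiCompact fy := MorphismProperty.pullback_snd _ _ ‹QuasiCompact f›
  let := φ.hom.toAlgebra
  let Ks := SeparableClosure κ
  let L := AlgebraicClosure Ks
  have h1 : counts ↥(pullback f (Spec.map φ ≫ Y.fromSpecResidueField y)) = counts ↥(bc fy k) :=
    counts_congr (pullbackLeftPullbackSndIso f (Y.fromSpecResidueField y) (Spec.map φ)).symm.hom.homeomorph
  rw [h1, counts_eq_of_isAlgClosed fy L k, gc_eq, ← counts_bcTrans fy Ks L]
  exact counts_of_purelyInseparable _ L

omit [LocallyOfFiniteType f] [QuasiCompact f] in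
/-- Geometric topological properties of a fibre are tested on algebraically closed points. -/
theorem geometrically_fiber (P : ObjectProperty Scheme.{u})
    (hP : ∀ {A B : Scheme.{u}} (p : A ⟶ B) [Surjective p], P A → P B) (y : Y)
    (h : ∀ (k : Type u) [Field k] [IsAlgClosed k] (a : Spec (CommRingCat.of k) ⟶ Y),
      a (IsLocalRing.closedPoint k) = y → P (pullback f a)) :
    geometrically P (f.fiberToSpecResidueField y) := by
  intro K _ z Z fst snd hZ
  let L := AlgebraicClosure K
  let b := Spec.map (CommRingCat.ofHom (algebraMap K L))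
  have : Surjective b := ⟨fun x => ⟨(⊥ : PrimeSpectrum L), Subsingleton.elim (α := PrimeSpectrum K) _ _⟩⟩
  have big : IsPullback (pullback.fst snd b ≫ fst ≫ f.fiberι y) (pullback.snd snd b) f
      (b ≫ z ≫ Y.fromSpecResidueField y) :=
    (IsPullback.of_hasPullback snd b).paste_horiz (hZ.paste_horiz (IsPullback.of_hasPullback _ _))
  have hy : (b ≫ z ≫ Y.fromSpecResidueField y) (IsLocalRing.closedPoint L) = y := by
    simp
  exact hP (big.isoPullback.inv ≫ pullback.fst snd b) (h L _ hy)

/-- The fibre is geometrically irreducible iff its geometric fibre has one irreducible component. -/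
theorem geometricallyIrreducible_fiber_iff (y : Y) :
    GeometricallyIrreducible (f.fiberToSpecResidueField y) ↔ (gc f y).1 = 1 := by
  constructor
  · intro h
    exact irreducibleSpace_iff_encard.1
      (h.geometrically_irreducibleSpace _ _ _ (.of_hasPullback _ _) :
        IrreducibleSpace ↥(MoreMor.geomFiber f y))
  · intro h
    refine ⟨geometrically_fiber f _ (fun p _ hA => ?_) y fun k _ _ a ha => ?_⟩
    · exact @Function.Surjective.irreducibleSpace _ _ _ _ _ p.continuous p.surjective hA
    · show IrreducibleSpace ↥(pullback f a)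
      rw [irreducibleSpace_iff_encard]
      exact (congrArg Prod.fst ((counts_point f k a).trans (congrArg _ ha))).trans h

/-- The fibre is geometrically connected iff its geometric fibre has one connected component. -/
theorem geometricallyConnected_fiber_iff (y : Y) :
    GeometricallyConnected (f.fiberToSpecResidueField y) ↔ (gc f y).2 = 1 := by
  constructor
  · intro h
    exact connectedSpace_iff_card.1
      (h.geometrically_connectedSpace _ _ _ (.of_hasPullback _ _) :
        ConnectedSpace ↥(MoreMor.geomFiber f y))
  · intro h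
    refine ⟨geometrically_fiber f _ (fun p _ hA => ?_) y fun k _ _ a ha => ?_⟩
    · have : ConnectedSpace _ := hA
      exact p.surjective.connectedSpace p.continuous
    · show ConnectedSpace ↥(pullback f a)
      rw [connectedSpace_iff_card]
      exact (congrArg Prod.snd ((counts_point f k a).trans (congrArg _ ha))).trans h

/-- Near a point, inside its closure, the counts are constant. -/
theorem gc_near (y : Y) : ∃ W : Y.Opens, y ∈ W ∧ ∀ y' ∈ W, y ⤳ y' → gc f y' = gc f y := by
  obtain ⟨(U : Y.Opens), hU, hy, -⟩ := TopologicalSpace.Opens.isBasis_iff_nbhd.mp Y.isBasis_affineOpens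
    (show y ∈ (⊤ : Y.Opens) from trivial)
  let A : CommRingCat.{u} := Γ(Y, U)
  let i : Spec A ⟶ Y := hU.fromSpec
  obtain ⟨p, hp⟩ : y ∈ Set.range i := by rw [hU.range_fromSpec]; exact hy
  let R := A ⧸ (p : PrimeSpectrum A).asIdeal
  let g : Spec (CommRingCat.of R) ⟶ Y :=
    Spec.map (CommRingCat.ofHom (Ideal.Quotient.mk (p : PrimeSpectrum A).asIdeal)) ≫ i
  let fR := pullback.snd f g
  have : LocallyOfFiniteType fR := MorphismProperty.pullback_snd _ _ ‹LocallyOfFiniteType f›
  have : QuasiCompact fR := MorphismProperty.pullback_snd _ _ ‹QuasiCompact f›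
  let Ω := AlgebraicClosure (FractionRing R)
  have : FaithfulSMul R Ω := (faithfulSMul_iff_algebraMap_injective R Ω).2 (by
    rw [IsScalarTower.algebraMap_eq R (FractionRing R) Ω]
    exact (algebraMap (FractionRing R) Ω).injective.comp (IsFractionRing.injective R (FractionRing R)))
  obtain ⟨c, hc, hnear⟩ := counts_near fR Ω
  have key : ∀ (k : Type u) [Field k] [IsAlgClosed k] [Algebra R k] (q : PrimeSpectrum A),
      RingHom.ker ((algebraMap R k).comp (Ideal.Quotient.mk (p : PrimeSpectrum A).asIdeal)) = q.asIdeal →
        counts ↥(bc fR k) = gc f (i q) := by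
    intro k _ _ _ q hq
    refine (counts_congr (pullbackLeftPullbackSndIso f g _).hom.homeomorph).trans ((counts_point f k _).trans ?_)
    refine congrArg (gc f) ?_
    rw [Scheme.Hom.comp_apply, Scheme.Hom.comp_apply]
    refine congrArg i (PrimeSpectrum.ext ?_)
    show ((IsLocalRing.closedPoint k).asIdeal.comap (algebraMap R k)).comap (Ideal.Quotient.mk _) = q.asIdeal
    rw [Ideal.comap_comap, show (IsLocalRing.closedPoint k).asIdeal = ⊥ from IsLocalRing.maximalIdeal_eq_bot]
    exact hq
  have hΩ : counts ↥(bc fR Ω) = gc f y := by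
    rw [key Ω p, hp]
    rw [RingHom.ker_comp_of_injective _ (FaithfulSMul.algebraMap_injective R Ω), Ideal.mk_ker]
  obtain ⟨a, rfl⟩ := Ideal.Quotient.mk_surjective c
  refine ⟨i ''ᵁ PrimeSpectrum.basicOpen a, ⟨p, fun h => hc (Ideal.Quotient.eq_zero_iff_mem.2 h), hp⟩, ?_⟩
  rintro _ ⟨(q : PrimeSpectrum A), hq, rfl⟩ hsp
  have hsp : (p : PrimeSpectrum A) ⤳ q := i.isOpenEmbedding.isInducing.specializes_iff.1 (show i p ⤳ i q from hp.symm ▸ hsp)
  have hle : (p : PrimeSpectrum A).asIdeal ≤ (q : PrimeSpectrum A).asIdeal :=
    (PrimeSpectrum.le_iff_specializes _ _).2 hsp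
  let k := AlgebraicClosure (q : PrimeSpectrum A).asIdeal.ResidueField
  let φ : R →+* k := Ideal.Quotient.lift _ (algebraMap A k) fun x hx => by
    rw [IsScalarTower.algebraMap_apply A (q : PrimeSpectrum A).asIdeal.ResidueField k,
      Ideal.algebraMap_residueField_eq_zero.2 (hle hx), map_zero]
  let := φ.toAlgebra
  have hker : RingHom.ker ((algebraMap R k).comp (Ideal.Quotient.mk (p : PrimeSpectrum A).asIdeal)) =
      (q : PrimeSpectrum A).asIdeal := by
    ext x
    rw [RingHom.mem_ker, RingHom.comp_apply, RingHom.algebraMap_toAlgebra]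
    show algebraMap A k x = 0 ↔ _
    rw [IsScalarTower.algebraMap_apply A (q : PrimeSpectrum A).asIdeal.ResidueField k,
      map_eq_zero]
    exact Ideal.algebraMap_residueField_eq_zero
  refine (key k q hker).symm.trans ((hnear k ?_).trans hΩ)
  intro h0
  have : a ∈ RingHom.ker ((algebraMap R k).comp (Ideal.Quotient.mk (p : PrimeSpectrum A).asIdeal)) := h0
  rw [hker] at this
  exact hq this

end Groth.Agent.GeomIrredStrata
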