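import Groth.Agent.GeomIrredStrata.GeomFibre
import Groth.Agent.GeomConn.Scheme

/-!
# The numbers of components do not change under extensions of an algebraically closed field
-/

set_option autoImplicit false

universe u

open CategoryTheory CategoryTheory.Limits AlgebraicGeometry
open scoped TensorProduct

namespace Groth.Agent.GeomIrredStrata

/-- An open surjection with irreducible fibres preserves the two counts. -/
theorem counts_of_isOpenMap {A B : Type u} [TopologicalSpace A] [TopologicalSpace B] {p : A → B}
    (hc : Continuous p) (ho : IsOpenMap p) (hs : Function.Surjective p)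
    (hirr : ∀ b, IsIrreducible (p ⁻¹' {b})) : counts A = counts B := by
  have hcc : ENat.card (_root_.ConnectedComponents A) = ENat.card (_root_.ConnectedComponents B) :=
    ENat.card_congr (Equiv.ofBijective _
      ((ho.isQuotientMap hc hs).isCoinducing.connectedComponentsMap_bijective fun b => (hirr b).isConnected))
  have hI : (irreducibleComponents A).encard = (irreducibleComponents B).encard :=
    ENat.card_congr (irreducibleComponentsEquivOfIsPreirreducibleFiber p hc ho
      (fun b => (hirr b).isPreirreducible) hs).toEquiv.symm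
  exact Prod.ext hI hcc

/-- Base change along an extension of an algebraically closed field. -/
theorem counts_extension {K : Type u} [Field K] [IsAlgClosed K] (L : Type u) [Field L] [Algebra K L]
    {Z : Scheme.{u}} (p : Z ⟶ Spec (CommRingCat.of K)) : counts ↥(bc p L) = counts ↥Z := by
  let g := Spec.map (CommRingCat.ofHom (algebraMap K L))
  refine counts_of_isOpenMap (pullback.fst p g).continuous (GeomConn.isOpenMap_fst p) ?_ fun x => ?_
  · intro x
    have : x ∈ Set.range (pullback.fst p g) := by
      rw [Scheme.Pullback.range_fst]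
      exact GeomConn.surjective_specMap_field _
    exact this
  obtain ⟨φ, hφ⟩ := Spec.map_surjective (Z.fromSpecResidueField x ≫ p)
  let : Algebra K (Z.residueField x) := φ.hom.toAlgebra
  let ι : pullback (Spec.map φ) g ⟶ pullback p g :=
    pullback.map _ _ _ _ (Z.fromSpecResidueField x) (𝟙 _) (𝟙 _) (by simp [hφ]) (by simp)
  have hr : Set.range ι = pullback.fst p g ⁻¹' {x} := by
    rw [Scheme.Pullback.range_map, Scheme.range_fromSpecResidueField]
    simp
  rw [← hr]
  have : IsDomain (Z.residueField x ⊗[K] L) := GeomConn.isDomain_tensorProduct _ _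
  have : IrreducibleSpace ↥(pullback (Spec.map φ) g) := by
    have h : IrreducibleSpace (PrimeSpectrum (Z.residueField x ⊗[K] L)) := inferInstance
    exact (pullbackSpecIso K (Z.residueField x) L).hom.homeomorph.irreducibleSpace_iff.2 h
  rw [← Set.image_univ]
  exact (IrreducibleSpace.isIrreducible_univ _).image _ ι.continuous.continuousOn

variable {X Y : Scheme.{u}} (f : X ⟶ Y)

/-- Further base change of a geometric fibre. -/
theorem counts_pullback_extension {k L : Type u} [Field k] [IsAlgClosed k] [Field L] [Algebra k L]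
    (a : Spec (CommRingCat.of k) ⟶ Y) :
    counts ↥(pullback f (Spec.map (CommRingCat.ofHom (algebraMap k L)) ≫ a)) = counts ↥(pullback f a) :=
  (counts_congr (pullbackLeftPullbackSndIso f a _).symm.hom.homeomorph).trans
    (counts_extension L (pullback.snd f a))

/-- Two fields over a third embed into a common algebraically closed one. -/
theorem exists_compositum (κ k₁ k₂ : Type u) [Field κ] [Field k₁] [Field k₂] [Algebra κ k₁] [Algebra κ k₂] :
    ∃ (L : Type u) (_ : Field L) (_ : IsAlgClosed L) (i₁ : k₁ →+* L) (i₂ : k₂ →+* L),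
      i₁.comp (algebraMap κ k₁) = i₂.comp (algebraMap κ k₂) := by
  obtain ⟨m, hm⟩ := Ideal.exists_maximal (k₁ ⊗[κ] k₂)
  let : Field (k₁ ⊗[κ] k₂ ⧸ m) := Ideal.Quotient.field m
  let L := AlgebraicClosure (k₁ ⊗[κ] k₂ ⧸ m)
  let q : k₁ ⊗[κ] k₂ →+* L := (algebraMap _ L).comp (Ideal.Quotient.mk m)
  refine ⟨L, inferInstance, inferInstance, q.comp Algebra.TensorProduct.includeLeftRingHom,
    q.comp (Algebra.TensorProduct.includeRight : k₂ →ₐ[κ] k₁ ⊗[κ] k₂).toRingHom, ?_⟩
  refine RingHom.ext fun x => congrArg q ?_
  show algebraMap κ k₁ x ⊗ₜ[κ] (1 : k₂) = (1 : k₁) ⊗ₜ[κ] algebraMap κ k₂ x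
  rw [Algebra.algebraMap_eq_smul_one, Algebra.algebraMap_eq_smul_one, TensorProduct.smul_tmul]

/-- From a separable closure to an algebraic one. -/
theorem counts_algClosure {κ : Type u} [Field κ] {Z : Scheme.{u}} (p : Z ⟶ Spec (CommRingCat.of κ)) :
    counts ↥(bc p (AlgebraicClosure (SeparableClosure κ))) = counts ↥(bc p (SeparableClosure κ)) :=
  (counts_bcTrans p (SeparableClosure κ) (AlgebraicClosure (SeparableClosure κ))).symm.trans
    (counts_of_purelyInseparable _ (AlgebraicClosure (SeparableClosure κ)))

/-- The counts at algebraically closed extensions of a field point. -/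
theorem counts_fieldPoint {κ k : Type u} [Field κ] [Field k] [IsAlgClosed k] [Algebra κ k]
    (ι : Spec (CommRingCat.of κ) ⟶ Y) :
    counts ↥(pullback f (Spec.map (CommRingCat.ofHom (algebraMap κ k)) ≫ ι)) =
      counts ↥(bc (pullback.snd f ι) (SeparableClosure κ)) := by
  let A := AlgebraicClosure (SeparableClosure κ)
  obtain ⟨L, _, _, i₁, i₂, hi⟩ := exists_compositum κ k A
  have hfac : Spec.map (CommRingCat.ofHom i₁) ≫ Spec.map (CommRingCat.ofHom (algebraMap κ k)) =
      Spec.map (CommRingCat.ofHom i₂) ≫ Spec.map (CommRingCat.ofHom (algebraMap κ A)) := by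
    rw [← Spec.map_comp, ← Spec.map_comp, ← CommRingCat.ofHom_comp, ← CommRingCat.ofHom_comp, hi]
  have h1 : counts ↥(pullback f (Spec.map (CommRingCat.ofHom i₁) ≫
      Spec.map (CommRingCat.ofHom (algebraMap κ k)) ≫ ι)) =
        counts ↥(pullback f (Spec.map (CommRingCat.ofHom (algebraMap κ k)) ≫ ι)) := by
    let := i₁.toAlgebra
    exact counts_pullback_extension (L := L) f _
  have h2 : counts ↥(pullback f (Spec.map (CommRingCat.ofHom i₂) ≫
      Spec.map (CommRingCat.ofHom (algebraMap κ A)) ≫ ι)) =
        counts ↥(pullback f (Spec.map (CommRingCat.ofHom (algebraMap κ A)) ≫ ι)) := by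
    let := i₂.toAlgebra
    exact counts_pullback_extension (L := L) f _
  have h3 : counts ↥(pullback f (Spec.map (CommRingCat.ofHom (algebraMap κ A)) ≫ ι)) =
      counts ↥(bc (pullback.snd f ι) A) :=
    counts_congr (pullbackLeftPullbackSndIso f ι _).symm.hom.homeomorph
  rw [← h1, ← Category.assoc, hfac, Category.assoc, h2, h3]
  exact counts_algClosure (pullback.snd f ι)

/-- For any morphism, the counts at algebraically closed points only depend on the image. -/
theorem counts_point' (k : Type u) [Field k] [IsAlgClosed k] (a : Spec (CommRingCat.of k) ⟶ Y) :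
    counts ↥(pullback f a) = gc f (a (IsLocalRing.closedPoint k)) := by
  obtain ⟨φ, hφ⟩ := exists_fieldFactor a
  generalize a (IsLocalRing.closedPoint k) = y at φ hφ ⊢
  subst hφ
  let : Algebra (Y.residueField y) k := φ.hom.toAlgebra
  exact @counts_fieldPoint X Y f (Y.residueField y) k _ _ _ _ (Y.fromSpecResidueField y)

/-- A field point extends to an algebraically closed one. -/
theorem exists_algClosed_extension {κ : Type u} [Field κ] (ι : Spec (CommRingCat.of κ) ⟶ Y) (y : Y)
    (hι : ∀ z, ι z = y) :
    ∃ (k : Type u) (_ : Field k) (_ : IsAlgClosed k) (a : Spec (CommRingCat.of k) ⟶ Y),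
      a (IsLocalRing.closedPoint k) = y :=
  ⟨AlgebraicClosure κ, inferInstance, inferInstance,
    Spec.map (CommRingCat.ofHom (algebraMap κ (AlgebraicClosure κ))) ≫ ι,
    (Scheme.Hom.comp_apply _ _ _).trans (hι _)⟩

/-- Every point is the image of an algebraically closed point. -/
theorem exists_algClosed_point (y : Y) :
    ∃ (k : Type u) (_ : Field k) (_ : IsAlgClosed k) (a : Spec (CommRingCat.of k) ⟶ Y),
      a (IsLocalRing.closedPoint k) = y :=
  exists_algClosed_extension (κ := Y.residueField y) (Y.fromSpecResidueField y) y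
    (Y.fromSpecResidueField_apply y)

/-- The counts are compatible with any base change. -/
theorem gc_baseChange {X' Y' : Scheme.{u}} {f : X ⟶ Y} {f' : X' ⟶ Y'} {g' : X' ⟶ X} {g : Y' ⟶ Y}
    (hc : IsPullback g' f' f g) (y' : Y') : gc f' y' = gc f (g y') := by
  obtain ⟨k, _, _, a, rfl⟩ : ∃ (k : Type u) (_ : Field k) (_ : IsAlgClosed k) (a : Spec (CommRingCat.of k) ⟶ Y'),
      a (IsLocalRing.closedPoint k) = y' :=
    exists_algClosed_point y'
  refine ((counts_point' f' k a).symm.trans ?_).trans
    ((counts_point' f k (a ≫ g)).trans (congrArg (gc f) (Scheme.Hom.comp_apply a g _)))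
  exact counts_congr ((IsPullback.of_hasPullback f' a).paste_horiz hc).isoPullback.hom.homeomorph

end Groth.Agent.GeomIrredStrata
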