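import Groth.Agent.GeomIrredStrata.Count

/-!
# Component counts of spaces given by finitely many affine pieces and their overlaps

A finite diagram of algebras of finite type over a domain; the component counts of any space glued from
its fibres are constant near the generic point.
-/

set_option autoImplicit false

universe u

open Topology
open scoped TensorProduct

namespace Groth.Agent.GeomIrredStrata

/-- The inclusion into a base change. -/
noncomputable abbrev inc (R K B : Type u) [CommRing R] [CommRing K] [CommRing B] [Algebra R K] [Algebra R B] :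
    B →+* K ⊗[R] B :=
  (Algebra.TensorProduct.includeRight : B →ₐ[R] K ⊗[R] B).toRingHom

/-- An ideal of the generic fibre, moved to another fibre. -/
noncomputable abbrev ext (R Ω K : Type u) [CommRing R] [CommRing Ω] [CommRing K] [Algebra R Ω] [Algebra R K]
    {B : Type u} [CommRing B] [Algebra R B] (p : Ideal (Ω ⊗[R] B)) : Ideal (K ⊗[R] B) :=
  (p.comap (inc R Ω B)).map (inc R K B)

set_option maxHeartbeats 1000000 in
/-- The minimal primes of a fibre near the generic point. -/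
theorem affine_near {R : Type u} [CommRing R] [IsDomain R] (B : Type u) [CommRing B] [Algebra R B]
    [Algebra.FiniteType R B] (Ω : Type u) [Field Ω] [IsAlgClosed Ω] [Algebra R Ω] [FaithfulSMul R Ω]
    (hdesc : ∀ p ∈ minimalPrimes (Ω ⊗[R] B), p ≤ ext R Ω Ω p) :
    Near R fun k _ _ _ =>
      (∀ p ∈ minimalPrimes (Ω ⊗[R] B), ext R Ω k p ∈ minimalPrimes (k ⊗[R] B)) ∧
      (∀ q ∈ minimalPrimes (k ⊗[R] B), ∃ p ∈ minimalPrimes (Ω ⊗[R] B), ext R Ω k p = q) ∧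
      (∀ p ∈ minimalPrimes (Ω ⊗[R] B), ∀ p' ∈ minimalPrimes (Ω ⊗[R] B), ext R Ω k p ≤ ext R Ω k p' → p = p') ∧
      ∀ p ∈ minimalPrimes (Ω ⊗[R] B), ∀ p' ∈ minimalPrimes (Ω ⊗[R] B),
        (ext R Ω k p ⊔ ext R Ω k p' ≠ ⊤ ↔ p ⊔ p' ≠ ⊤) := by
  classical
  have hnoeth : IsNoetherianRing (Ω ⊗[R] B) := Algebra.FiniteType.isNoetherianRing Ω (Ω ⊗[R] B)
  have hfin := minimalPrimes.finite_of_isNoetherianRing (Ω ⊗[R] B)
  have := hfin.to_subtype
  have heq : ∀ p ∈ minimalPrimes (Ω ⊗[R] B), ext R Ω Ω p = p := fun p hp =>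
    le_antisymm Ideal.map_comap_le (hdesc p hp)
  have hft : ∀ I : Ideal B, Algebra.FiniteType R (B ⧸ I) := fun I =>
    Algebra.FiniteType.of_surjective (Ideal.Quotient.mkₐ R I) (Ideal.Quotient.mkₐ_surjective R I)
  have hprime : Near R fun k _ _ _ => ∀ p : minimalPrimes (Ω ⊗[R] B), (ext R Ω k p.1).IsPrime :=
    Near.all fun p => by
      have := hft (p.1.comap (inc R Ω B))
      have hp : (ext R Ω Ω p.1).IsPrime := (heq _ p.2).symm ▸ Ideal.IsMinimalPrime.isPrime p.2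
      have := isDomain_of_isPrime_map Ω (p.1.comap (inc R Ω B)) hp
      exact (Near.isDomain (B ⧸ p.1.comap (inc R Ω B)) Ω).mono fun k _ _ _ h =>
        isPrime_map_of_isDomain (S := R) k _
  have hsep : Near R fun k _ _ _ => ∀ p p' : minimalPrimes (Ω ⊗[R] B), p ≠ p' →
      ¬ ext R Ω k p.1 ≤ ext R Ω k p'.1 :=
    Near.all fun p => Near.all fun p' => Near.of_imp fun hne => by
      obtain ⟨g, hg, hg'⟩ : ∃ g ∈ p.1.comap (inc R Ω B), inc R Ω B g ∉ p'.1 := by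
        by_contra hall
        push Not at hall
        have hle : p.1 ≤ p'.1 := by
          rw [← heq _ p.2]
          exact Ideal.map_le_iff_le_comap.2 fun g hg => hall g hg
        exact hne (Subtype.ext (le_antisymm hle (p'.2.2 ⟨Ideal.IsMinimalPrime.isPrime p.2, bot_le⟩ hle)))
      have hp' : (ext R Ω Ω p'.1).IsPrime := (heq _ p'.2).symm ▸ Ideal.IsMinimalPrime.isPrime p'.2
      exact (Near.not_mem B Ω _ hp' g (show inc R Ω B g ∉ ext R Ω Ω p'.1 by rw [heq _ p'.2]; exact hg')).mono fun k _ _ _ h hle =>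
        h (hle (Ideal.mem_map_of_mem _ hg))
  have hN : Near R fun k _ _ _ => ∀ p p' : minimalPrimes (Ω ⊗[R] B),
      (ext R Ω k p.1 ⊔ ext R Ω k p'.1 ≠ ⊤ ↔ p.1 ⊔ p'.1 ≠ ⊤) := by
    refine Near.all fun p => Near.all fun p' => ?_
    let I := p.1.comap (inc R Ω B) ⊔ p'.1.comap (inc R Ω B)
    have hI : ∀ (K : Type u) [CommRing K] [Algebra R K], I.map (inc R K B) = ext R Ω K p.1 ⊔ ext R Ω K p'.1 :=
      fun K _ _ => Ideal.map_sup _ _ _
    have hΩ : I.map (inc R Ω B) = p.1 ⊔ p'.1 := by rw [hI, heq _ p.2, heq _ p'.2]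
    have := hft I
    by_cases hn : Nontrivial (Ω ⊗[R] (B ⧸ I))
    · exact (Near.nontrivial (B ⧸ I) Ω).mono fun k _ _ _ h =>
        iff_of_true (hI k ▸ (nontrivial_iff_map_ne_top k I).1 h) (hΩ ▸ (nontrivial_iff_map_ne_top Ω I).1 hn)
    · have := not_nontrivial_iff_subsingleton.1 hn
      exact (Near.subsingleton (B ⧸ I) Ω).mono fun k _ _ _ h =>
        iff_of_false (fun h' => not_nontrivial_iff_subsingleton.2 h ((nontrivial_iff_map_ne_top k I).2 (hI k ▸ h')))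
          fun h' => hn ((nontrivial_iff_map_ne_top Ω I).2 (hΩ.symm ▸ h'))
  refine (((hprime.and hsep).and hN).and (vanish_near R B Ω)).mono ?_
  rintro k _ _ _ ⟨⟨⟨hprime, hsep⟩, hN⟩, hvan⟩
  have hcov : ∀ Q : Ideal (k ⊗[R] B), Q.IsPrime → ∃ p ∈ minimalPrimes (Ω ⊗[R] B), ext R Ω k p ≤ Q := by
    intro Q hQ
    let S := hfin.toFinset
    have hprod : ∏ p ∈ S, p.comap (inc R Ω B) ≤ Q.comap (inc R k B) := by
      intro x hx
      have h1 : ∀ p ∈ S, x ∈ p.comap (inc R Ω B) := fun p hp => (Ideal.prod_le_inf.trans (Finset.inf_le hp)) hx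
      have h2 : inc R Ω B x ∈ (⊥ : Ideal (Ω ⊗[R] B)).radical := by
        rw [← Ideal.sInf_minimalPrimes, Submodule.mem_sInf]
        exact fun p hp => h1 p (hfin.mem_toFinset.2 hp)
      obtain ⟨m, hm⟩ := h2
      rw [Ideal.mem_bot, ← map_pow] at hm
      refine Ideal.mem_comap.2 (hQ.mem_of_pow_mem m ?_)
      rw [← map_pow, show inc R k B (x ^ m) = 0 from hvan _ hm]
      exact zero_mem _
    obtain ⟨p, hp, hle⟩ := ((Ideal.IsPrime.comap (inc R k B)).prod_le).1 hprod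
    exact ⟨p, hfin.mem_toFinset.1 hp, Ideal.map_le_iff_le_comap.2 hle⟩
  have hinj : ∀ p ∈ minimalPrimes (Ω ⊗[R] B), ∀ p' ∈ minimalPrimes (Ω ⊗[R] B),
      ext R Ω k p ≤ ext R Ω k p' → p = p' := fun p hp p' hp' hle => by
    by_contra hne
    exact hsep ⟨p, hp⟩ ⟨p', hp'⟩ (fun h => hne (congrArg Subtype.val h)) hle
  refine ⟨fun p hp => ⟨⟨hprime ⟨p, hp⟩, bot_le⟩, fun q hq hle => ?_⟩, fun q hq => ?_, hinj,
    fun p hp p' hp' => hN ⟨p, hp⟩ ⟨p', hp'⟩⟩
  · obtain ⟨p', hp', hle'⟩ := hcov q hq.1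
    obtain rfl := hinj p' hp' p hp (hle'.trans hle)
    exact hle'
  · obtain ⟨p, hp, hle⟩ := hcov q (Ideal.IsMinimalPrime.isPrime hq)
    exact ⟨p, hp, le_antisymm hle (hq.2 ⟨hprime ⟨p, hp⟩, bot_le⟩ hle)⟩

/-- An open embedding sends minimal primes to minimal primes. -/
theorem isMinimalPrime_of_isOpenEmbedding {A A' : Type u} [CommRing A] [CommRing A']
    {c : PrimeSpectrum A → PrimeSpectrum A'} (hc : IsOpenEmbedding c) {Q : PrimeSpectrum A}
    (hQ : Q.asIdeal ∈ minimalPrimes A) : (c Q).asIdeal ∈ minimalPrimes A' := by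
  refine ⟨⟨(c Q).isPrime, bot_le⟩, fun q hq hle => ?_⟩
  have hsp : (⟨q, hq.1⟩ : PrimeSpectrum A') ⤳ c Q := (PrimeSpectrum.le_iff_specializes _ _).1 hle
  obtain ⟨Q', hQ'⟩ := hsp.mem_open hc.isOpen_range ⟨Q, rfl⟩
  rw [← hQ', hc.isInducing.specializes_iff] at hsp
  have h1 : Q'.asIdeal ≤ Q.asIdeal := (PrimeSpectrum.le_iff_specializes _ _).2 hsp
  have h2 : Q' = Q := PrimeSpectrum.ext (le_antisymm h1 (hQ.2 ⟨Q'.isPrime, bot_le⟩ h1))
  rw [← h2, hQ']

/-- A point sent by an open embedding to a minimal prime is a minimal prime. -/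
theorem isMinimalPrime_of_map {A A' : Type u} [CommRing A] [CommRing A']
    {c : PrimeSpectrum A → PrimeSpectrum A'} (hc : IsOpenEmbedding c) {Q : PrimeSpectrum A}
    (hQ : (c Q).asIdeal ∈ minimalPrimes A') : Q.asIdeal ∈ minimalPrimes A := by
  refine ⟨⟨Q.isPrime, bot_le⟩, fun q hq hle => ?_⟩
  have hsp : (⟨q, hq.1⟩ : PrimeSpectrum A) ⤳ Q := (PrimeSpectrum.le_iff_specializes _ _).1 hle
  have h1 : (c ⟨q, hq.1⟩).asIdeal ≤ (c Q).asIdeal :=
    (PrimeSpectrum.le_iff_specializes _ _).2 (hsp.map hc.continuous)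
  have h2 : c ⟨q, hq.1⟩ = c Q :=
    PrimeSpectrum.ext (le_antisymm h1 (hQ.2 ⟨(c ⟨q, hq.1⟩).isPrime, bot_le⟩ h1))
  exact (congrArg PrimeSpectrum.asIdeal (hc.injective h2)).ge

variable {R : Type u} [CommRing R] {ι κ : Type u} (Bs : ι → Type u) [∀ i, CommRing (Bs i)]
  [∀ i, Algebra R (Bs i)] (Cs : κ → Type u) [∀ l, CommRing (Cs l)] [∀ l, Algebra R (Cs l)]
  (a b : κ → ι) (φ : ∀ l, Bs (a l) →ₐ[R] Cs l) (ψ : ∀ l, Bs (b l) →ₐ[R] Cs l)

/-- The map of spectra of base changes. -/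
noncomputable abbrev bcSpec (K : Type u) [CommRing K] [Algebra R K] {B C : Type u} [CommRing B]
    [Algebra R B] [CommRing C] [Algebra R C] (φ : B →ₐ[R] C) :
    PrimeSpectrum (K ⊗[R] C) → PrimeSpectrum (K ⊗[R] B) :=
  PrimeSpectrum.comap (Algebra.TensorProduct.map (AlgHom.id R K) φ).toRingHom

/-- A space glued from the fibres of the diagram. -/
def Atlas (K : Type u) [CommRing K] [Algebra R K] (Z : Type u) [TopologicalSpace Z] : Prop :=
  ∃ u : ∀ i, PrimeSpectrum (K ⊗[R] Bs i) → Z,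
    (∀ i, IsOpenEmbedding (u i)) ∧ (∀ z, ∃ i Q, u i Q = z) ∧
    (∀ l, IsOpenEmbedding (u (a l) ∘ bcSpec K (φ l))) ∧
    (∀ l Q, u (a l) (bcSpec K (φ l) Q) = u (b l) (bcSpec K (ψ l) Q)) ∧
    ∀ (i j : ι) (Q : PrimeSpectrum (K ⊗[R] Bs i)) (Q' : PrimeSpectrum (K ⊗[R] Bs j)), u i Q = u j Q' →
      ∃ (l : κ) (W : PrimeSpectrum (K ⊗[R] Cs l)), a l = i ∧ b l = j ∧ u (a l) (bcSpec K (φ l) W) = u i Q

variable {Bs Cs a b φ ψ}

/-- A prime of the generic fibre pulls back to one contained in the pullback of its translate. -/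
theorem ext_comap_le (Ω K : Type u) [CommRing Ω] [CommRing K] [Algebra R Ω] [Algebra R K] {B C : Type u}
    [CommRing B] [Algebra R B] [CommRing C] [Algebra R C] (φ : B →ₐ[R] C) (r : Ideal (Ω ⊗[R] C)) :
    ext R Ω K (r.comap (Algebra.TensorProduct.map (AlgHom.id R Ω) φ).toRingHom) ≤
      (ext R Ω K r).comap (Algebra.TensorProduct.map (AlgHom.id R K) φ).toRingHom := by
  rw [Ideal.map_le_iff_le_comap]
  intro x hx
  have h1 : inc R Ω C (φ x) ∈ r := by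
    have h : (Algebra.TensorProduct.map (AlgHom.id R Ω) φ) ((1 : Ω) ⊗ₜ[R] x) ∈ r := hx
    simpa using h
  show (Algebra.TensorProduct.map (AlgHom.id R K) φ) ((1 : K) ⊗ₜ[R] x) ∈ ext R Ω K r
  rw [Algebra.TensorProduct.map_tmul, AlgHom.id_apply]
  exact Ideal.mem_map_of_mem (inc R K C) (Ideal.mem_comap.2 h1)

variable (φ ψ)

set_option maxHeartbeats 2000000 in
/-- The counts of glued spaces near the generic point, with descended components. -/
theorem atlas_core [IsDomain R] [Finite ι] [Finite κ] [∀ i, Algebra.FiniteType R (Bs i)]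
    [∀ l, Algebra.FiniteType R (Cs l)] (Ω : Type u) [Field Ω] [IsAlgClosed Ω] [Algebra R Ω] [FaithfulSMul R Ω]
    (hB : ∀ i, ∀ p ∈ minimalPrimes (Ω ⊗[R] Bs i), p ≤ ext R Ω Ω p)
    (hC : ∀ l, ∀ p ∈ minimalPrimes (Ω ⊗[R] Cs l), p ≤ ext R Ω Ω p)
    (Z₀ : Type u) [TopologicalSpace Z₀] (h₀ : Atlas Bs Cs a b φ ψ Ω Z₀) :
    ∃ (P : Type u) (_ : Finite P) (N : P → P → Prop), Near R fun k _ _ _ =>
      ∀ (Z : Type u) [TopologicalSpace Z], Atlas Bs Cs a b φ ψ k Z → ∃ F : P → Set Z, Good F N := by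
  classical
  have hfinB : ∀ i, (minimalPrimes (Ω ⊗[R] Bs i)).Finite := fun i =>
    have : IsNoetherianRing (Ω ⊗[R] Bs i) := Algebra.FiniteType.isNoetherianRing Ω _
    minimalPrimes.finite_of_isNoetherianRing _
  have : ∀ i, Finite (minimalPrimes (Ω ⊗[R] Bs i)) := fun i => (hfinB i).to_subtype
  obtain ⟨u₀, hu₀, hcov₀, hv₀, hcomm₀, -⟩ := h₀
  have hc₀ : ∀ l, IsOpenEmbedding (bcSpec Ω (φ l)) := fun l => IsOpenEmbedding.of_comp _ (hu₀ _) (hv₀ l)
  have hd₀ : ∀ l, IsOpenEmbedding (bcSpec Ω (ψ l)) := fun l =>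
    IsOpenEmbedding.of_comp _ (hu₀ _) (by
      have : u₀ (b l) ∘ bcSpec Ω (ψ l) = u₀ (a l) ∘ bcSpec Ω (φ l) := funext fun Q => (hcomm₀ l Q).symm
      rw [this]; exact hv₀ l)
  let P₀ : Type u := Σ i, minimalPrimes (Ω ⊗[R] Bs i)
  let m₁ : ∀ l, minimalPrimes (Ω ⊗[R] Cs l) → P₀ := fun l r =>
    ⟨a l, ⟨_, isMinimalPrime_of_isOpenEmbedding (hc₀ l) (Q := ⟨r.1, Ideal.IsMinimalPrime.isPrime r.2⟩) r.2⟩⟩
  let m₂ : ∀ l, minimalPrimes (Ω ⊗[R] Cs l) → P₀ := fun l r =>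
    ⟨b l, ⟨_, isMinimalPrime_of_isOpenEmbedding (hd₀ l) (Q := ⟨r.1, Ideal.IsMinimalPrime.isPrime r.2⟩) r.2⟩⟩
  let rel : P₀ → P₀ → Prop := fun x y => ∃ l r, m₁ l r = x ∧ m₂ l r = y
  let N : Quot rel → Quot rel → Prop := fun X Y => ∃ (i : ι) (p q : minimalPrimes (Ω ⊗[R] Bs i)),
    Quot.mk rel ⟨i, p⟩ = X ∧ Quot.mk rel ⟨i, q⟩ = Y ∧ p.1 ⊔ q.1 ≠ ⊤
  have : Finite (Quot rel) := Quot.finite _
  refine ⟨Quot rel, inferInstance, N, ((Near.all fun i => affine_near (Bs i) Ω (hB i)).and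
    (Near.all fun l => affine_near (Cs l) Ω (hC l))).mono ?_⟩
  rintro k _ _ _ ⟨HB, HC⟩ Z _ ⟨u, hu, hcov, hv, hcomm, hint⟩
  let pt : ∀ x : P₀, PrimeSpectrum (k ⊗[R] Bs x.1) := fun x =>
    ⟨ext R Ω k x.2.1, Ideal.IsMinimalPrime.isPrime ((HB x.1).1 x.2.1 x.2.2)⟩
  let pz : P₀ → Z := fun x => u x.1 (pt x)
  have hc : ∀ l, IsOpenEmbedding (bcSpec k (φ l)) := fun l => IsOpenEmbedding.of_comp _ (hu _) (hv l)
  have hd : ∀ l, IsOpenEmbedding (bcSpec k (ψ l)) := fun l =>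
    IsOpenEmbedding.of_comp _ (hu _) (by
      have : u (b l) ∘ bcSpec k (ψ l) = u (a l) ∘ bcSpec k (φ l) := funext fun Q => (hcomm l Q).symm
      rw [this]; exact hv l)
  -- translates commute with the two maps
  have hm₁ : ∀ l (r : minimalPrimes (Ω ⊗[R] Cs l)),
      pt (m₁ l r) = bcSpec k (φ l) ⟨ext R Ω k r.1, Ideal.IsMinimalPrime.isPrime ((HC l).1 r.1 r.2)⟩ := by
    intro l r
    have h1 := isMinimalPrime_of_isOpenEmbedding (hc l)
      (Q := ⟨ext R Ω k r.1, Ideal.IsMinimalPrime.isPrime ((HC l).1 r.1 r.2)⟩) ((HC l).1 r.1 r.2)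
    have hle : (pt (m₁ l r)).asIdeal ≤ _ := ext_comap_le Ω k (φ l) r.1
    exact PrimeSpectrum.ext (le_antisymm hle (h1.2 ⟨(pt (m₁ l r)).isPrime, bot_le⟩ hle))
  have hm₂ : ∀ l (r : minimalPrimes (Ω ⊗[R] Cs l)),
      pt (m₂ l r) = bcSpec k (ψ l) ⟨ext R Ω k r.1, Ideal.IsMinimalPrime.isPrime ((HC l).1 r.1 r.2)⟩ := by
    intro l r
    have h1 := isMinimalPrime_of_isOpenEmbedding (hd l)
      (Q := ⟨ext R Ω k r.1, Ideal.IsMinimalPrime.isPrime ((HC l).1 r.1 r.2)⟩) ((HC l).1 r.1 r.2)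
    have hle : (pt (m₂ l r)).asIdeal ≤ _ := ext_comap_le Ω k (ψ l) r.1
    exact PrimeSpectrum.ext (le_antisymm hle (h1.2 ⟨(pt (m₂ l r)).isPrime, bot_le⟩ hle))
  have hrel : ∀ x y, rel x y → pz x = pz y := by
    rintro x y ⟨l, r, rfl, rfl⟩
    show u (a l) (pt (m₁ l r)) = u (b l) (pt (m₂ l r))
    rw [hm₁, hm₂]
    exact hcomm l _
  have hrel' : ∀ x y, pz x = pz y → rel x y := by
    rintro ⟨i, p⟩ ⟨j, q⟩ hxy
    obtain ⟨l, W, rfl, rfl, hW⟩ := hint i j _ _ hxy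
    have h1 : bcSpec k (φ l) W = pt ⟨a l, p⟩ := (hu _).injective hW
    have h2 : bcSpec k (ψ l) W = pt ⟨b l, q⟩ := (hu _).injective (by rw [← hcomm, hW]; exact hxy)
    have hWmin : W.asIdeal ∈ minimalPrimes (k ⊗[R] Cs l) :=
      isMinimalPrime_of_map (hc l) (h1 ▸ (HB (a l)).1 p.1 p.2)
    obtain ⟨r, hr, hrW⟩ := (HC l).2.1 W.asIdeal hWmin
    have hW' : (⟨ext R Ω k r, Ideal.IsMinimalPrime.isPrime ((HC l).1 r hr)⟩ : PrimeSpectrum _) = W :=
      PrimeSpectrum.ext hrW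
    refine ⟨l, ⟨r, hr⟩, ?_, ?_⟩
    · have h : pt (m₁ l ⟨r, hr⟩) = pt ⟨a l, p⟩ := (hm₁ l ⟨r, hr⟩).trans ((congrArg _ hW').trans h1)
      exact congrArg (Sigma.mk (a l)) (Subtype.ext
        ((HB (a l)).2.2.1 _ (m₁ l ⟨r, hr⟩).2.2 p.1 p.2 (congrArg PrimeSpectrum.asIdeal h).le))
    · have h : pt (m₂ l ⟨r, hr⟩) = pt ⟨b l, q⟩ := (hm₂ l ⟨r, hr⟩).trans ((congrArg _ hW').trans h2)
      exact congrArg (Sigma.mk (b l)) (Subtype.ext
        ((HB (b l)).2.2.1 _ (m₂ l ⟨r, hr⟩).2.2 q.1 q.2 (congrArg PrimeSpectrum.asIdeal h).le))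
  -- the points are maximal
  have hmax : ∀ (x : P₀) (z : Z), z ⤳ pz x → z = pz x := by
    intro x z h
    obtain ⟨Q, rfl⟩ := h.mem_open (hu x.1).isOpen_range ⟨_, rfl⟩
    have hle : Q.asIdeal ≤ (pt x).asIdeal :=
      (PrimeSpectrum.le_iff_specializes _ _).2 ((hu x.1).isInducing.specializes_iff.1 h)
    exact congrArg (u x.1) (PrimeSpectrum.ext
      (le_antisymm hle (((HB x.1).1 x.2.1 x.2.2).2 ⟨Q.isPrime, bot_le⟩ hle)))
  refine ⟨Quot.lift (fun x => closure ({pz x} : Set Z)) fun x y h => by simp only [hrel x y h],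
    fun X => ?_, fun X => ?_, fun z => ?_, fun X Y => ?_, fun X Y => ?_⟩
  · induction X using Quot.ind with | _ x => exact isClosed_closure
  · induction X using Quot.ind with | _ x => exact isIrreducible_singleton.closure
  · obtain ⟨i, Q, rfl⟩ := hcov z
    obtain ⟨q, hq, hqQ⟩ := Ideal.exists_minimalPrimes_le (J := Q.asIdeal) (bot_le (a := Q.asIdeal))
    obtain ⟨p, hp, rfl⟩ := (HB i).2.1 q hq
    exact ⟨Quot.mk rel ⟨i, ⟨p, hp⟩⟩, specializes_iff_mem_closure.1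
      (((PrimeSpectrum.le_iff_specializes (pt ⟨i, ⟨p, hp⟩⟩) Q).1 hqQ).map (hu i).continuous)⟩
  · induction X using Quot.ind with | _ x =>
    induction Y using Quot.ind with | _ y =>
    intro hsub
    exact (Quot.sound (hrel' y x (hmax x _ (specializes_iff_mem_closure.2 (hsub (subset_closure rfl)))))).symm
  · induction X using Quot.ind with | _ x =>
    induction Y using Quot.ind with | _ y =>
    constructor
    · rintro ⟨z, hzx, hzy⟩
      obtain ⟨i, Q, rfl⟩ := hcov z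
      have key : ∀ w : P₀, u i Q ∈ closure ({pz w} : Set Z) →
          ∃ p : minimalPrimes (Ω ⊗[R] Bs i), Quot.mk rel ⟨i, p⟩ = Quot.mk rel w ∧
            (pt ⟨i, p⟩).asIdeal ≤ Q.asIdeal := by
        intro w hw
        rw [← specializes_iff_mem_closure] at hw
        obtain ⟨Q', hQ'⟩ := hw.mem_open (hu i).isOpen_range ⟨Q, rfl⟩
        rw [← hQ'] at hw
        have hle : Q'.asIdeal ≤ Q.asIdeal :=
          (PrimeSpectrum.le_iff_specializes _ _).2 ((hu i).isInducing.specializes_iff.1 hw)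
        obtain ⟨q, hq, hqQ⟩ := Ideal.exists_minimalPrimes_le (J := Q'.asIdeal) (bot_le (a := Q'.asIdeal))
        obtain ⟨p, hp, rfl⟩ := (HB i).2.1 q hq
        have h := hmax w (pz ⟨i, ⟨p, hp⟩⟩)
          (hQ' ▸ ((PrimeSpectrum.le_iff_specializes (pt ⟨i, ⟨p, hp⟩⟩) Q').1 hqQ).map (hu i).continuous)
        exact ⟨⟨p, hp⟩, Quot.sound (hrel' _ _ h), hqQ.trans hle⟩
      obtain ⟨p, hp, hpQ⟩ := key x hzx
      obtain ⟨q, hq, hqQ⟩ := key y hzy
      exact ⟨i, p, q, hp, hq, ((HB i).2.2.2 p.1 p.2 q.1 q.2).1 fun htop =>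
        Q.isPrime.ne_top (top_le_iff.1 (htop ▸ sup_le hpQ hqQ))⟩
    · rintro ⟨i, p, q, hp, hq, hne⟩
      obtain ⟨m, hm, hle⟩ := Ideal.exists_le_maximal _ (((HB i).2.2.2 p.1 p.2 q.1 q.2).2 hne)
      rw [sup_le_iff] at hle
      have e : ∀ {v w : P₀}, Quot.mk rel v = Quot.mk rel w → closure ({pz v} : Set Z) = closure ({pz w} : Set Z) :=
        fun {v w} h => congrArg (Quot.lift (fun x => closure ({pz x} : Set Z))
          fun x y h => by simp only [hrel x y h]) h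
      refine ⟨u i ⟨m, hm.isPrime⟩, ?_, ?_⟩
      · show _ ∈ closure ({pz x} : Set Z)
        rw [← e hp, ← specializes_iff_mem_closure]
        exact ((PrimeSpectrum.le_iff_specializes (pt ⟨i, p⟩) ⟨m, hm.isPrime⟩).1 hle.1).map (hu i).continuous
      · show _ ∈ closure ({pz y} : Set Z)
        rw [← e hq, ← specializes_iff_mem_closure]
        exact ((PrimeSpectrum.le_iff_specializes (pt ⟨i, q⟩) ⟨m, hm.isPrime⟩).1 hle.2).map (hu i).continuous

end Groth.Agent.GeomIrredStrata
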