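import Groth.Agent.GeomIrredStrata.Atlas

/-!
# Component counts of glued spaces are constant near the generic point
-/

set_option autoImplicit false

universe u

open Topology
open scoped TensorProduct

namespace Groth.Agent.GeomIrredStrata

variable {R : Type u} [CommRing R]

/-- Minimal primes of the generic fibre are defined over large finitely generated subalgebras. -/
theorem exists_desc (Ω : Type u) [Field Ω] [Algebra R Ω] (B : Type u) [CommRing B] [Algebra R B]
    [Algebra.FiniteType R B] : ∃ s : Finset Ω, ∀ S : Subalgebra R Ω, ↑s ⊆ (S : Set Ω) →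
      ∀ p ∈ minimalPrimes (Ω ⊗[S] (S ⊗[R] B)), p ≤ ext S Ω Ω p := by
  classical
  have : IsNoetherianRing (Ω ⊗[R] B) := Algebra.FiniteType.isNoetherianRing Ω (Ω ⊗[R] B)
  have hfin := minimalPrimes.finite_of_isNoetherianRing (Ω ⊗[R] B)
  choose T hT using fun p : Ideal (Ω ⊗[R] B) => (IsNoetherian.noetherian p : _)
  choose s hs using fun z : Ω ⊗[R] B => exists_preimage (R := R) z
  refine ⟨hfin.toFinset.biUnion fun p => (T p).biUnion s, fun S hS p hp => ?_⟩
  let e := Algebra.TensorProduct.cancelBaseChange R S Ω Ω B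
  let p' := p.map e.toRingEquiv
  have hp' : p' ∈ minimalPrimes (Ω ⊗[R] B) := map_mem_minimalPrimes e.toRingEquiv hp
  refine le_map_comap (inc S Ω (S ⊗[R] B)) (RingHom.id _) p ((T p').image e.symm) ?_ fun x hx => ?_
  · rw [Finset.coe_image, show (e.symm : Ω ⊗[R] B → _) = e.toRingEquiv.symm.toRingHom from rfl,
      ← Ideal.map_span, show Ideal.span (T p' : Set (Ω ⊗[R] B)) = p' from hT p']
    exact Ideal.map_of_equiv e.toRingEquiv
  · obtain ⟨z, hz, rfl⟩ := Finset.mem_image.1 hx
    have hsub : ↑(s z) ⊆ (S : Set Ω) := fun w hw => hS (Finset.mem_coe.2 (Finset.mem_biUnion.2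
      ⟨p', hfin.mem_toFinset.2 hp', Finset.mem_biUnion.2 ⟨z, hz, hw⟩⟩))
    obtain ⟨w, hw⟩ := hs z S hsub
    refine ⟨w, ?_⟩
    rw [RingHom.comp_id, ← hw]
    show (1 : Ω) ⊗ₜ[S] w = e.symm _
    refine e.injective ?_
    rw [AlgEquiv.apply_symm_apply]
    clear hw
    induction w with
    | zero => simp
    | add a b ha hb => rw [TensorProduct.tmul_add, map_add, ha, hb]; exact (map_add _ a b).symm
    | tmul a b => simp [e, Algebra.smul_def]

/-- The spectra of a base change in two steps. -/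
noncomputable def cancelHomeo (S K B : Type u) [CommRing S] [CommRing K] [CommRing B] [Algebra R S]
    [Algebra R K] [Algebra S K] [IsScalarTower R S K] [Algebra R B] :
    PrimeSpectrum (K ⊗[S] (S ⊗[R] B)) ≃ₜ PrimeSpectrum (K ⊗[R] B) :=
  PrimeSpectrum.homeomorphOfRingEquiv (Algebra.TensorProduct.cancelBaseChange R S K K B).toRingEquiv

theorem cancelHomeo_bcSpec (S K : Type u) [CommRing S] [CommRing K] [Algebra R S] [Algebra R K] [Algebra S K]
    [IsScalarTower R S K] {B C : Type u} [CommRing B] [Algebra R B] [CommRing C] [Algebra R C]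
    (φ : B →ₐ[R] C) (Q : PrimeSpectrum (K ⊗[S] (S ⊗[R] C))) :
    cancelHomeo S K B (bcSpec K (Algebra.TensorProduct.map (AlgHom.id S S) φ) Q) =
      bcSpec K φ (cancelHomeo S K C Q) := by
  have key : ∀ z, Algebra.TensorProduct.map (AlgHom.id S K) (Algebra.TensorProduct.map (AlgHom.id S S) φ)
      ((Algebra.TensorProduct.cancelBaseChange R S K K B).symm z) =
      (Algebra.TensorProduct.cancelBaseChange R S K K C).symm (Algebra.TensorProduct.map (AlgHom.id R K) φ z) := by
    intro z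
    induction z with
    | zero => simp
    | add x y hx hy => simp [map_add, hx, hy]
    | tmul x y => simp
  refine PrimeSpectrum.ext (Ideal.ext fun z => ?_)
  exact iff_of_eq (congrArg (fun w => w ∈ Q.asIdeal) (key z))

variable {ι κ : Type u} {Bs : ι → Type u} [∀ i, CommRing (Bs i)]
  [∀ i, Algebra R (Bs i)] {Cs : κ → Type u} [∀ l, CommRing (Cs l)] [∀ l, Algebra R (Cs l)]
  {a b : κ → ι} {φ : ∀ l, Bs (a l) →ₐ[R] Cs l} {ψ : ∀ l, Bs (b l) →ₐ[R] Cs l}

/-- A glued space of the diagram is one of the base changed diagram. -/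
theorem Atlas.baseChange {S K : Type u} [CommRing S] [CommRing K] [Algebra R S] [Algebra R K] [Algebra S K]
    [IsScalarTower R S K] {Z : Type u} [TopologicalSpace Z] (h : Atlas Bs Cs a b φ ψ K Z) :
    Atlas (fun i => S ⊗[R] Bs i) (fun l => S ⊗[R] Cs l) a b
      (fun l => Algebra.TensorProduct.map (AlgHom.id S S) (φ l))
      (fun l => Algebra.TensorProduct.map (AlgHom.id S S) (ψ l)) K Z := by
  obtain ⟨u, hu, hcov, hv, hcomm, hint⟩ := h
  let u' : ∀ i, PrimeSpectrum (K ⊗[S] (S ⊗[R] Bs i)) → Z := fun i Q => u i (cancelHomeo S K (Bs i) Q)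
  refine ⟨u', fun i => (hu i).comp (cancelHomeo S K (Bs i)).isOpenEmbedding, fun z => ?_, fun l => ?_,
    fun l Q => ?_, fun i j Q Q' hQ => ?_⟩
  · obtain ⟨i, Q, rfl⟩ := hcov z
    exact ⟨i, (cancelHomeo S K (Bs i)).symm Q, by simp [u']⟩
  · have : u' (a l) ∘ bcSpec K (Algebra.TensorProduct.map (AlgHom.id S S) (φ l)) =
        (u (a l) ∘ bcSpec K (φ l)) ∘ cancelHomeo S K (Cs l) :=
      funext fun Q => congrArg (u (a l)) (cancelHomeo_bcSpec S K (φ l) Q)
    show IsOpenEmbedding (u' (a l) ∘ bcSpec K (Algebra.TensorProduct.map (AlgHom.id S S) (φ l)))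
    rw [this]
    exact (hv l).comp (cancelHomeo S K (Cs l)).isOpenEmbedding
  · show u (a l) _ = u (b l) _
    rw [cancelHomeo_bcSpec, cancelHomeo_bcSpec]
    exact hcomm l _
  · obtain ⟨l, W, h1, h2, h3⟩ := hint i j _ _ hQ
    refine ⟨l, (cancelHomeo S K (Cs l)).symm W, h1, h2, ?_⟩
    show u (a l) _ = u i _
    rw [cancelHomeo_bcSpec, Homeomorph.apply_symm_apply]
    exact h3

/-- The counts of glued spaces are constant near the generic point. -/
theorem atlas_near [IsDomain R] [Finite ι] [Finite κ] [∀ i, Algebra.FiniteType R (Bs i)]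
    [∀ l, Algebra.FiniteType R (Cs l)] (Ω : Type u) [Field Ω] [IsAlgClosed Ω] [Algebra R Ω] [FaithfulSMul R Ω]
    (Z₀ : Type u) [TopologicalSpace Z₀] (h₀ : Atlas Bs Cs a b φ ψ Ω Z₀) :
    Near R fun k _ _ _ => ∀ (Z : Type u) [TopologicalSpace Z], Atlas Bs Cs a b φ ψ k Z → counts Z = counts Z₀ := by
  classical
  choose sB hsB using fun i => exists_desc (R := R) Ω (Bs i)
  choose sC hsC using fun l => exists_desc (R := R) Ω (Cs l)
  have := Fintype.ofFinite ι
  have := Fintype.ofFinite κ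
  let s₀ : Finset Ω := Finset.univ.biUnion sB ∪ Finset.univ.biUnion sC
  let S := Algebra.adjoin R (s₀ : Set Ω)
  have : Algebra.FiniteType R S := Algebra.FiniteType.adjoin_of_finite s₀.finite_toSet
  have : FaithfulSMul S Ω := (faithfulSMul_iff_algebraMap_injective S Ω).2 Subtype.val_injective
  have hB : ∀ i, ↑(sB i) ⊆ (S : Set Ω) := fun i x hx => Algebra.subset_adjoin
    (Finset.mem_union_left _ (Finset.mem_biUnion.2 ⟨i, Finset.mem_univ _, hx⟩))
  have hC : ∀ l, ↑(sC l) ⊆ (S : Set Ω) := fun l x hx => Algebra.subset_adjoin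
    (Finset.mem_union_right _ (Finset.mem_biUnion.2 ⟨l, Finset.mem_univ _, hx⟩))
  obtain ⟨P, _, N, c, hc, hP⟩ := atlas_core (R := S) (Bs := fun i => S ⊗[R] Bs i) (Cs := fun l => S ⊗[R] Cs l)
    (a := a) (b := b) (fun l => Algebra.TensorProduct.map (AlgHom.id S S) (φ l))
    (fun l => Algebra.TensorProduct.map (AlgHom.id S S) (ψ l)) Ω (fun i => hsB i S (hB i))
    (fun l => hsC l S (hC l)) Z₀ h₀.baseChange
  have hpq : ∀ (k : Type u) [Field k] [IsAlgClosed k] [Algebra R k] [Algebra S k] [IsScalarTower R S k],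
      algebraMap S k c ≠ 0 → ∀ (Z : Type u) [TopologicalSpace Z], Atlas Bs Cs a b φ ψ k Z →
        counts Z = (ENat.card P, ENat.card (Quot N)) := by
    intro k _ _ _ _ _ hk Z _ hZ
    obtain ⟨F, hF⟩ := hP k hk Z hZ.baseChange
    exact Prod.ext hF.encard_irreducibleComponents hF.card_connectedComponents
  obtain ⟨c', hc', hσ⟩ := exists_point R S
    (fun x y h => FaithfulSMul.algebraMap_injective R Ω (congrArg Subtype.val h)) hc
  refine ⟨c', hc', fun k _ _ _ hk Z _ hZ => ?_⟩
  obtain ⟨σ, hσc⟩ := hσ k hk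
  let := σ.toRingHom.toAlgebra
  have : IsScalarTower R S k := IsScalarTower.of_algebraMap_eq fun x => (σ.commutes x).symm
  rw [hpq k hσc Z hZ, hpq Ω ((map_ne_zero_iff _ (FaithfulSMul.algebraMap_injective S Ω)).2 hc) Z₀ h₀]

end Groth.Agent.GeomIrredStrata
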