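import Mathlib.Topology.Irreducible
import Mathlib.Topology.Connected.Clopen
import Mathlib.SetTheory.Cardinal.Finite
import Mathlib.Data.Set.Card

/-!
# Components of a space covered by finitely many irreducible closed sets
-/

set_option autoImplicit false

universe u

open Set

namespace Groth.Agent.GeomIrredStrata

variable {Y P : Type u} [TopologicalSpace Y]

/-- An irredundant covering by irreducible closed sets, with incidence relation `N`. -/
def Good (F : P → Set Y) (N : P → P → Prop) : Prop :=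
  (∀ p, IsClosed (F p)) ∧ (∀ p, IsIrreducible (F p)) ∧ (∀ y, ∃ p, y ∈ F p) ∧
    (∀ p q, F p ⊆ F q → p = q) ∧ ∀ p q, (F p ∩ F q).Nonempty ↔ N p q

variable {F : P → Set Y} {N : P → P → Prop}

theorem Good.irreducibleComponents_eq [Finite P] (h : Good F N) : irreducibleComponents Y = range F := by
  classical
  obtain ⟨hcl, hirr, hcov, hmax, -⟩ := h
  have := Fintype.ofFinite P
  have hsub : ∀ s : Set Y, IsIrreducible s → ∃ p, s ⊆ F p := fun s hs => by
    obtain ⟨_, hmem, hz⟩ := isIrreducible_iff_sUnion_isClosed.1 hs (Finset.univ.image F)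
      (fun z hz => by
        obtain ⟨p, -, rfl⟩ := Finset.mem_image.1 hz
        exact hcl p)
      (fun y _ => by
        obtain ⟨p, hp⟩ := hcov y
        exact ⟨F p, by simp, hp⟩)
    obtain ⟨p, -, rfl⟩ := Finset.mem_image.1 hmem
    exact ⟨p, hz⟩
  ext s
  constructor
  · intro hs
    obtain ⟨p, hp⟩ := hsub s hs.1
    exact ⟨p, (hs.2 (hirr p) hp).antisymm hp⟩
  · rintro ⟨p, rfl⟩
    refine ⟨hirr p, fun t ht hpt => ?_⟩
    obtain ⟨q, hq⟩ := hsub t ht
    rw [← hmax p q (hpt.trans hq)] at hq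
    exact hq

theorem Good.encard_irreducibleComponents [Finite P] (h : Good F N) :
    (irreducibleComponents Y).encard = ENat.card P := by
  rw [h.irreducibleComponents_eq, encard, ← ENat.card_congr (Equiv.ofInjective F fun p q hpq =>
    h.2.2.2.1 p q hpq.subset)]

theorem Good.card_connectedComponents [Finite P] (h : Good F N) :
    ENat.card (ConnectedComponents Y) = ENat.card (Quot N) := by
  obtain ⟨hcl, hirr, hcov, -, hN⟩ := h
  have hcc : ∀ p, ∀ a ∈ F p, ∀ b ∈ F p, (a : ConnectedComponents Y) = b := fun p a ha b hb => by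
    rw [ConnectedComponents.coe_eq_coe']
    exact (hirr p).isConnected.isPreconnected.subset_connectedComponent hb ha
  let g : Quot N → ConnectedComponents Y := Quot.lift (fun p => ((hirr p).nonempty.some : Y)) fun p q hpq => by
    obtain ⟨x, hxp, hxq⟩ := (hN p q).2 hpq
    exact (hcc p _ (hirr p).nonempty.some_mem x hxp).trans (hcc q x hxq _ (hirr q).nonempty.some_mem)
  refine (ENat.card_congr (Equiv.ofBijective g ⟨?_, ?_⟩)).symm
  · intro a b hab
    induction a using Quot.ind with | _ p =>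
    induction b using Quot.ind with | _ q =>
    let U : Set Y := ⋃ r ∈ {r | Quot.mk N r = Quot.mk N p}, F r
    let V : Set Y := ⋃ r ∈ {r | Quot.mk N r = Quot.mk N p}ᶜ, F r
    have hUV : Uᶜ = V := by
      ext y
      simp only [U, V, mem_compl_iff, mem_iUnion, mem_setOf_eq, exists_prop]
      constructor
      · intro hy
        obtain ⟨r, hr⟩ := hcov y
        exact ⟨r, fun hrp => hy ⟨r, hrp, hr⟩, hr⟩
      · rintro ⟨r, hr, hyr⟩ ⟨r', hr', hyr'⟩
        exact hr ((Quot.sound ((hN r r').1 ⟨y, hyr, hyr'⟩)).trans hr')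
    have hclosed : ∀ T : Set P, IsClosed (⋃ r ∈ T, F r) := fun T =>
      (toFinite T).isClosed_biUnion fun r _ => hcl r
    have hU : IsClopen U := ⟨hclosed _, isClosed_compl_iff.1 (hUV ▸ hclosed _)⟩
    have hpU : (hirr p).nonempty.some ∈ U :=
      mem_biUnion (show p ∈ {r | Quot.mk N r = Quot.mk N p} from rfl) (hirr p).nonempty.some_mem
    have hqU : (hirr q).nonempty.some ∈ U :=
      hU.connectedComponent_subset hpU (ConnectedComponents.coe_eq_coe'.1 hab.symm)
    by_contra hne
    have hqV : (hirr q).nonempty.some ∈ V :=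
      mem_biUnion (show q ∈ {r | Quot.mk N r = Quot.mk N p}ᶜ from fun h => hne h.symm)
        (hirr q).nonempty.some_mem
    rw [← hUV] at hqV
    exact hqV hqU
  · intro c
    obtain ⟨y, rfl⟩ := ConnectedComponents.surjective_coe c
    obtain ⟨p, hp⟩ := hcov y
    exact ⟨Quot.mk N p, hcc p _ (hirr p).nonempty.some_mem y hp⟩

/-- A closed set which is irreducible on the members of an open cover meeting pairwise inside it. -/
theorem isIrreducible_of_cover {ι : Type*} (U : ι → Set Y) (hU : ∀ i, IsOpen (U i)) (s : Set Y)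
    (hcov : ∀ y ∈ s, ∃ i, y ∈ U i) (hne : s.Nonempty)
    (hirr : ∀ i, (s ∩ U i).Nonempty → IsIrreducible (s ∩ U i))
    (hmeet : ∀ i j, (s ∩ U i).Nonempty → (s ∩ U j).Nonempty → (s ∩ U i ∩ U j).Nonempty) :
    IsIrreducible s := by
  refine ⟨hne, fun A B hA hB ⟨a, has, haA⟩ ⟨b, hbs, hbB⟩ => ?_⟩
  obtain ⟨i, hi⟩ := hcov a has
  obtain ⟨j, hj⟩ := hcov b hbs
  have hij := hmeet i j ⟨a, has, hi⟩ ⟨b, hbs, hj⟩
  obtain ⟨x, ⟨hxs, hxi⟩, hxA, hxj⟩ := (hirr i ⟨a, has, hi⟩).2 A (U j) hA (hU j) ⟨a, ⟨has, hi⟩, haA⟩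
    (hij.imp fun x hx => ⟨⟨hx.1.1, hx.1.2⟩, hx.2⟩)
  obtain ⟨y, ⟨hys, -⟩, hyA, hyB⟩ := (hirr j ⟨b, hbs, hj⟩).2 A B hA hB ⟨x, ⟨hxs, hxj⟩, hxA⟩ ⟨b, ⟨hbs, hj⟩, hbB⟩
  exact ⟨y, hys, hyA, hyB⟩

theorem irreducibleSpace_iff_encard : IrreducibleSpace Y ↔ (irreducibleComponents Y).encard = 1 := by
  constructor
  · intro _
    rw [irreducibleComponents_eq_singleton, encard_singleton]
  · intro h
    obtain ⟨s, hs⟩ := encard_eq_one.1 h
    have hs' : s ∈ irreducibleComponents Y := hs ▸ mem_singleton s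
    have : s = univ := eq_univ_of_forall fun y => by
      have := irreducibleComponent_mem_irreducibleComponents y
      rw [hs, mem_singleton_iff] at this
      exact this ▸ mem_irreducibleComponent
    rw [irreducibleSpace_def, Set.top_eq_univ, ← this]
    exact hs'.1

theorem connectedSpace_iff_card : ConnectedSpace Y ↔ ENat.card (ConnectedComponents Y) = 1 := by
  rw [ENat.card_eq_one_iff_unique]
  constructor
  · intro h
    obtain ⟨y⟩ := h.toNonempty
    refine ⟨{ default := (y : ConnectedComponents Y), uniq := fun a => ?_ }⟩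
    obtain ⟨z, rfl⟩ := ConnectedComponents.surjective_coe a
    exact ConnectedComponents.coe_eq_coe'.2 (isPreconnected_univ.subset_connectedComponent (mem_univ y) (mem_univ z))
  · rintro ⟨hu⟩
    obtain ⟨y, hy⟩ := ConnectedComponents.surjective_coe (hu.default)
    refine connectedSpace_iff_connectedComponent.2 ⟨y, eq_univ_of_forall fun z => ?_⟩
    exact ConnectedComponents.coe_eq_coe'.1 ((hu.uniq _).trans (hu.uniq _).symm)

end Groth.Agent.GeomIrredStrata
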