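import Groth.Agent.GeomIrredStrata.Near
import Groth.Agent.GeomIrredStrata.Topology
import Mathlib.AlgebraicGeometry.PullbackCarrier
import Mathlib.AlgebraicGeometry.Morphisms.FiniteType
import Mathlib.AlgebraicGeometry.Morphisms.QuasiCompact

/-!
# The components of the geometric fibres near the generic point

For a morphism of finite type to the spectrum of a domain the components of the geometric fibres near the
generic point correspond to those of the geometric generic fibre, with the same incidences.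
-/

set_option autoImplicit false

universe u

open CategoryTheory CategoryTheory.Limits AlgebraicGeometry
open scoped TensorProduct

namespace Groth.Agent.GeomIrredStrata

/-- `1 ⊗ g` vanishes in the quotient iff it lies in the extended ideal. -/
theorem quot_eq_zero_iff {R : Type u} [CommRing R] (K : Type u) [CommRing K] [Algebra R K] {B : Type u}
    [CommRing B] [Algebra R B] (I : Ideal B) (g : B) :
    (1 : K) ⊗ₜ[R] Ideal.Quotient.mk I g = 0 ↔
      (Algebra.TensorProduct.includeRight : B →ₐ[R] K ⊗[R] B).toRingHom g ∈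
        I.map (Algebra.TensorProduct.includeRight : B →ₐ[R] K ⊗[R] B).toRingHom := by
  rw [← (Algebra.TensorProduct.tensorQuotientEquiv (R := R) K B K I).injective.eq_iff' (map_zero _),
    Algebra.TensorProduct.tensorQuotientEquiv_apply_tmul]
  exact Ideal.Quotient.eq_zero_iff_mem

/-- Near the generic point a prime of the generic fibre keeps avoiding an element. -/
theorem Near.not_mem {R : Type u} [CommRing R] [IsDomain R] (B : Type u) [CommRing B] [Algebra R B]
    [Algebra.FiniteType R B] (Ω : Type u) [Field Ω] [IsAlgClosed Ω] [Algebra R Ω] [FaithfulSMul R Ω]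
    (I : Ideal B) (hI : (I.map (Algebra.TensorProduct.includeRight : B →ₐ[R] Ω ⊗[R] B).toRingHom).IsPrime)
    (g : B) (hg : (Algebra.TensorProduct.includeRight : B →ₐ[R] Ω ⊗[R] B).toRingHom g ∉
      I.map (Algebra.TensorProduct.includeRight : B →ₐ[R] Ω ⊗[R] B).toRingHom) :
    Near R fun k _ _ _ => (Algebra.TensorProduct.includeRight : B →ₐ[R] k ⊗[R] B).toRingHom g ∉
      I.map (Algebra.TensorProduct.includeRight : B →ₐ[R] k ⊗[R] B).toRingHom := by
  have : Algebra.FiniteType R (B ⧸ I) :=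
    Algebra.FiniteType.of_surjective (Ideal.Quotient.mkₐ R I) (Ideal.Quotient.mkₐ_surjective R I)
  have := isDomain_of_isPrime_map Ω I hI
  have hg' : ¬ IsNilpotent ((1 : Ω) ⊗ₜ[R] Ideal.Quotient.mk I g) := fun h =>
    hg ((quot_eq_zero_iff Ω I g).1 h.eq_zero)
  exact (Near.not_nilpotent (B ⧸ I) Ω _ hg').mono fun k _ _ _ h hm =>
    h ((quot_eq_zero_iff k I g).2 hm ▸ IsNilpotent.zero)

variable {R : Type u} [CommRing R] {X : Scheme.{u}} (f : X ⟶ Spec (CommRingCat.of R))

/-- The base change to an algebra. -/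
noncomputable abbrev bc (K : Type u) [CommRing K] [Algebra R K] : Scheme.{u} :=
  pullback f (Spec.map (CommRingCat.ofHom (algebraMap R K)))

variable (K : Type u) [CommRing K] [Algebra R K] {B : Type u} [CommRing B] [Algebra R B]
  (j : Spec (CommRingCat.of B) ⟶ X) (hj : j ≫ f = Spec.map (CommRingCat.ofHom (algebraMap R B)))

/-- An affine piece of the base change. -/
noncomputable def pieceMap : Spec (CommRingCat.of (K ⊗[R] B)) ⟶ bc f K :=
  pullback.lift (Spec.map (CommRingCat.ofHom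
      (Algebra.TensorProduct.includeRight : B →ₐ[R] K ⊗[R] B).toRingHom) ≫ j)
    (Spec.map (CommRingCat.ofHom Algebra.TensorProduct.includeLeftRingHom)) (by
      rw [Category.assoc, hj, ← Spec.map_comp, ← Spec.map_comp, ← CommRingCat.ofHom_comp,
        ← CommRingCat.ofHom_comp]
      refine congrArg (fun φ => Spec.map (CommRingCat.ofHom φ)) (RingHom.ext fun r => ?_)
      show (1 : K) ⊗ₜ[R] algebraMap R B r = algebraMap R K r ⊗ₜ[R] (1 : B)
      rw [Algebra.algebraMap_eq_smul_one, Algebra.algebraMap_eq_smul_one, TensorProduct.smul_tmul])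

theorem isPullback_pieceMap :
    IsPullback (Spec.map (CommRingCat.ofHom
      (Algebra.TensorProduct.includeRight : B →ₐ[R] K ⊗[R] B).toRingHom))
      (pieceMap f K j hj) j (pullback.fst f (Spec.map (CommRingCat.ofHom (algebraMap R K)))) := by
  have big := (isPullback_SpecMap_of_isPushout _ _ _ _ (CommRingCat.isPushout_tensorProduct R K B)).flip
  rw [← hj] at big
  refine IsPullback.of_bot ?_ (pullback.lift_fst _ _ _).symm (IsPullback.of_hasPullback f _)
  rw [show pieceMap f K j hj ≫ pullback.snd f _ = _ from pullback.lift_snd _ _ _]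
  exact big

theorem isOpenImmersion_pieceMap [IsOpenImmersion j] : IsOpenImmersion (pieceMap f K j hj) :=
  MorphismProperty.of_isPullback (isPullback_pieceMap f K j hj) ‹IsOpenImmersion j›

theorem fst_pieceMap (q : PrimeSpectrum (K ⊗[R] B)) :
    pullback.fst f (Spec.map (CommRingCat.ofHom (algebraMap R K))) (pieceMap f K j hj q) =
      j (PrimeSpectrum.comap (Algebra.TensorProduct.includeRight : B →ₐ[R] K ⊗[R] B).toRingHom q :
        PrimeSpectrum B) := by
  rw [← Scheme.Hom.comp_apply, ← (isPullback_pieceMap f K j hj).w, Scheme.Hom.comp_apply]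
  rfl

theorem exists_pieceMap (y : bc f K) (q : PrimeSpectrum B)
    (hq : pullback.fst f (Spec.map (CommRingCat.ofHom (algebraMap R K))) y = j q) :
    ∃ Q : PrimeSpectrum (K ⊗[R] B), pieceMap f K j hj Q = y ∧
      PrimeSpectrum.comap (Algebra.TensorProduct.includeRight : B →ₐ[R] K ⊗[R] B).toRingHom Q = q := by
  obtain ⟨Q, h1, h2⟩ := Scheme.exists_preimage_of_isPullback (isPullback_pieceMap f K j hj) q y hq.symm
  exact ⟨Q, h2, h1⟩

/-- Points of an affine piece lying over the closure of a point. -/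
theorem exists_le_of_mem_closure [IsOpenImmersion j] {z : X} {Q : PrimeSpectrum (K ⊗[R] B)}
    (h : pullback.fst f (Spec.map (CommRingCat.ofHom (algebraMap R K))) (pieceMap f K j hj Q) ∈
      closure ({z} : Set X)) :
    ∃ q : PrimeSpectrum B, j q = z ∧
      q.asIdeal.map (Algebra.TensorProduct.includeRight : B →ₐ[R] K ⊗[R] B).toRingHom ≤ Q.asIdeal := by
  rw [fst_pieceMap, ← specializes_iff_mem_closure] at h
  obtain ⟨q, hq⟩ := h.mem_open j.isOpenEmbedding.isOpen_range ⟨_, rfl⟩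
  refine ⟨q, hq, Ideal.map_le_iff_le_comap.2 ?_⟩
  rw [← hq, j.isOpenEmbedding.isInducing.specializes_iff] at h
  exact (PrimeSpectrum.le_iff_specializes _ _).2 h

theorem mem_closure_of_le {z : X} {Q : PrimeSpectrum (K ⊗[R] B)} {q : PrimeSpectrum B} (hq : j q = z)
    (h : q.asIdeal.map (Algebra.TensorProduct.includeRight : B →ₐ[R] K ⊗[R] B).toRingHom ≤ Q.asIdeal) :
    pullback.fst f (Spec.map (CommRingCat.ofHom (algebraMap R K))) (pieceMap f K j hj Q) ∈
      closure ({z} : Set X) := by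
  rw [fst_pieceMap, ← specializes_iff_mem_closure, ← hq]
  exact ((PrimeSpectrum.le_iff_specializes q _).1 (Ideal.map_le_iff_le_comap.1 h)).map j.continuous

variable {f}

set_option maxHeartbeats 2000000 in
/-- The combinatorics of the components of the geometric fibres near the generic point, when all the
components of the geometric generic fibre are defined over the base. -/
theorem core [IsDomain R] {ι : Type u} [Finite ι] (Bs : ι → Type u) [∀ i, CommRing (Bs i)]
    [∀ i, Algebra R (Bs i)] [∀ i, Algebra.FiniteType R (Bs i)] (js : ∀ i, Spec (CommRingCat.of (Bs i)) ⟶ X)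
    [∀ i, IsOpenImmersion (js i)]
    (hjs : ∀ i, js i ≫ f = Spec.map (CommRingCat.ofHom (algebraMap R (Bs i))))
    (hcov : ∀ x : X, ∃ i, x ∈ Set.range (js i)) (Ω : Type u) [Field Ω] [IsAlgClosed Ω] [Algebra R Ω]
    [FaithfulSMul R Ω]
    (hdesc : ∀ i, ∀ p ∈ minimalPrimes (Ω ⊗[R] Bs i),
      p ≤ (p.comap (Algebra.TensorProduct.includeRight : Bs i →ₐ[R] Ω ⊗[R] Bs i).toRingHom).map
        (Algebra.TensorProduct.includeRight : Bs i →ₐ[R] Ω ⊗[R] Bs i).toRingHom) :
    ∃ (P : Type u) (_ : Finite P) (N : P → P → Prop),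
      Near R fun k _ _ _ => ∃ F : P → Set ↥(bc f k), Good F N := by
  classical
  have hnoeth : ∀ i, IsNoetherianRing (Ω ⊗[R] Bs i) := fun i =>
    Algebra.FiniteType.isNoetherianRing Ω (Ω ⊗[R] Bs i)
  have : ∀ i, Finite (minimalPrimes (Ω ⊗[R] Bs i)) := fun i =>
    (minimalPrimes.finite_of_isNoetherianRing _).to_subtype
  let inc := fun (K : Type u) [CommRing K] [Algebra R K] (i : ι) =>
    (Algebra.TensorProduct.includeRight : Bs i →ₐ[R] K ⊗[R] Bs i).toRingHom
  let zf : (Σ i, minimalPrimes (Ω ⊗[R] Bs i)) → X := fun ip =>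
    js ip.1 (PrimeSpectrum.comap (inc Ω ip.1) ⟨ip.2.1, Ideal.IsMinimalPrime.isPrime ip.2.2⟩ : PrimeSpectrum _)
  let P : Type u := Set.range zf
  have hinj : ∀ i, Function.Injective (js i) := fun i => (js i).isOpenEmbedding.injective
  -- at every piece, such a point is a minimal prime of the generic fibre
  have hkey : ∀ (z : P) (i : ι) (q : PrimeSpectrum (Bs i)), js i q = z.1 →
      (q.asIdeal.map (inc Ω i)).IsPrime ∧ (q.asIdeal.map (inc Ω i)).comap (inc Ω i) = q.asIdeal ∧
      q.asIdeal.map (inc Ω i) ∈ minimalPrimes (Ω ⊗[R] Bs i) := by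
    rintro ⟨z, ⟨i₀, p₀⟩, rfl⟩ i q hq
    let P₀ : PrimeSpectrum (Ω ⊗[R] Bs i₀) := ⟨p₀.1, Ideal.IsMinimalPrime.isPrime p₀.2⟩
    let ξ := pieceMap f Ω (js i₀) (hjs i₀) P₀
    obtain ⟨Q, hQξ, hQq⟩ := exists_pieceMap f Ω (js i) (hjs i) ξ q
      ((fst_pieceMap f Ω (js i₀) (hjs i₀) P₀).trans hq.symm)
    obtain ⟨p', hp', hp'Q⟩ := Ideal.exists_minimalPrimes_le (J := Q.asIdeal) (bot_le (a := Q.asIdeal))
    let Q' : PrimeSpectrum (Ω ⊗[R] Bs i) := ⟨p', Ideal.IsMinimalPrime.isPrime hp'⟩
    have hsp : pieceMap f Ω (js i) (hjs i) Q' ⤳ ξ :=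
      hQξ ▸ ((PrimeSpectrum.le_iff_specializes Q' Q).1 hp'Q).map (pieceMap f Ω (js i) (hjs i)).continuous
    have := isOpenImmersion_pieceMap f Ω (js i₀) (hjs i₀)
    have := isOpenImmersion_pieceMap f Ω (js i) (hjs i)
    obtain ⟨P'', hP''⟩ := hsp.mem_open (pieceMap f Ω (js i₀) (hjs i₀)).isOpenEmbedding.isOpen_range ⟨P₀, rfl⟩
    rw [← hP'', (pieceMap f Ω (js i₀) (hjs i₀)).isOpenEmbedding.isInducing.specializes_iff] at hsp
    have hle : P''.asIdeal ≤ p₀.1 := (PrimeSpectrum.le_iff_specializes _ _).2 hsp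
    have heq : P'' = P₀ := PrimeSpectrum.ext (le_antisymm hle
      (p₀.2.2 ⟨P''.isPrime, bot_le⟩ hle))
    have hQQ' : Q' = Q := (pieceMap f Ω (js i) (hjs i)).isOpenEmbedding.injective (by
      rw [← hP'', heq, hQξ])
    have hpq : p'.comap (inc Ω i) = q.asIdeal := by
      rw [← hQq, ← hQQ']; rfl
    have hmap : q.asIdeal.map (inc Ω i) = p' := by
      rw [← hpq]; exact le_antisymm Ideal.map_comap_le (hdesc i p' hp')
    rw [hmap]
    exact ⟨Ideal.IsMinimalPrime.isPrime hp', hpq, hp'⟩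
  -- near the generic point the extended ideals are prime
  have hft : ∀ i (I : Ideal (Bs i)), Algebra.FiniteType R (Bs i ⧸ I) := fun i I =>
    Algebra.FiniteType.of_surjective (Ideal.Quotient.mkₐ R I) (Ideal.Quotient.mkₐ_surjective R I)
  have hone : ∀ (z : P) (i : ι) {Φ : ∀ (k : Type u) [Field k] [IsAlgClosed k] [Algebra R k],
      PrimeSpectrum (Bs i) → Prop},
      (∀ q : PrimeSpectrum (Bs i), js i q = z.1 → Near R fun k _ _ _ => Φ k q) →
      Near R fun k _ _ _ => ∀ q : PrimeSpectrum (Bs i), js i q = z.1 → Φ k q := by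
    intro z i Φ h
    by_cases hex : ∃ q, js i q = z.1
    · obtain ⟨q, hq⟩ := hex
      exact (h q hq).mono fun k _ _ _ hk q' hq' => by rwa [hinj i (hq'.trans hq.symm)]
    · exact ⟨1, one_ne_zero, fun k _ _ _ _ q hq => absurd ⟨q, hq⟩ hex⟩
  have hA : Near R fun k _ _ _ => ∀ (z : P) (i : ι) (q : PrimeSpectrum (Bs i)), js i q = z.1 →
      (q.asIdeal.map (inc k i)).IsPrime :=
    Near.all fun z => Near.all fun i => hone z i fun q hq => by
      have := hft i q.asIdeal
      have := isDomain_of_isPrime_map Ω q.asIdeal (hkey z i q hq).1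
      exact (Near.isDomain (Bs i ⧸ q.asIdeal) Ω).mono fun k _ _ _ h => isPrime_map_of_isDomain (S := R) k q.asIdeal
  -- and stay in any given open set
  have hO : ∀ (z : P) (i : ι) (O : Set X), IsOpen O → z.1 ∈ O →
      Near R fun k _ _ _ => ∀ q : PrimeSpectrum (Bs i), js i q = z.1 → ∀ Q : PrimeSpectrum (k ⊗[R] Bs i),
        Q.asIdeal = q.asIdeal.map (inc k i) → js i (PrimeSpectrum.comap (inc k i) Q : PrimeSpectrum _) ∈ O := by
    intro z i O hO hzO
    refine hone z i fun q hq => ?_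
    obtain ⟨_, ⟨g, rfl⟩, hgq, hgO⟩ := PrimeSpectrum.isTopologicalBasis_basic_opens.exists_subset_of_mem_open
      (show js i q ∈ O from hq.symm ▸ hzO : q ∈ (js i) ⁻¹' O) (hO.preimage (js i).continuous)
    obtain ⟨hp, hcm, -⟩ := hkey z i q hq
    have hg : inc Ω i g ∉ q.asIdeal.map (inc Ω i) := fun h => hgq (hcm ▸ Ideal.mem_comap.2 h)
    refine (Near.not_mem (Bs i) Ω q.asIdeal hp g hg).mono fun k _ _ _ h Q hQ => hgO ?_
    show g ∉ (PrimeSpectrum.comap (inc k i) Q).asIdeal
    rw [PrimeSpectrum.comap_asIdeal, Ideal.mem_comap, hQ]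
    exact h
  have hmeet : Near R fun k _ _ _ => ∀ (z : P) (i i' : ι) (q : PrimeSpectrum (Bs i)), js i q = z.1 →
      ∀ Q : PrimeSpectrum (k ⊗[R] Bs i), Q.asIdeal = q.asIdeal.map (inc k i) → z.1 ∈ Set.range (js i') →
        js i (PrimeSpectrum.comap (inc k i) Q : PrimeSpectrum _) ∈ Set.range (js i') :=
    Near.all fun z => Near.all fun i => Near.all fun i' => by
      by_cases h : z.1 ∈ Set.range (js i')
      · exact (hO z i _ (js i').isOpenEmbedding.isOpen_range h).mono fun k _ _ _ hk q hq Q hQ _ => hk q hq Q hQ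
      · exact ⟨1, one_ne_zero, fun k _ _ _ _ q hq Q hQ h' => absurd h' h⟩
  have hout : Near R fun k _ _ _ => ∀ (z z' : P) (i : ι) (q : PrimeSpectrum (Bs i)), js i q = z.1 →
      z ≠ z' → ∀ Q : PrimeSpectrum (k ⊗[R] Bs i), Q.asIdeal = q.asIdeal.map (inc k i) →
        js i (PrimeSpectrum.comap (inc k i) Q : PrimeSpectrum _) ∉ closure ({z'.1} : Set X) := by
    refine Near.all fun z => Near.all fun z' => Near.all fun i => hone z i fun q hq => ?_
    by_cases hne : z = z'
    · exact ⟨1, one_ne_zero, fun k _ _ _ _ h => absurd hne h⟩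
    have hz : z.1 ∈ (closure ({z'.1} : Set X))ᶜ := by
      intro hmem
      rw [← specializes_iff_mem_closure] at hmem
      obtain ⟨q', hq'⟩ := hmem.mem_open (js i).isOpenEmbedding.isOpen_range ⟨q, hq⟩
      rw [← hq, ← hq', (js i).isOpenEmbedding.isInducing.specializes_iff] at hmem
      have hle : q'.asIdeal ≤ q.asIdeal := (PrimeSpectrum.le_iff_specializes _ _).2 hmem
      obtain ⟨hp', hc', -⟩ := hkey z' i q' hq'
      obtain ⟨-, hc, hmin⟩ := hkey z i q hq
      have heq := le_antisymm (hmin.2 ⟨hp', bot_le⟩ (Ideal.map_mono hle)) (Ideal.map_mono hle)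
      refine hne (Subtype.ext ?_)
      rw [← hq, ← hq']
      exact congrArg _ (PrimeSpectrum.ext (hc.symm.trans (heq ▸ hc')))
    exact (hO z i _ isClosed_closure.isOpen_compl hz).mono fun k _ _ _ h _ Q hQ => h q hq Q hQ
  -- every prime contains one of them
  have hC : Near R fun k _ _ _ => ∀ (i : ι) (y : Bs i), (1 : Ω) ⊗ₜ[R] y = 0 → (1 : k) ⊗ₜ[R] y = 0 :=
    Near.all fun i => vanish_near R (Bs i) Ω
  -- incidences
  let N : P → P → Prop := fun z z' => ∃ (i : ι) (q q' : PrimeSpectrum (Bs i)), js i q = z.1 ∧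
    js i q' = z'.1 ∧ (q.asIdeal ⊔ q'.asIdeal).map (inc Ω i) ≠ ⊤
  have hE : Near R fun k _ _ _ => ∀ (z z' : P) (i : ι) (q : PrimeSpectrum (Bs i)), js i q = z.1 →
      ∀ q' : PrimeSpectrum (Bs i), js i q' = z'.1 →
        ((q.asIdeal ⊔ q'.asIdeal).map (inc k i) ≠ ⊤ ↔ (q.asIdeal ⊔ q'.asIdeal).map (inc Ω i) ≠ ⊤) := by
    refine Near.all fun z => Near.all fun z' => Near.all fun i => hone z i fun q hq => hone z' i fun q' hq' => ?_
    have := hft i (q.asIdeal ⊔ q'.asIdeal)
    by_cases hn : Nontrivial (Ω ⊗[R] (Bs i ⧸ (q.asIdeal ⊔ q'.asIdeal)))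
    · exact (Near.nontrivial (Bs i ⧸ (q.asIdeal ⊔ q'.asIdeal)) Ω).mono fun k _ _ _ h =>
        iff_of_true ((nontrivial_iff_map_ne_top k _).1 h) ((nontrivial_iff_map_ne_top Ω _).1 hn)
    · have := not_nontrivial_iff_subsingleton.1 hn
      exact (Near.subsingleton (Bs i ⧸ (q.asIdeal ⊔ q'.asIdeal)) Ω).mono fun k _ _ _ h =>
        iff_of_false (fun h' => not_nontrivial_iff_subsingleton.2 h ((nontrivial_iff_map_ne_top k _).2 h'))
          fun h' => hn ((nontrivial_iff_map_ne_top Ω _).2 h')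
  refine ⟨P, inferInstance, N, ((((hA.and hmeet).and hout).and hC).and hE).mono ?_⟩
  rintro k _ _ _ ⟨⟨⟨⟨hA, hmeet⟩, hout⟩, hC⟩, hE⟩
  let π := pullback.fst f (Spec.map (CommRingCat.ofHom (algebraMap R k)))
  let pm := fun i => pieceMap f k (js i) (hjs i)
  have hpm : ∀ i, IsOpenImmersion (pm i) := fun i => isOpenImmersion_pieceMap f k (js i) (hjs i)
  let F : P → Set ↥(bc f k) := fun z => π ⁻¹' closure {z.1}
  have hpiece : ∀ y : bc f k, ∃ (i : ι) (Q : PrimeSpectrum (k ⊗[R] Bs i)), pm i Q = y := fun y => by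
    obtain ⟨i, q, hq⟩ := hcov (π y)
    obtain ⟨Q, hQ, -⟩ := exists_pieceMap f k (js i) (hjs i) y q hq.symm
    exact ⟨i, Q, hQ⟩
  have hgen : ∀ (z : P) (i : ι) (q : PrimeSpectrum (Bs i)) (hq : js i q = z.1),
      pm i (⟨_, hA z i q hq⟩ : PrimeSpectrum (k ⊗[R] Bs i)) ∈ F z := fun z i q hq =>
    mem_closure_of_le f k (js i) (hjs i) hq le_rfl
  refine ⟨F, fun z => isClosed_closure.preimage π.continuous, fun z => ?_, fun y => ?_, ?_, ?_⟩
  · refine isIrreducible_of_cover (fun i => Set.range (pm i)) (fun i => (pm i).isOpenEmbedding.isOpen_range)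
      (F z) (fun y _ => let ⟨i, Q, hQ⟩ := hpiece y; ⟨i, Q, hQ⟩) ?_ ?_ ?_
    · obtain ⟨i, q, hq⟩ := hcov z.1
      exact ⟨_, hgen z i q hq⟩
    · rintro i ⟨_, hy, Q, rfl⟩
      obtain ⟨q, hq, -⟩ := exists_le_of_mem_closure f k (js i) (hjs i) hy
      have heq : F z ∩ Set.range (pm i) =
          pm i '' PrimeSpectrum.zeroLocus (q.asIdeal.map (inc k i) : Set (k ⊗[R] Bs i)) := by
        ext y
        constructor
        · rintro ⟨hy, Q', rfl⟩
          obtain ⟨q', hq', hle⟩ := exists_le_of_mem_closure f k (js i) (hjs i) hy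
          rw [hinj i (hq'.trans hq.symm)] at hle
          exact ⟨Q', hle, rfl⟩
        · rintro ⟨Q', hQ', rfl⟩
          exact ⟨mem_closure_of_le f k (js i) (hjs i) hq hQ', Q', rfl⟩
      rw [heq]
      refine IsIrreducible.image ?_ _ (pm i).continuous.continuousOn
      have := hA z i q hq
      show IsIrreducible (X := PrimeSpectrum (k ⊗[R] Bs i)) _
      rw [PrimeSpectrum.isIrreducible_zeroLocus_iff, this.radical]
      exact this
    · rintro i i' ⟨_, hy, Q, rfl⟩ ⟨_, hy', Q', rfl⟩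
      obtain ⟨q, hq, -⟩ := exists_le_of_mem_closure f k (js i) (hjs i) hy
      obtain ⟨q', hq', -⟩ := exists_le_of_mem_closure f k (js i') (hjs i') hy'
      refine ⟨_, ⟨hgen z i q hq, ⟨_, rfl⟩⟩, ?_⟩
      obtain ⟨w, hw⟩ := hmeet z i i' q hq ⟨_, hA z i q hq⟩ rfl ⟨q', hq'⟩
      obtain ⟨W, hW, -⟩ := exists_pieceMap f k (js i') (hjs i') (pm i ⟨_, hA z i q hq⟩) w
        ((fst_pieceMap f k (js i) (hjs i) _).trans hw.symm)
      exact ⟨W, hW⟩
  · obtain ⟨i, Q, rfl⟩ := hpiece y
    have hfin := minimalPrimes.finite_of_isNoetherianRing (Ω ⊗[R] Bs i)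
    let S := hfin.toFinset
    have hprod : ∏ p ∈ S, p.comap (inc Ω i) ≤ Q.asIdeal.comap (inc k i) := by
      intro x hx
      have h1 : ∀ p ∈ S, x ∈ p.comap (inc Ω i) := fun p hp => (Ideal.prod_le_inf.trans (Finset.inf_le hp)) hx
      have h2 : inc Ω i x ∈ (⊥ : Ideal (Ω ⊗[R] Bs i)).radical := by
        rw [← Ideal.sInf_minimalPrimes, Submodule.mem_sInf]
        exact fun p hp => h1 p (hfin.mem_toFinset.2 hp)
      obtain ⟨m, hm⟩ := h2
      rw [Ideal.mem_bot, ← map_pow] at hm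
      refine Ideal.mem_comap.2 (Q.isPrime.mem_of_pow_mem m ?_)
      rw [← map_pow, show inc k i (x ^ m) = 0 from hC i _ hm]
      exact zero_mem _
    obtain ⟨p, hp, hle⟩ := ((Ideal.IsPrime.comap (inc k i)).prod_le).1 hprod
    refine ⟨⟨_, ⟨i, ⟨p, hfin.mem_toFinset.1 hp⟩⟩, rfl⟩, ?_⟩
    exact mem_closure_of_le f k (js i) (hjs i) rfl (Ideal.map_le_iff_le_comap.2 hle)
  · intro z z' hsub
    by_contra hne
    obtain ⟨i, q, hq⟩ := hcov z.1
    have := hsub (hgen z i q hq)
    rw [Set.mem_preimage, show π (pm i _) = _ from fst_pieceMap f k (js i) (hjs i) _] at this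
    exact hout z z' i q hq hne ⟨_, hA z i q hq⟩ rfl this
  · intro z z'
    constructor
    · rintro ⟨y, hy, hy'⟩
      obtain ⟨i, Q, rfl⟩ := hpiece y
      obtain ⟨q, hq, hle⟩ := exists_le_of_mem_closure f k (js i) (hjs i) hy
      obtain ⟨q', hq', hle'⟩ := exists_le_of_mem_closure f k (js i) (hjs i) hy'
      refine ⟨i, q, q', hq, hq', (hE z z' i q hq q' hq').1 fun htop => Q.isPrime.ne_top (top_le_iff.1 ?_)⟩
      rw [← htop, Ideal.map_sup]
      exact sup_le hle hle'
    · rintro ⟨i, q, q', hq, hq', hne⟩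
      obtain ⟨m, hm, hle⟩ := Ideal.exists_le_maximal _ ((hE z z' i q hq q' hq').2 hne)
      rw [Ideal.map_sup, sup_le_iff] at hle
      exact ⟨pm i ⟨m, hm.isPrime⟩, mem_closure_of_le f k (js i) (hjs i) hq hle.1,
        mem_closure_of_le f k (js i) (hjs i) hq' hle.2⟩

end Groth.Agent.GeomIrredStrata
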