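import Groth.Agent.FlatMorLib.Approx

/-!
# Finite diagrams of finitely presented algebras come from a finitely generated base
-/

set_option autoImplicit false

universe u

open TensorProduct

namespace Groth.Agent.GeomIrredStrata

/-- Models of finitely many finitely presented algebras over one finitely generated subring. -/
theorem exists_models (A : Type u) [CommRing A] {ι κ : Type u} [Finite ι] [Finite κ] (B : ι → Type u)
    [∀ i, CommRing (B i)] [∀ i, Algebra A (B i)] [∀ i, Algebra.FinitePresentation A (B i)] (C : κ → Type u)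
    [∀ l, CommRing (C l)] [∀ l, Algebra A (C l)] [∀ l, Algebra.FinitePresentation A (C l)] :
    ∃ (R : Subalgebra ℤ A) (_ : Algebra.FiniteType ℤ R) (B₀ : ι → Type u) (_ : ∀ i, CommRing (B₀ i))
      (_ : ∀ i, Algebra R (B₀ i)) (_ : ∀ i, Algebra.FinitePresentation R (B₀ i))
      (C₀ : κ → Type u) (_ : ∀ l, CommRing (C₀ l))
      (_ : ∀ l, Algebra R (C₀ l)) (_ : ∀ l, Algebra.FinitePresentation R (C₀ l)),
      (∀ i, Nonempty (A ⊗[R] B₀ i ≃ₐ[A] B i)) ∧ ∀ l, Nonempty (A ⊗[R] C₀ l ≃ₐ[A] C l) := by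
  let P := fun i => Algebra.Presentation.ofFinitePresentation A (B i)
  let Q := fun l => Algebra.Presentation.ofFinitePresentation A (C l)
  let R : Subalgebra ℤ A := Algebra.adjoin ℤ ((⋃ i, (P i).coeffs) ∪ ⋃ l, (Q l).coeffs)
  have hR : Algebra.FiniteType ℤ R := Algebra.FiniteType.adjoin_of_finite
    ((Set.finite_iUnion fun i => (P i).finite_coeffs).union (Set.finite_iUnion fun l => (Q l).finite_coeffs))
  have hc : ∀ i, (P i).HasCoeffs R := fun i => ⟨fun x hx =>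
    ⟨⟨x, Algebra.subset_adjoin (Or.inl (Set.mem_iUnion.2 ⟨i, hx⟩))⟩, rfl⟩⟩
  have hd : ∀ l, (Q l).HasCoeffs R := fun l => ⟨fun x hx =>
    ⟨⟨x, Algebra.subset_adjoin (Or.inr (Set.mem_iUnion.2 ⟨l, hx⟩))⟩, rfl⟩⟩
  exact ⟨R, hR, fun i => (P i).ModelOfHasCoeffs R, inferInstance, inferInstance, inferInstance,
    fun l => (Q l).ModelOfHasCoeffs R, inferInstance, inferInstance, inferInstance,
    fun i => ⟨(P i).tensorModelOfHasCoeffsEquiv R⟩, fun l => ⟨(Q l).tensorModelOfHasCoeffsEquiv R⟩⟩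

/-- A finite diagram of finitely presented algebras comes from a finitely generated subring. -/
theorem exists_diagram_model (A : Type u) [CommRing A] {ι κ : Type u} [Finite ι] [Finite κ] (B : ι → Type u)
    [∀ i, CommRing (B i)] [∀ i, Algebra A (B i)] [∀ i, Algebra.FinitePresentation A (B i)] (C : κ → Type u)
    [∀ l, CommRing (C l)] [∀ l, Algebra A (C l)] [∀ l, Algebra.FinitePresentation A (C l)]
    (a b : κ → ι) (φ : ∀ l, B (a l) →ₐ[A] C l) (ψ : ∀ l, B (b l) →ₐ[A] C l) :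
    ∃ (R : Type u) (_ : CommRing R) (_ : IsNoetherianRing R) (_ : Algebra R A) (B₀ : ι → Type u)
      (_ : ∀ i, CommRing (B₀ i)) (_ : ∀ i, Algebra R (B₀ i)) (_ : ∀ i, Algebra.FiniteType R (B₀ i))
      (C₀ : κ → Type u) (_ : ∀ l, CommRing (C₀ l)) (_ : ∀ l, Algebra R (C₀ l))
      (_ : ∀ l, Algebra.FiniteType R (C₀ l)) (eB : ∀ i, A ⊗[R] B₀ i ≃ₐ[A] B i)
      (eC : ∀ l, A ⊗[R] C₀ l ≃ₐ[A] C l) (φ₀ : ∀ l, B₀ (a l) →ₐ[R] C₀ l) (ψ₀ : ∀ l, B₀ (b l) →ₐ[R] C₀ l),
      (∀ l x, eC l ((1 : A) ⊗ₜ φ₀ l x) = φ l (eB (a l) ((1 : A) ⊗ₜ x))) ∧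
      ∀ l x, eC l ((1 : A) ⊗ₜ ψ₀ l x) = ψ l (eB (b l) ((1 : A) ⊗ₜ x)) := by
  classical
  obtain ⟨R₁, hR₁, B₁, _, _, _, C₁, _, _, _, heB, heC⟩ := exists_models A B C
  let eB₁ : ∀ i, A ⊗[R₁] B₁ i ≃ₐ[A] B i := fun i => (heB i).some
  let eC₁ : ∀ l, A ⊗[R₁] C₁ l ≃ₐ[A] C l := fun l => (heC l).some
  choose Aφ hAφ φ' hφ' using fun l => FlatMorLib.Approx.exists_fg_lift
    ((((eC₁ l).symm.toAlgHom.comp ((φ l).comp (eB₁ (a l)).toAlgHom)).restrictScalars R₁).comp
      Algebra.TensorProduct.includeRight)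
  choose Aψ hAψ ψ' hψ' using fun l => FlatMorLib.Approx.exists_fg_lift
    ((((eC₁ l).symm.toAlgHom.comp ((ψ l).comp (eB₁ (b l)).toAlgHom)).restrictScalars R₁).comp
      Algebra.TensorProduct.includeRight)
  have := Fintype.ofFinite κ
  let A' : Subalgebra R₁ A := Finset.univ.sup fun l => Aφ l ⊔ Aψ l
  have hA' : A'.FG := Finset.sup_induction Subalgebra.fg_bot (fun x hx y hy => hx.sup hy)
    fun l _ => (hAφ l).sup (hAψ l)
  have hφle : ∀ l, Aφ l ≤ A' := fun l => le_sup_left.trans (Finset.le_sup (f := fun l => Aφ l ⊔ Aψ l) (Finset.mem_univ l))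
  have hψle : ∀ l, Aψ l ≤ A' := fun l => le_sup_right.trans (Finset.le_sup (f := fun l => Aφ l ⊔ Aψ l) (Finset.mem_univ l))
  have : Algebra.FiniteType R₁ A' := A'.fg_iff_finiteType.mp hA'
  have : Algebra.FiniteType ℤ A' := hR₁.trans this
  let eB : ∀ i, A ⊗[A'] (A' ⊗[R₁] B₁ i) ≃ₐ[A] B i := fun i =>
    (Algebra.TensorProduct.cancelBaseChange R₁ A' A A _).trans (eB₁ i)
  let eC : ∀ l, A ⊗[A'] (A' ⊗[R₁] C₁ l) ≃ₐ[A] C l := fun l =>
    (Algebra.TensorProduct.cancelBaseChange R₁ A' A A _).trans (eC₁ l)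
  have hval : ∀ (E : Type u) [CommRing E] [Algebra R₁ E] (w : A' ⊗[R₁] E),
      Algebra.TensorProduct.cancelBaseChange R₁ A' A A E ((1 : A) ⊗ₜ[A'] w) = FlatMorLib.Approx.valT E A' w := by
    intro E _ _ w
    induction w with
    | zero => simp
    | add x y hx hy => rw [TensorProduct.tmul_add, map_add, map_add, hx, hy]
    | tmul x y => simp [FlatMorLib.Approx.valT, Algebra.smul_def]
  refine ⟨A', inferInstance, Algebra.FiniteType.isNoetherianRing ℤ A', inferInstance,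
    fun i => A' ⊗[R₁] B₁ i, inferInstance, inferInstance, inferInstance,
    fun l => A' ⊗[R₁] C₁ l, inferInstance, inferInstance, inferInstance, eB, eC,
    fun l => FlatMorLib.Approx.ext' ((FlatMorLib.Approx.incT _ (hφle l)).comp (φ' l)),
    fun l => FlatMorLib.Approx.ext' ((FlatMorLib.Approx.incT _ (hψle l)).comp (ψ' l)), fun l x => ?_, fun l x => ?_⟩
  · show eC₁ l (Algebra.TensorProduct.cancelBaseChange R₁ A' A A _ _) =
      φ l (eB₁ (a l) (Algebra.TensorProduct.cancelBaseChange R₁ A' A A _ _))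
    rw [hval, hval, FlatMorLib.Approx.valT_ext' _ ((eC₁ l).symm.toAlgHom.comp ((φ l).comp (eB₁ (a l)).toAlgHom))
      (by rw [← AlgHom.comp_assoc, FlatMorLib.Approx.valT_comp_incT, hφ' l]; rfl)]
    exact (eC₁ l).apply_symm_apply _
  · show eC₁ l (Algebra.TensorProduct.cancelBaseChange R₁ A' A A _ _) =
      ψ l (eB₁ (b l) (Algebra.TensorProduct.cancelBaseChange R₁ A' A A _ _))
    rw [hval, hval, FlatMorLib.Approx.valT_ext' _ ((eC₁ l).symm.toAlgHom.comp ((ψ l).comp (eB₁ (b l)).toAlgHom))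
      (by rw [← AlgHom.comp_assoc, FlatMorLib.Approx.valT_comp_incT, hψ' l]; rfl)]
    exact (eC₁ l).apply_symm_apply _

end Groth.Agent.GeomIrredStrata
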