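import Groth.Agent.GeomIrredStrata.AtlasNear
import Groth.Agent.GeomIrredStrata.DiagramModel
import Groth.Agent.GeomIrredStrata.GeomFibre
import Groth.Agent.ConstrSets.Basic
import Groth.Agent.Weighting.Constructible
import Mathlib.AlgebraicGeometry.Morphisms.FinitePresentation
import Mathlib.AlgebraicGeometry.Morphisms.QuasiSeparated

/-!
# Constructibility of the level sets of the numbers of geometric components
-/

set_option autoImplicit false

universe u

open CategoryTheory CategoryTheory.Limits AlgebraicGeometry Topology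
open scoped TensorProduct

namespace Groth.Agent.GeomIrredStrata

/-- Affine pieces are functorial. -/
theorem pieceMap_bcSpec {A : Type u} [CommRing A] {X : Scheme.{u}} (f : X ⟶ Spec (CommRingCat.of A))
    (K : Type u) [CommRing K] [Algebra A K] {B C : Type u} [CommRing B] [Algebra A B] [CommRing C] [Algebra A C]
    (j : Spec (CommRingCat.of B) ⟶ X) (hj : j ≫ f = Spec.map (CommRingCat.ofHom (algebraMap A B)))
    (j' : Spec (CommRingCat.of C) ⟶ X) (hj' : j' ≫ f = Spec.map (CommRingCat.ofHom (algebraMap A C)))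
    (φ : B →ₐ[A] C) (h : Spec.map (CommRingCat.ofHom φ.toRingHom) ≫ j = j') (Q : PrimeSpectrum (K ⊗[A] C)) :
    pieceMap f K j hj (bcSpec K φ Q) = pieceMap f K j' hj' Q := by
  have key : Spec.map (CommRingCat.ofHom (Algebra.TensorProduct.map (AlgHom.id A K) φ).toRingHom) ≫
      pieceMap f K j hj = pieceMap f K j' hj' := by
    apply pullback.hom_ext
    · simp only [pieceMap, Category.assoc, pullback.lift_fst]
      rw [← h, ← Spec.map_comp_assoc, ← Spec.map_comp_assoc, ← CommRingCat.ofHom_comp, ← CommRingCat.ofHom_comp]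
      refine congrArg (fun g => Spec.map (CommRingCat.ofHom g) ≫ j) (RingHom.ext fun x => ?_)
      show Algebra.TensorProduct.map (AlgHom.id A K) φ ((1 : K) ⊗ₜ[A] x) = (1 : K) ⊗ₜ[A] φ x
      rw [Algebra.TensorProduct.map_tmul, AlgHom.id_apply]
    · simp only [pieceMap, Category.assoc, pullback.lift_snd]
      rw [← Spec.map_comp, ← CommRingCat.ofHom_comp]
      refine congrArg (fun g => Spec.map (CommRingCat.ofHom g)) (RingHom.ext fun x => ?_)
      show Algebra.TensorProduct.map (AlgHom.id A K) φ (x ⊗ₜ[A] (1 : B)) = x ⊗ₜ[A] (1 : C)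
      rw [Algebra.TensorProduct.map_tmul, AlgHom.id_apply, map_one]
  rw [← key, Scheme.Hom.comp_apply]
  rfl

/-- The spectrum of a fibre of a model. -/
noncomputable def modelHomeo {R A : Type u} [CommRing R] [CommRing A] [Algebra R A] (K : Type u) [CommRing K]
    [Algebra A K] [Algebra R K] [IsScalarTower R A K] {B B₀ : Type u} [CommRing B] [Algebra A B] [CommRing B₀]
    [Algebra R B₀] (e : A ⊗[R] B₀ ≃ₐ[A] B) : PrimeSpectrum (K ⊗[R] B₀) ≃ₜ PrimeSpectrum (K ⊗[A] B) :=
  (cancelHomeo A K B₀).symm.trans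
    (PrimeSpectrum.homeomorphOfRingEquiv (Algebra.TensorProduct.congr (AlgEquiv.refl : K ≃ₐ[A] K) e).toRingEquiv)

theorem modelHomeo_bcSpec {R A : Type u} [CommRing R] [CommRing A] [Algebra R A] (K : Type u) [CommRing K]
    [Algebra A K] [Algebra R K] [IsScalarTower R A K] {B B₀ C C₀ : Type u} [CommRing B] [Algebra A B]
    [CommRing B₀] [Algebra R B₀] [CommRing C] [Algebra A C] [CommRing C₀] [Algebra R C₀]
    (eB : A ⊗[R] B₀ ≃ₐ[A] B) (eC : A ⊗[R] C₀ ≃ₐ[A] C) (φ : B →ₐ[A] C) (φ₀ : B₀ →ₐ[R] C₀)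
    (h : ∀ x, eC ((1 : A) ⊗ₜ φ₀ x) = φ (eB ((1 : A) ⊗ₜ x))) (Q : PrimeSpectrum (K ⊗[R] C₀)) :
    bcSpec K φ (modelHomeo K eC Q) = modelHomeo K eB (bcSpec K φ₀ Q) := by
  let EB := (Algebra.TensorProduct.congr (AlgEquiv.refl : K ≃ₐ[A] K) eB)
  let EC := (Algebra.TensorProduct.congr (AlgEquiv.refl : K ≃ₐ[A] K) eC)
  let cB := Algebra.TensorProduct.cancelBaseChange R A K K B₀
  let cC := Algebra.TensorProduct.cancelBaseChange R A K K C₀
  have key : ∀ z : K ⊗[R] B₀, Algebra.TensorProduct.map (AlgHom.id A K) φ (EB (cB.symm z)) =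
      EC (cC.symm (Algebra.TensorProduct.map (AlgHom.id R K) φ₀ z)) := by
    intro z
    induction z with
    | zero => simp
    | add x y hx hy => simp [map_add, hx, hy]
    | tmul x y => simp [EB, EC, cB, cC, h]
  have key' : ∀ w : K ⊗[A] B, cC (EC.symm (Algebra.TensorProduct.map (AlgHom.id A K) φ w)) =
      Algebra.TensorProduct.map (AlgHom.id R K) φ₀ (cB (EB.symm w)) := by
    intro w
    obtain ⟨z, rfl⟩ := EB.surjective w
    obtain ⟨z, rfl⟩ := cB.symm.surjective z
    rw [key, EC.symm_apply_apply, cC.apply_symm_apply, EB.symm_apply_apply, cB.apply_symm_apply]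
  refine PrimeSpectrum.ext (Ideal.ext fun w => ?_)
  exact iff_of_eq (congrArg (fun v => v ∈ Q.asIdeal) (key' w))

variable {A : Type u} [CommRing A] {X : Scheme.{u}} (f : X ⟶ Spec (CommRingCat.of A))

set_option maxHeartbeats 1000000 in
/-- A noetherian diagram gluing to all geometric fibres. -/
theorem exists_atlas [LocallyOfFinitePresentation f] [QuasiCompact f] [QuasiSeparated f] :
    ∃ (R : Type u) (_ : CommRing R) (_ : IsNoetherianRing R) (_ : Algebra R A) (ι κ : Type u) (_ : Finite ι)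
      (_ : Finite κ) (B : ι → Type u) (_ : ∀ i, CommRing (B i)) (_ : ∀ i, Algebra R (B i))
      (_ : ∀ i, Algebra.FiniteType R (B i)) (C : κ → Type u) (_ : ∀ l, CommRing (C l)) (_ : ∀ l, Algebra R (C l))
      (_ : ∀ l, Algebra.FiniteType R (C l)) (a b : κ → ι) (φ : ∀ l, B (a l) →ₐ[R] C l)
      (ψ : ∀ l, B (b l) →ₐ[R] C l),
      ∀ (k : Type u) [Field k] [Algebra A k] [Algebra R k] [IsScalarTower R A k],
        Atlas B C a b φ ψ k ↥(bc f k) := by
  classical
  obtain ⟨ι, _, Bs, _, _, _, js, _, hjs, hcov⟩ := exists_pieces f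
  have : QuasiSeparatedSpace X := quasiSeparatedSpace_of_quasiSeparated f
  have hfp : ∀ (B : Type u) [CommRing B] [Algebra A B] (j : Spec (CommRingCat.of B) ⟶ X) [IsOpenImmersion j],
      j ≫ f = Spec.map (CommRingCat.ofHom (algebraMap A B)) → Algebra.FinitePresentation A B := by
    intro B _ _ j _ hj
    have : LocallyOfFinitePresentation (Spec.map (CommRingCat.ofHom (algebraMap A B))) := by
      rw [← hj]; infer_instance
    exact RingHom.finitePresentation_algebraMap.1
      ((HasRingHomProperty.Spec_iff (P := @LocallyOfFinitePresentation)).1 this)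
  have : ∀ i, Algebra.FinitePresentation A (Bs i) := fun i => hfp (Bs i) (js i) (hjs i)
  let V : ι × ι → X.Opens := fun ij => (js ij.1).opensRange ⊓ (js ij.2).opensRange
  have hV : ∀ ij, ∃ s : Set X.affineOpens, s.Finite ∧ (∀ W ∈ s, (W : X.Opens) ≤ V ij) ∧
      (V ij : Set X) ⊆ ⋃ W ∈ s, ((W : X.Opens) : Set X) := by
    intro ij
    have hc : IsCompact (V ij : Set X) := QuasiSeparatedSpace.inter_isCompact _ _
      (js ij.1).opensRange.2 (isCompact_range (js ij.1).continuous) (js ij.2).opensRange.2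
      (isCompact_range (js ij.2).continuous)
    obtain ⟨t, ht⟩ := hc.elim_finite_subcover (fun W : {W : X.affineOpens // (W : X.Opens) ≤ V ij} =>
      ((W.1 : X.Opens) : Set X)) (fun W => W.1.1.2) (fun x hx => by
      obtain ⟨W, hW, hxW, hWV⟩ := TopologicalSpace.Opens.isBasis_iff_nbhd.mp X.isBasis_affineOpens hx
      exact Set.mem_iUnion.2 ⟨⟨⟨W, hW⟩, hWV⟩, hxW⟩)
    refine ⟨Subtype.val '' (t : Set {W : X.affineOpens // (W : X.Opens) ≤ V ij}), t.finite_toSet.image _,
      fun W ⟨W', _, h⟩ => h ▸ W'.2, fun x hx => ?_⟩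
    obtain ⟨W, hW, hxW⟩ := Set.mem_iUnion₂.1 (ht hx)
    exact Set.mem_iUnion₂.2 ⟨W.1, ⟨W, hW, rfl⟩, hxW⟩
  choose s hs hsV hVs using hV
  let κ := Σ ij : ι × ι, s ij
  have : ∀ ij, Finite (s ij) := fun ij => (hs ij).to_subtype
  let Cs : κ → Type u := fun l => Γ(X, (l.2.1 : X.Opens))
  let jW : ∀ l : κ, Spec (CommRingCat.of (Cs l)) ⟶ X := fun l => l.2.1.2.fromSpec
  have hjW : ∀ l, Set.range (jW l) = ((l.2.1 : X.Opens) : Set X) := fun l => l.2.1.2.range_fromSpec
  have hra : ∀ l : κ, Set.range (jW l) ⊆ Set.range (js l.1.1) := fun l =>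
    (hjW l).le.trans fun x hx => (hsV l.1 l.2.1 l.2.2 hx).1
  have hrb : ∀ l : κ, Set.range (jW l) ⊆ Set.range (js l.1.2) := fun l =>
    (hjW l).le.trans fun x hx => (hsV l.1 l.2.1 l.2.2 hx).2
  let alg : ∀ l, Algebra A (Cs l) := fun l => (Spec.preimage (jW l ≫ f)).hom.toAlgebra
  have hjWf : ∀ l, jW l ≫ f = Spec.map (CommRingCat.ofHom (algebraMap A (Cs l))) := fun l =>
    (Spec.map_preimage _).symm
  have : ∀ l, IsOpenImmersion (jW l) := fun l => inferInstance
  have : ∀ l, Algebra.FinitePresentation A (Cs l) := fun l => hfp (Cs l) (jW l) (hjWf l)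
  have hmor : ∀ (l : κ) (i : ι), Set.range (jW l) ⊆ Set.range (js i) →
      ∃ φ : Bs i →ₐ[A] Cs l, Spec.map (CommRingCat.ofHom φ.toRingHom) ≫ js i = jW l := by
    intro l i h
    obtain ⟨ψ, hψ⟩ := Spec.map_surjective (IsOpenImmersion.lift (js i) (jW l) h)
    have h1 : Spec.map ψ ≫ js i = jW l := by rw [hψ, IsOpenImmersion.lift_fac]
    have h2 : Spec.map ψ ≫ Spec.map (CommRingCat.ofHom (algebraMap A (Bs i))) =
        Spec.map (CommRingCat.ofHom (algebraMap A (Cs l))) := by
      rw [← hjs, ← Category.assoc, h1, hjWf]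
    rw [← Spec.map_comp] at h2
    exact ⟨{ ψ.hom with commutes' := fun x => RingHom.congr_fun (congrArg CommRingCat.Hom.hom (Spec.map_injective h2)) x },
      h1⟩
  choose φ hφ using fun l : κ => hmor l l.1.1 (hra l)
  choose ψ hψ using fun l : κ => hmor l l.1.2 (hrb l)
  obtain ⟨R, _, _, _, B₀, _, _, _, C₀, _, _, _, eB, eC, φ₀, ψ₀, hφ₀, hψ₀⟩ :=
    exists_diagram_model A Bs Cs (fun l : κ => l.1.1) (fun l => l.1.2) φ ψ
  refine ⟨R, inferInstance, inferInstance, inferInstance, ι, κ, inferInstance, inferInstance, B₀, inferInstance,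
    inferInstance, inferInstance, C₀, inferInstance, inferInstance, inferInstance, fun l => l.1.1,
    fun l => l.1.2, φ₀, ψ₀, ?_⟩
  intro k _ _ _ _
  let u : ∀ i, PrimeSpectrum (k ⊗[R] B₀ i) → ↥(bc f k) := fun i Q =>
    pieceMap f k (js i) (hjs i) (modelHomeo k (eB i) Q)
  have hop : ∀ i, IsOpenImmersion (pieceMap f k (js i) (hjs i)) := fun i => isOpenImmersion_pieceMap f k _ _
  have hopW : ∀ l, IsOpenImmersion (pieceMap f k (jW l) (hjWf l)) := fun l => isOpenImmersion_pieceMap f k _ _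
  have hva : ∀ (l : κ) (Q : PrimeSpectrum (k ⊗[R] C₀ l)),
      u l.1.1 (bcSpec k (φ₀ l) Q) = pieceMap f k (jW l) (hjWf l) (modelHomeo k (eC l) Q) := fun l Q =>
    (congrArg _ (modelHomeo_bcSpec k (eB l.1.1) (eC l) (φ l) (φ₀ l) (hφ₀ l) Q).symm).trans
      (pieceMap_bcSpec f k (js l.1.1) (hjs _) (jW l) (hjWf l) (φ l) (hφ l) _)
  have hvb : ∀ (l : κ) (Q : PrimeSpectrum (k ⊗[R] C₀ l)),
      u l.1.2 (bcSpec k (ψ₀ l) Q) = pieceMap f k (jW l) (hjWf l) (modelHomeo k (eC l) Q) := fun l Q =>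
    (congrArg _ (modelHomeo_bcSpec k (eB l.1.2) (eC l) (ψ l) (ψ₀ l) (hψ₀ l) Q).symm).trans
      (pieceMap_bcSpec f k (js l.1.2) (hjs _) (jW l) (hjWf l) (ψ l) (hψ l) _)
  refine ⟨u, fun i => (pieceMap f k (js i) (hjs i)).isOpenEmbedding.comp (modelHomeo k (eB i)).isOpenEmbedding,
    fun z => ?_, fun l => ?_, fun l Q => (hva l Q).trans (hvb l Q).symm, fun i j Q Q' hQ => ?_⟩
  · obtain ⟨i, q, hq⟩ := hcov (pullback.fst f (Spec.map (CommRingCat.ofHom (algebraMap A k))) z)
    obtain ⟨Q, hQ, -⟩ := exists_pieceMap f k (js i) (hjs i) z q hq.symm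
    refine ⟨i, (modelHomeo k (eB i)).symm Q, ?_⟩
    show pieceMap f k (js i) (hjs i) _ = z
    rw [Homeomorph.apply_symm_apply]
    exact hQ
  · show IsOpenEmbedding (u l.1.1 ∘ bcSpec k (φ₀ l))
    rw [show u l.1.1 ∘ bcSpec k (φ₀ l) = pieceMap f k (jW l) (hjWf l) ∘ modelHomeo k (eC l) from funext (hva l)]
    exact (pieceMap f k (jW l) (hjWf l)).isOpenEmbedding.comp (modelHomeo k (eC l)).isOpenEmbedding
  · let π := pullback.fst f (Spec.map (CommRingCat.ofHom (algebraMap A k)))
    have h1 : π (u i Q) ∈ (V (i, j) : Set X) := by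
      refine ⟨⟨_, (fst_pieceMap f k (js i) (hjs i) _).symm⟩, ?_⟩
      rw [hQ]
      exact ⟨_, (fst_pieceMap f k (js j) (hjs j) _).symm⟩
    obtain ⟨W, hW, hmem⟩ := Set.mem_iUnion₂.1 (hVs (i, j) h1)
    let l : κ := ⟨(i, j), W, hW⟩
    obtain ⟨w, hw⟩ : π (u i Q) ∈ Set.range (jW l) := (hjW l).ge hmem
    obtain ⟨W', hW', -⟩ := exists_pieceMap f k (jW l) (hjWf l) (u i Q) w hw.symm
    refine ⟨l, (modelHomeo k (eC l)).symm W', rfl, rfl, ?_⟩
    rw [hva, Homeomorph.apply_symm_apply]
    exact hW'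

set_option maxHeartbeats 1000000 in
/-- Each point of the base has a constructible neighbourhood on which the counts are constant. -/
theorem exists_constructible_const [LocallyOfFinitePresentation f] [QuasiCompact f] [QuasiSeparated f]
    (p : PrimeSpectrum A) : ∃ T : Set (PrimeSpectrum A), IsConstructible T ∧ p ∈ T ∧
      ∀ q ∈ T, gc f q = gc f p := by
  obtain ⟨R, _, _, _, ι, κ, _, _, B, _, _, _, C, _, _, _, a, b, φ, ψ, hatlas⟩ := exists_atlas f
  let P₀ := p.asIdeal.comap (algebraMap R A)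
  let S := R ⧸ P₀
  have hgc : ∀ (k : Type u) [Field k] [IsAlgClosed k] [Algebra A k] (q : PrimeSpectrum A),
      RingHom.ker (algebraMap A k) = q.asIdeal → counts ↥(bc f k) = gc f q := by
    intro k _ _ _ q hq
    refine (counts_point f k _).trans (congrArg (gc f) (PrimeSpectrum.ext ?_))
    show (IsLocalRing.closedPoint k).asIdeal.comap (algebraMap A k) = q.asIdeal
    rw [show (IsLocalRing.closedPoint k).asIdeal = ⊥ from IsLocalRing.maximalIdeal_eq_bot]
    exact hq
  let Ω := AlgebraicClosure p.asIdeal.ResidueField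
  have hkerΩ : RingHom.ker (algebraMap A Ω) = p.asIdeal := by
    ext x
    rw [RingHom.mem_ker, IsScalarTower.algebraMap_apply A p.asIdeal.ResidueField Ω, map_eq_zero,
      Ideal.algebraMap_residueField_eq_zero]
  let σ : S →+* Ω := Ideal.Quotient.lift P₀ ((algebraMap A Ω).comp (algebraMap R A)) fun x hx =>
    RingHom.mem_ker.1 (hkerΩ.ge (Ideal.mem_comap.1 hx))
  let := σ.toAlgebra
  have : IsScalarTower R S Ω := IsScalarTower.of_algebraMap_eq fun x => IsScalarTower.algebraMap_apply R A Ω x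
  have : FaithfulSMul S Ω := (faithfulSMul_iff_algebraMap_injective S Ω).2 (by
    rw [injective_iff_map_eq_zero]
    intro x hx
    obtain ⟨x, rfl⟩ := Ideal.Quotient.mk_surjective x
    exact Ideal.Quotient.eq_zero_iff_mem.2 (Ideal.mem_comap.2 (hkerΩ.le (RingHom.mem_ker.2 hx))))
  obtain ⟨c, hc, hnear⟩ := atlas_near (R := S) Ω ↥(bc f Ω) (hatlas Ω).baseChange
  obtain ⟨r, rfl⟩ := Ideal.Quotient.mk_surjective c
  let Tset : Set (PrimeSpectrum R) := PrimeSpectrum.zeroLocus (P₀ : Set R) \ PrimeSpectrum.zeroLocus {r}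
  have hT : IsConstructible Tset :=
    (ConstrSets.isConstructible_of_isClosed (PrimeSpectrum.isClosed_zeroLocus _)).sdiff
      (ConstrSets.isConstructible_of_isClosed (PrimeSpectrum.isClosed_zeroLocus _))
  refine ⟨PrimeSpectrum.comap (algebraMap R A) ⁻¹' Tset,
    Scheme.Hom.isConstructible_preimage (Spec.map (CommRingCat.ofHom (algebraMap R A))) hT,
    ⟨fun x hx => hx, fun h => hc (Ideal.Quotient.eq_zero_iff_mem.2 (h rfl))⟩, ?_⟩
  rintro q ⟨hqP, hqr⟩
  let k := AlgebraicClosure q.asIdeal.ResidueField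
  have hkerk : RingHom.ker (algebraMap A k) = q.asIdeal := by
    ext x
    rw [RingHom.mem_ker, IsScalarTower.algebraMap_apply A q.asIdeal.ResidueField k, map_eq_zero,
      Ideal.algebraMap_residueField_eq_zero]
  let τ : S →+* k := Ideal.Quotient.lift P₀ ((algebraMap A k).comp (algebraMap R A)) fun x hx =>
    RingHom.mem_ker.1 (hkerk.ge (hqP hx))
  let := τ.toAlgebra
  have : IsScalarTower R S k := IsScalarTower.of_algebraMap_eq fun x => IsScalarTower.algebraMap_apply R A k x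
  have hck : algebraMap S k (Ideal.Quotient.mk P₀ r) ≠ 0 := fun h0 => hqr fun x hx => by
    rw [Set.mem_singleton_iff.1 hx]
    exact hkerk.le (RingHom.mem_ker.2 h0)
  rw [← hgc k q hkerk, ← hgc Ω p hkerΩ]
  exact hnear k hck _ (hatlas k).baseChange

/-- The level sets over an affine base are constructible. -/
theorem isConstructible_level [LocallyOfFinitePresentation f] [QuasiCompact f] [QuasiSeparated f]
    {α : Type*} (F : ℕ∞ × ℕ∞ → α) (v : α) : IsConstructible {q : PrimeSpectrum A | F (gc f q) = v} :=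
  (Weighting.isConstructible_level_of_forall (fun q : PrimeSpectrum A => F (gc f q)) fun p => by
    obtain ⟨T, hT, hp, h⟩ := exists_constructible_const f p
    exact ⟨T, hT, hp, fun q hq => congrArg F (h q hq)⟩).1 v

end Groth.Agent.GeomIrredStrata
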