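import Groth.Agent.GeomIrredStrata.Components
import Mathlib.AlgebraicGeometry.Morphisms.UniversallyInjective
import Mathlib.AlgebraicGeometry.Morphisms.Integral
import Mathlib.Topology.Connected.Basic
import Mathlib.FieldTheory.IsAlgClosed.AlgebraicClosure

/-!
# The numbers of components of geometric fibres near the generic point
-/

set_option autoImplicit false

universe u

open CategoryTheory CategoryTheory.Limits AlgebraicGeometry
open scoped TensorProduct

namespace Groth.Agent.GeomIrredStrata

/-- The numbers of irreducible and of connected components. -/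
noncomputable def counts (Y : Type u) [TopologicalSpace Y] : ℕ∞ × ℕ∞ :=
  ((irreducibleComponents Y).encard, ENat.card (ConnectedComponents Y))

theorem encard_irreducibleComponents_congr {Y Z : Type u} [TopologicalSpace Y] [TopologicalSpace Z]
    (e : Y ≃ₜ Z) : (irreducibleComponents Y).encard = (irreducibleComponents Z).encard := by
  have : irreducibleComponents Z = (fun s => e '' s) '' irreducibleComponents Y := by
    ext t
    constructor
    · intro ht
      refine ⟨e ⁻¹' t, ⟨?_, fun s hs hts => ?_⟩, e.image_preimage t⟩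
      · have := ht.1.image e.symm e.symm.continuous.continuousOn
        rwa [Homeomorph.image_symm] at this
      · intro x hx
        have h1 : t ⊆ e '' s := fun y hy => ⟨e.symm y, hts (by simpa using hy), e.apply_symm_apply y⟩
        exact ht.2 (hs.image e e.continuous.continuousOn) h1 ⟨x, hx, rfl⟩
    · rintro ⟨s, hs, rfl⟩
      refine ⟨hs.1.image e e.continuous.continuousOn, fun t ht hst => ?_⟩
      intro y hy
      refine ⟨e.symm y, hs.2 (ht.image e.symm e.symm.continuous.continuousOn) (fun x hx => ?_) ⟨y, hy, rfl⟩,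
        e.apply_symm_apply y⟩
      exact ⟨e x, hst ⟨x, hx, rfl⟩, e.symm_apply_apply x⟩
  rw [this, (Set.image_injective.2 e.injective).encard_image]

theorem card_connectedComponents_congr {Y Z : Type u} [TopologicalSpace Y] [TopologicalSpace Z]
    (e : Y ≃ₜ Z) : ENat.card (ConnectedComponents Y) = ENat.card (ConnectedComponents Z) := by
  refine ENat.card_congr ⟨e.continuous.connectedComponentsMap, e.symm.continuous.connectedComponentsMap,
    fun c => ?_, fun c => ?_⟩ <;>
  · obtain ⟨x, rfl⟩ := ConnectedComponents.surjective_coe c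
    show ConnectedComponents.mk _ = _
    simp

theorem counts_congr {Y Z : Type u} [TopologicalSpace Y] [TopologicalSpace Z] (e : Y ≃ₜ Z) :
    counts Y = counts Z :=
  Prod.ext (encard_irreducibleComponents_congr e) (card_connectedComponents_congr e)

/-- The base change in two steps. -/
noncomputable def bcTrans {R : Type u} [CommRing R] {X : Scheme.{u}} (f : X ⟶ Spec (CommRingCat.of R))
    (S K : Type u) [CommRing S] [CommRing K] [Algebra R S] [Algebra S K] [Algebra R K] [IsScalarTower R S K] :
    bc (pullback.snd f (Spec.map (CommRingCat.ofHom (algebraMap R S)))) K ≅ bc f K :=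
  pullbackLeftPullbackSndIso f _ _ ≪≫ pullback.congrHom rfl (by
    rw [← Spec.map_comp, ← CommRingCat.ofHom_comp, ← IsScalarTower.algebraMap_eq])

theorem counts_bcTrans {R : Type u} [CommRing R] {X : Scheme.{u}} (f : X ⟶ Spec (CommRingCat.of R))
    (S K : Type u) [CommRing S] [CommRing K] [Algebra R S] [Algebra S K] [Algebra R K] [IsScalarTower R S K] :
    counts (bc (pullback.snd f (Spec.map (CommRingCat.ofHom (algebraMap R S)))) K) = counts (bc f K) :=
  counts_congr (bcTrans f S K).hom.homeomorph

/-- Finitely many affine pieces of finite type. -/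
theorem exists_pieces {R : Type u} [CommRing R] {X : Scheme.{u}} (f : X ⟶ Spec (CommRingCat.of R))
    [LocallyOfFiniteType f] [QuasiCompact f] :
    ∃ (ι : Type u) (_ : Finite ι) (Bs : ι → Type u) (_ : ∀ i, CommRing (Bs i))
      (_ : ∀ i, Algebra R (Bs i)) (_ : ∀ i, Algebra.FiniteType R (Bs i))
      (js : ∀ i, Spec (CommRingCat.of (Bs i)) ⟶ X) (_ : ∀ i, IsOpenImmersion (js i)),
      (∀ i, js i ≫ f = Spec.map (CommRingCat.ofHom (algebraMap R (Bs i)))) ∧
      ∀ x : X, ∃ i, x ∈ Set.range (js i) := by
  have : CompactSpace X := QuasiCompact.compactSpace_of_compactSpace f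
  let 𝒰 := X.affineCover.finiteSubcover
  have haff : ∀ i, IsAffine (𝒰.X i) := fun i => inferInstanceAs (IsAffine (Spec _))
  let B : 𝒰.I₀ → CommRingCat.{u} := fun i => Γ(𝒰.X i, ⊤)
  let js : ∀ i, Spec (B i) ⟶ X := fun i => (𝒰.X i).isoSpec.inv ≫ 𝒰.f i
  let φ : ∀ i, CommRingCat.of R ⟶ B i := fun i => Spec.preimage (js i ≫ f)
  let alg : ∀ i, Algebra R (B i) := fun i => (φ i).hom.toAlgebra
  have hjs : ∀ i, js i ≫ f = Spec.map (CommRingCat.ofHom (algebraMap R (B i))) := fun i =>
    (Spec.map_preimage _).symm
  have hft : ∀ i, Algebra.FiniteType R (B i) := fun i => by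
    have : LocallyOfFiniteType (Spec.map (φ i)) := by
      rw [Spec.map_preimage]; infer_instance
    exact (HasRingHomProperty.Spec_iff (P := @LocallyOfFiniteType)).1 this
  refine ⟨𝒰.I₀, inferInstance, fun i => B i, inferInstance, alg, hft, js, inferInstance, hjs, fun x => ?_⟩
  obtain ⟨i, y, rfl⟩ := 𝒰.exists_eq x
  refine ⟨i, (𝒰.X i).isoSpec.hom y, ?_⟩
  show ((𝒰.X i).isoSpec.inv ≫ 𝒰.f i) _ = _
  rw [← Scheme.Hom.comp_apply, Iso.hom_inv_id_assoc]

/-- An ideal of the base change generated by the image of a ring. -/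
theorem le_map_comap {A B C : Type u} [CommRing A] [CommRing B] [CommRing C] (i : A →+* B) (j : C →+* A)
    (p : Ideal B) (T : Finset B) (hT : Ideal.span (T : Set B) = p) (hr : ∀ x ∈ T, x ∈ (i.comp j).range) :
    p ≤ (p.comap i).map i := by
  rw [← hT, Ideal.span_le]
  intro x hx
  obtain ⟨y, rfl⟩ := hr x hx
  exact Ideal.mem_map_of_mem i (Ideal.mem_comap.2 (Ideal.subset_span hx))

/-- Minimal primes are preserved by isomorphisms. -/
theorem map_mem_minimalPrimes {A B : Type u} [CommRing A] [CommRing B] (e : A ≃+* B) {p : Ideal A}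
    (hp : p ∈ minimalPrimes A) : p.map e ∈ minimalPrimes B := by
  have := Ideal.IsMinimalPrime.isPrime hp
  refine ⟨⟨Ideal.map_isPrime_of_equiv e, bot_le⟩, fun q hq hle => ?_⟩
  have := hq.1
  have h := hp.2 (y := q.comap e) ⟨Ideal.IsPrime.comap e, bot_le⟩ fun x hx => by
    have := hle (Ideal.mem_comap.1 hx)
    obtain ⟨a, ha, hae⟩ := (Ideal.mem_map_of_equiv e _).1 this
    rwa [← e.injective hae]
  intro x hx
  obtain ⟨a, ha, rfl⟩ := (Ideal.mem_map_of_equiv e x).1 hx
  exact h ha

set_option maxHeartbeats 1000000 in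
/-- The numbers of components of the geometric fibres are constant near the generic point. -/
theorem counts_near {R : Type u} [CommRing R] [IsDomain R] {X : Scheme.{u}}
    (f : X ⟶ Spec (CommRingCat.of R)) [LocallyOfFiniteType f] [QuasiCompact f] (Ω : Type u) [Field Ω]
    [IsAlgClosed Ω] [Algebra R Ω] [FaithfulSMul R Ω] :
    Near R fun k _ _ _ => counts (bc f k) = counts (bc f Ω) := by
  classical
  obtain ⟨ι, _, Bs, _, _, _, js, _, hjs, hcov⟩ := exists_pieces f
  have hnoeth : ∀ i, IsNoetherianRing (Ω ⊗[R] Bs i) := fun i =>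
    Algebra.FiniteType.isNoetherianRing Ω (Ω ⊗[R] Bs i)
  have : ∀ i, Finite (minimalPrimes (Ω ⊗[R] Bs i)) := fun i =>
    (minimalPrimes.finite_of_isNoetherianRing _).to_subtype
  have := Fintype.ofFinite (Σ i, minimalPrimes (Ω ⊗[R] Bs i))
  choose T hT using fun ip : Σ i, minimalPrimes (Ω ⊗[R] Bs i) => (IsNoetherian.noetherian ip.2.1 : _)
  choose s hs using fun i => fun z : Ω ⊗[R] Bs i => exists_preimage (R := R) z
  let s₀ : Finset Ω := Finset.univ.biUnion fun ip => (T ip).biUnion (s ip.1)
  let S := Algebra.adjoin R (s₀ : Set Ω)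
  have : Algebra.FiniteType R S := Algebra.FiniteType.adjoin_of_finite s₀.finite_toSet
  have : FaithfulSMul S Ω := (faithfulSMul_iff_algebraMap_injective S Ω).2 Subtype.val_injective
  let fS := pullback.snd f (Spec.map (CommRingCat.ofHom (algebraMap R S)))
  have : LocallyOfFiniteType fS := MorphismProperty.pullback_snd _ _ ‹LocallyOfFiniteType f›
  have : ∀ i, IsOpenImmersion (pieceMap f S (js i) (hjs i)) := fun i => isOpenImmersion_pieceMap f S (js i) (hjs i)
  obtain ⟨P, _, N, hP⟩ := core (R := S) (f := fS) (fun i => S ⊗[R] Bs i) (fun i => pieceMap f S (js i) (hjs i))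
    (fun i => pullback.lift_snd _ _ _) (fun x => by
      obtain ⟨i, q, hq⟩ := hcov (pullback.fst f _ x)
      obtain ⟨Q, hQ, -⟩ := exists_pieceMap f S (js i) (hjs i) x q hq.symm
      exact ⟨i, Q, hQ⟩) Ω (fun i p hp => by
      let e := Algebra.TensorProduct.cancelBaseChange R S Ω Ω (Bs i)
      let ip : Σ i, minimalPrimes (Ω ⊗[R] Bs i) := ⟨i, ⟨p.map e.toRingEquiv, map_mem_minimalPrimes e.toRingEquiv hp⟩⟩
      refine le_map_comap _ (RingHom.id _) p ((T ip).image e.symm) ?_ fun x hx => ?_
      · rw [Finset.coe_image, show (e.symm : Ω ⊗[R] Bs i → _) = e.toRingEquiv.symm.toRingHom from rfl,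
          ← Ideal.map_span, show Ideal.span (T ip : Set (Ω ⊗[R] Bs i)) = ip.2.1 from hT ip]
        exact Ideal.map_of_equiv e.toRingEquiv
      · obtain ⟨z, hz, rfl⟩ := Finset.mem_image.1 hx
        have hsub : ↑(s i z) ⊆ (S : Set Ω) := fun w hw => Algebra.subset_adjoin
          (Finset.mem_coe.2 (Finset.mem_biUnion.2 ⟨ip, Finset.mem_univ _, Finset.mem_biUnion.2 ⟨z, hz, hw⟩⟩))
        obtain ⟨w, hw⟩ := hs i z S hsub
        refine ⟨w, ?_⟩
        rw [RingHom.comp_id, ← hw]
        show (1 : Ω) ⊗ₜ[S] w = e.symm _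
        refine e.injective ?_
        rw [AlgEquiv.apply_symm_apply]
        clear hw
        induction w with
        | zero => simp
        | add a b ha hb => rw [TensorProduct.tmul_add, map_add, ha, hb]; exact (map_add _ a b).symm
        | tmul a b => simp [e, Algebra.smul_def])
  obtain ⟨c, hc, hgood⟩ := hP
  have hpq : ∀ (k : Type u) [Field k] [IsAlgClosed k] [Algebra R k] [Algebra S k] [IsScalarTower R S k],
      algebraMap S k c ≠ 0 → counts (bc f k) = (ENat.card P, ENat.card (Quot N)) := by
    intro k _ _ _ _ _ hk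
    obtain ⟨F, hF⟩ := hgood k hk
    rw [← counts_bcTrans f S k]
    exact Prod.ext hF.encard_irreducibleComponents hF.card_connectedComponents
  obtain ⟨c', hc', hσ⟩ := exists_point R S
    (fun a b h => FaithfulSMul.algebraMap_injective R Ω (congrArg Subtype.val h)) hc
  refine ⟨c', hc', fun k _ _ _ hk => ?_⟩
  obtain ⟨σ, hσc⟩ := hσ k hk
  let := σ.toRingHom.toAlgebra
  have : IsScalarTower R S k := IsScalarTower.of_algebraMap_eq fun x => (σ.commutes x).symm
  rw [hpq k hσc, hpq Ω ((map_ne_zero_iff _ (FaithfulSMul.algebraMap_injective S Ω)).2 hc)]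

/-- The numbers of components do not depend on the algebraically closed extension. -/
theorem counts_eq_of_isAlgClosed {K : Type u} [Field K] {X : Scheme.{u}} (f : X ⟶ Spec (CommRingCat.of K))
    [LocallyOfFiniteType f] [QuasiCompact f] (L L' : Type u) [Field L] [IsAlgClosed L] [Algebra K L]
    [Field L'] [IsAlgClosed L'] [Algebra K L'] : counts (bc f L') = counts (bc f L) := by
  obtain ⟨c, hc, h⟩ := counts_near f L
  exact h L' ((map_ne_zero_iff _ (algebraMap K L').injective).2 hc)

/-- A purely inseparable extension of the base is a homeomorphism. -/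
theorem counts_of_purelyInseparable {K : Type u} [Field K] {Z : Scheme.{u}} (p : Z ⟶ Spec (CommRingCat.of K))
    (L : Type u) [Field L] [Algebra K L] [IsPurelyInseparable K L] : counts (bc p L) = counts Z := by
  let a := Spec.map (CommRingCat.ofHom (algebraMap K L))
  have hs : Surjective a := ⟨fun x => ⟨(⊥ : PrimeSpectrum L), Subsingleton.elim (α := PrimeSpectrum K) _ _⟩⟩
  have hi : UniversallyInjective a := by
    refine ((tfae_universallyInjective a).out 1 0).1 ?_
    intro F hF g₁ g₂ h
    obtain ⟨φ₁, rfl⟩ := Spec.map_surjective g₁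
    obtain ⟨φ₂, rfl⟩ := Spec.map_surjective g₂
    have h' := Spec.map_injective (((Spec.map_comp _ φ₁).trans h).trans (Spec.map_comp _ φ₂).symm)
    refine congrArg _ (CommRingCat.hom_ext (IsPurelyInseparable.injective_comp_algebraMap K L F ?_))
    exact congrArg CommRingCat.Hom.hom h'
  have hint : IsIntegralHom a := IsIntegralHom.SpecMap_iff.2 (Algebra.IsIntegral.isIntegral (R := K) (A := L))
  let q := pullback.fst p a
  have : UniversallyInjective q := MorphismProperty.pullback_fst _ _ hi
  have : Surjective q := MorphismProperty.pullback_fst _ _ hs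
  have : IsIntegralHom q := MorphismProperty.pullback_fst _ _ hint
  have hq : IsHomeomorph q := isHomeomorph_iff_continuous_isClosedMap_bijective.2
    ⟨q.continuous, q.isClosedMap, q.injective, q.surjective⟩
  exact counts_congr hq.homeomorph

end Groth.Agent.GeomIrredStrata
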