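import Groth.Agent.GeomIrredStrata.Hypersurface
import Mathlib.RingTheory.TensorProduct.MvPolynomial
import Mathlib.RingTheory.TensorProduct.Quotient

/-!
# Geometric integrality spreads out from the generic point
-/

set_option autoImplicit false

universe u

open scoped TensorProduct nonZeroDivisors

namespace Groth.Agent.GeomIrredStrata

theorem exists_lift_poly {R Ω : Type u} [CommRing R] [Field Ω] [Algebra R Ω] {σ : Type}
    (S : Subalgebra R Ω) (p : MvPolynomial σ Ω) (h : ∀ d ∈ p.support, p.coeff d ∈ S) :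
    ∃ q : MvPolynomial σ S, MvPolynomial.map (algebraMap S Ω) q = p := by
  classical
  refine ⟨∑ d ∈ p.support.attach, MvPolynomial.monomial d.1 (⟨p.coeff d.1, h d.1 d.2⟩ : S), ?_⟩
  rw [map_sum]
  simp only [MvPolynomial.map_monomial]
  exact (Finset.sum_attach p.support fun d => MvPolynomial.monomial d (p.coeff d)).trans
    (MvPolynomial.support_sum_monomial_coeff p)

theorem isDomain_localization_of_nontrivial {A L : Type u} [CommRing A] [IsDomain A] [CommRing L]
    [Algebra A L] (M : Submonoid A) [IsLocalization M L] [Nontrivial L] : IsDomain L :=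
  IsLocalization.isDomain_of_le_nonZeroDivisors (M := M) L fun x hx =>
    mem_nonZeroDivisors_of_ne_zero fun h0 => (IsLocalization.map_units L (⟨x, hx⟩ : M)).ne_zero
      (by simp [h0])

theorem isDomain_tensor_hypersurface (S k : Type u) [CommRing S] [Field k] [Algebra S k] {n : ℕ}
    (PS : MvPolynomial (Fin n) S) (h : Irreducible (MvPolynomial.map (algebraMap S k) PS)) :
    IsDomain (k ⊗[S] (MvPolynomial (Fin n) S ⧸ Ideal.span {PS})) := by
  have : IsDomain (MvPolynomial (Fin n) k ⧸ Ideal.span {MvPolynomial.map (algebraMap S k) PS}) := by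
    have hpr := h.prime
    rw [Ideal.Quotient.isDomain_iff_prime, Ideal.span_singleton_prime hpr.ne_zero]
    exact hpr
  let e₁ := Algebra.TensorProduct.tensorQuotientEquiv (R := S) k (MvPolynomial (Fin n) S) k (Ideal.span {PS})
  let e₂ := Ideal.quotientEquivAlg
    ((Ideal.span {PS}).map (Algebra.TensorProduct.includeRight (R := S) (A := k) (B := MvPolynomial (Fin n) S)))
    (Ideal.span {MvPolynomial.map (algebraMap S k) PS}) (MvPolynomial.algebraTensorAlgEquiv S k) (by
      rw [Ideal.map_span, Set.image_singleton, Ideal.map_span, Set.image_singleton]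
      congr 2
      simp)
  exact (e₁.trans e₂).injective.isDomain (e₁.trans e₂).toAlgHom.toRingHom

/-- An algebra which becomes a localization of an integral one has integral fibres. -/
theorem isDomain_tensor_of_factor (S k : Type u) [CommRing S] [Field k] [Algebra S k] {B' Qp : Type u}
    [CommRing B'] [Algebra S B'] [CommRing Qp] [Algebra S Qp] (s : B') (dp : Qp) (M Q : Type u)
    [CommRing M] [Algebra S M] [Algebra B' M] [IsScalarTower S B' M] [IsLocalization.Away s M]
    [CommRing Q] [Algebra S Q] [Algebra Qp Q] [IsScalarTower S Qp Q] [IsLocalization.Away dp Q]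
    (ψ : B' →ₐ[S] Q) (φ : Q →ₐ[S] M) (hψ : φ.comp ψ = IsScalarTower.toAlgHom S B' M)
    (hnzd : ∀ x : k ⊗[S] B', ((1 : k) ⊗ₜ[S] s) * x = 0 → x = 0)
    (hQp : IsDomain (k ⊗[S] Qp)) [Nontrivial (k ⊗[S] B')] : IsDomain (k ⊗[S] B') := by
  let ψk : k ⊗[S] B' →ₐ[k] k ⊗[S] Q := Algebra.TensorProduct.map (AlgHom.id k k) ψ
  have hψk : Function.Injective ψk := by
    let φk : k ⊗[S] Q →ₐ[k] k ⊗[S] M := Algebra.TensorProduct.map (AlgHom.id k k) φ
    have hcomp : φk.comp ψk = Algebra.TensorProduct.map (AlgHom.id k k) (IsScalarTower.toAlgHom S B' M) := by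
      rw [← hψ, ← Algebra.TensorProduct.map_comp, AlgHom.id_comp]
    refine Function.Injective.of_comp (f := φk) ?_
    rw [← AlgHom.coe_comp, hcomp]
    let := (Algebra.TensorProduct.map (AlgHom.id k k) (IsScalarTower.toAlgHom S B' M)).toRingHom.toAlgebra
    have := GeomRedStrata.isLocalization_baseChange S k (Submonoid.powers s) M
    refine IsLocalization.injective (k ⊗[S] M)
      (M := (Submonoid.powers s).map (Algebra.TensorProduct.includeRight (R := S) (A := k))) ?_
    rintro _ ⟨_, ⟨i, rfl⟩, rfl⟩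
    show Algebra.TensorProduct.includeRight (s ^ i) ∈ _
    rw [map_pow]
    exact pow_mem (mem_nonZeroDivisors_iff_right.2 fun y hy => hnzd y (by rw [mul_comm]; exact hy)) i
  have : Nontrivial (k ⊗[S] Q) := hψk.nontrivial
  let := (Algebra.TensorProduct.map (AlgHom.id k k) (IsScalarTower.toAlgHom S Qp Q)).toRingHom.toAlgebra
  have := GeomRedStrata.isLocalization_baseChange S k (Submonoid.powers dp) Q
  have : IsDomain (k ⊗[S] Q) := isDomain_localization_of_nontrivial
    ((Submonoid.powers dp).map (Algebra.TensorProduct.includeRight (R := S) (A := k)))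
  exact hψk.isDomain ψk.toRingHom

/-- An algebra inside the function field of a hypersurface factors through the hypersurface. -/
theorem exists_factor {S Ω L B' M : Type u} [CommRing S] [Field Ω] [Algebra S Ω] [FaithfulSMul S Ω]
    [Field L] [Algebra S L] [Algebra Ω L] [IsScalarTower S Ω L] [CommRing B'] [Algebra S B'] [CommRing M]
    [Algebra S M] [Algebra B' M] [IsScalarTower S B' M] {n : ℕ} (jM : M →ₐ[S] L) (hjM : Function.Injective jM)
    (x : Fin n → L) (xM : Fin n → M) (hxM : ∀ j, jM (xM j) = x j) (m : MonomialOrder (Fin n))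
    (PS : MvPolynomial (Fin n) S) (hlcS : IsUnit (m.leadingCoeff PS))
    (hker : ∀ q, MvPolynomial.aeval x q = 0 ↔ MvPolynomial.map (algebraMap S Ω) PS ∣ q)
    (dS : MvPolynomial (Fin n) S) (hdu : IsUnit (MvPolynomial.aeval xM dS))
    (gs : Set B') (hgs : Algebra.adjoin S gs = ⊤)
    (hfr : ∀ g ∈ gs, ∃ D G : MvPolynomial (Fin n) S, D ∣ dS ∧
      jM (algebraMap B' M g) * MvPolynomial.aeval x (MvPolynomial.map (algebraMap S Ω) D) =
        MvPolynomial.aeval x (MvPolynomial.map (algebraMap S Ω) G)) :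
    ∃ (ψ : B' →ₐ[S] Localization.Away (Ideal.Quotient.mk (Ideal.span {PS}) dS))
      (φ : Localization.Away (Ideal.Quotient.mk (Ideal.span {PS}) dS) →ₐ[S] M),
      φ.comp ψ = IsScalarTower.toAlgHom S B' M := by
  have hev : ∀ q, jM (MvPolynomial.aeval xM q) = MvPolynomial.aeval x (MvPolynomial.map (algebraMap S Ω) q) :=
    fun q => by
    rw [MvPolynomial.aeval_map_algebraMap, ← AlgHom.comp_apply, MvPolynomial.comp_aeval]
    simp only [hxM]
  let φp : (MvPolynomial (Fin n) S ⧸ Ideal.span {PS}) →ₐ[S] M :=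
    Ideal.Quotient.liftₐ (Ideal.span {PS}) (MvPolynomial.aeval xM) <| by
      intro q hq
      obtain ⟨e, rfl⟩ := Ideal.mem_span_singleton.1 hq
      apply hjM
      rw [hev, map_mul, map_mul, (hker _).2 dvd_rfl, zero_mul, map_zero]
  let mkQ : MvPolynomial (Fin n) S →ₐ[S] Localization.Away (Ideal.Quotient.mk (Ideal.span {PS}) dS) :=
    (IsScalarTower.toAlgHom S _ _).comp (Ideal.Quotient.mkₐ S (Ideal.span {PS}))
  have hdu' : ∀ y : Submonoid.powers (Ideal.Quotient.mk (Ideal.span {PS}) dS), IsUnit (φp y.1) := by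
    rintro ⟨_, i, rfl⟩; rw [map_pow]; exact hdu.pow i
  let φ : Localization.Away (Ideal.Quotient.mk (Ideal.span {PS}) dS) →ₐ[S] M :=
    IsLocalization.liftAlgHom (M := Submonoid.powers (Ideal.Quotient.mk (Ideal.span {PS}) dS)) (f := φp) hdu'
  let ιQ : Localization.Away (Ideal.Quotient.mk (Ideal.span {PS}) dS) →ₐ[S] L := jM.comp φ
  have hιQ : ∀ q, ιQ (mkQ q) = MvPolynomial.aeval x (MvPolynomial.map (algebraMap S Ω) q) := fun q => by
    show jM (φ _) = _
    rw [show φ (mkQ q) = MvPolynomial.aeval xM q from IsLocalization.lift_eq hdu' _, hev]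
  have hmk0 : ∀ q, PS ∣ q → mkQ q = 0 := fun q hq => by
    show algebraMap (MvPolynomial (Fin n) S ⧸ Ideal.span {PS})
      (Localization.Away (Ideal.Quotient.mk (Ideal.span {PS}) dS)) (Ideal.Quotient.mk (Ideal.span {PS}) q) = 0
    rw [Ideal.Quotient.eq_zero_iff_mem.2 (Ideal.mem_span_singleton.2 hq), map_zero]
  have hιQinj : Function.Injective ιQ := by
    rw [injective_iff_map_eq_zero]
    intro z hz
    obtain ⟨⟨q, t⟩, hqt⟩ := IsLocalization.surj (Submonoid.powers (Ideal.Quotient.mk (Ideal.span {PS}) dS)) z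
    obtain ⟨q, rfl⟩ := Ideal.Quotient.mk_surjective q
    replace hqt : z * algebraMap _ _ t.1 = mkQ q := hqt
    have h1 := congrArg ιQ hqt
    rw [map_mul, hz, zero_mul, hιQ] at h1
    rw [hmk0 q (dvd_of_map_dvd _ (FaithfulSMul.algebraMap_injective S Ω) m PS q hlcS ((hker _).1 h1.symm))] at hqt
    exact (IsLocalization.map_units _ t).mul_left_eq_zero.1 hqt
  let jL : B' →ₐ[S] L := jM.comp (IsScalarTower.toAlgHom S B' M)
  have hrange : ∀ z : B', jL z ∈ ιQ.range := by
    have hle : Algebra.adjoin S gs ≤ ιQ.range.comap jL := Algebra.adjoin_le fun g hg => by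
      obtain ⟨D, G, ⟨r, hr⟩, he⟩ := hfr g hg
      have hu : IsUnit (mkQ dS) :=
        IsLocalization.Away.algebraMap_isUnit
          (S := Localization.Away (Ideal.Quotient.mk (Ideal.span {PS}) dS)) (Ideal.Quotient.mk (Ideal.span {PS}) dS)
      replace hu : IsUnit (mkQ D * mkQ r) := by rwa [← map_mul, ← hr]
      have hDu : IsUnit (mkQ D) := isUnit_of_mul_isUnit_left hu
      refine ⟨mkQ G * ↑hDu.unit⁻¹, ?_⟩
      refine mul_right_cancel₀ (show ιQ (mkQ D) ≠ 0 from (hDu.map ιQ).ne_zero) ?_
      show ιQ _ * ιQ _ = jL g * ιQ _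
      rw [← map_mul]
      refine (congrArg ιQ (show mkQ G * ↑hDu.unit⁻¹ * mkQ D = mkQ G by
        rw [mul_assoc, hDu.val_inv_mul, mul_one])).trans ?_
      rw [hιQ, hιQ]
      exact he.symm
    exact fun z => hle (hgs ▸ Algebra.mem_top)
  let eQ := AlgEquiv.ofInjective ιQ hιQinj
  refine ⟨eQ.symm.toAlgHom.comp (jL.codRestrict ιQ.range hrange), φ, AlgHom.ext fun z => hjM ?_⟩
  exact congrArg Subtype.val (eQ.apply_symm_apply ⟨jL z, hrange z⟩)

set_option maxHeartbeats 4000000 in
/-- A free algebra with geometrically integral generic fibre has geometrically integral fibres near the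
generic point. -/
theorem exists_isDomain_free (R : Type u) [CommRing R] [IsDomain R] (B : Type u) [CommRing B] [Algebra R B]
    [Algebra.FiniteType R B] [Module.Free R B] (Ω : Type u) [Field Ω] [IsAlgClosed Ω] [Algebra R Ω]
    [FaithfulSMul R Ω] [IsDomain (Ω ⊗[R] B)] :
    ∃ c : R, c ≠ 0 ∧ ∀ (k : Type u) [Field k] [IsAlgClosed k] [Algebra R k],
      algebraMap R k c ≠ 0 → IsDomain (k ⊗[R] B) := by
  classical
  let A := Ω ⊗[R] B
  let L := FractionRing A
  have : Algebra.EssFiniteType A L := Algebra.EssFiniteType.of_isLocalization L A⁰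
  have : Algebra.EssFiniteType Ω L := Algebra.EssFiniteType.comp Ω A L
  obtain ⟨n, x, P₀, hx, hP₀, hker₀⟩ := exists_hypersurface Ω L
  let m : MonomialOrder (Fin (n + 1)) := MonomialOrder.degLex
  let P := MvPolynomial.C (m.leadingCoeff P₀)⁻¹ * P₀
  have hlc0 : m.leadingCoeff P₀ ≠ 0 := m.leadingCoeff_ne_zero_iff.2 hP₀.ne_zero
  have hu : IsUnit (MvPolynomial.C (m.leadingCoeff P₀)⁻¹ : MvPolynomial (Fin (n + 1)) Ω) :=
    (isUnit_iff_ne_zero.2 (inv_ne_zero hlc0)).map MvPolynomial.C
  have hP : Irreducible P := (irreducible_isUnit_mul hu).2 hP₀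
  have hker : ∀ h, MvPolynomial.aeval x h = 0 ↔ P ∣ h := fun h =>
    (hker₀ h).trans hu.mul_left_dvd.symm
  have hlc : m.leadingCoeff P = 1 := by
    rw [MonomialOrder.leadingCoeff_mul, MonomialOrder.leadingCoeff_C, inv_mul_cancel₀ hlc0]
  -- fractions
  choose ab hab using fun j => IsLocalization.surj A⁰ (x j)
  let a := fun j => (ab j).1
  let b := fun j => (ab j).2
  obtain ⟨gens, hgens⟩ := Algebra.FiniteType.out (R := R) (A := B)
  have hfrac : ∀ g : B, ∃ G D : MvPolynomial (Fin (n + 1)) Ω, MvPolynomial.aeval x D ≠ 0 ∧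
      algebraMap A L ((1 : Ω) ⊗ₜ g) * MvPolynomial.aeval x D = MvPolynomial.aeval x G := fun g => by
    obtain ⟨r, s, hrs⟩ := (IntermediateField.mem_adjoin_range_iff Ω x (algebraMap A L ((1 : Ω) ⊗ₜ g))).1
      (hx ▸ IntermediateField.mem_top)
    by_cases h0 : MvPolynomial.aeval x s = 0
    · exact ⟨0, 1, by simp, by simp [hrs, h0]⟩
    · exact ⟨r, s, h0, by rw [hrs, div_mul_cancel₀ _ h0]⟩
  choose G D hD hGD using hfrac
  let d : MvPolynomial (Fin (n + 1)) Ω := ∏ g ∈ gens, D g
  have hd : MvPolynomial.aeval x d ≠ 0 := by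
    rw [map_prod]; exact Finset.prod_ne_zero_iff.2 fun g _ => hD g
  obtain ⟨⟨δ, β⟩, hδ⟩ := IsLocalization.surj A⁰ (MvPolynomial.aeval x d)
  -- a finitely generated subalgebra containing all the coefficients
  choose sA hsA using fun z : A => exists_preimage R z
  let cf : MvPolynomial (Fin (n + 1)) Ω → Finset Ω := fun p => p.support.image p.coeff
  let s₀ : Finset Ω := cf P ∪ (gens.biUnion fun g => cf (G g) ∪ cf (D g)) ∪
    (Finset.univ.biUnion fun j => sA (a j) ∪ sA (b j).1) ∪ (sA δ ∪ sA β.1)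
  let S := Algebra.adjoin R (s₀ : Set Ω)
  have hsS : ∀ {t : Finset Ω}, t ⊆ s₀ → ↑t ⊆ (S : Set Ω) := fun h y hy => Algebra.subset_adjoin (h hy)
  have hcf : ∀ {p}, cf p ⊆ s₀ → ∀ e ∈ p.support, p.coeff e ∈ S := fun h e he =>
    hsS h (Finset.mem_image_of_mem _ he)
  have hcfg : ∀ g ∈ gens, cf (G g) ⊆ s₀ ∧ cf (D g) ⊆ s₀ := fun g hg => by
    constructor <;>
    · intro y hy
      simp only [s₀, Finset.mem_union, Finset.mem_biUnion]
      exact Or.inl (Or.inl (Or.inr ⟨g, hg, by tauto⟩))
  have hfrS : ∀ j, sA (a j) ⊆ s₀ ∧ sA (b j).1 ⊆ s₀ := fun j => by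
    constructor <;>
    · intro y hy
      simp only [s₀, Finset.mem_union, Finset.mem_biUnion]
      exact Or.inl (Or.inr ⟨j, Finset.mem_univ _, by tauto⟩)
  have hS : Function.Injective (algebraMap R S) := fun p q h =>
    FaithfulSMul.algebraMap_injective R Ω (congrArg Subtype.val h)
  have : Algebra.FiniteType R S := Algebra.FiniteType.adjoin_of_finite s₀.finite_toSet
  have : FaithfulSMul S Ω := (faithfulSMul_iff_algebraMap_injective S Ω).2 Subtype.val_injective
  obtain ⟨PS, hPS⟩ := exists_lift_poly S P (hcf (Finset.subset_union_left.trans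
    (Finset.subset_union_left.trans Finset.subset_union_left)))
  choose GS hGS using fun g : gens => exists_lift_poly S (G g) (hcf (hcfg g g.2).1)
  choose DS hDS using fun g : gens => exists_lift_poly S (D g) (hcf (hcfg g g.2).2)
  let dS : MvPolynomial (Fin (n + 1)) S := ∏ g : gens, DS g
  have hdS : MvPolynomial.map (algebraMap S Ω) dS = d := by
    rw [map_prod]
    simp only [hDS]
    exact Finset.prod_coe_sort gens D
  -- the model inside `L`
  let B' := S ⊗[R] B
  let jB : B' →ₐ[R] A := Algebra.TensorProduct.map S.val (AlgHom.id R B)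
  have hjB : Function.Injective jB := injective_model R S
  let jL : B' →ₐ[S] L :=
    { ((algebraMap A L).comp jB.toRingHom) with
      commutes' := fun y => by
        show algebraMap A L ((y : Ω) ⊗ₜ (1 : B)) = _
        rw [IsScalarTower.algebraMap_apply S Ω L, IsScalarTower.algebraMap_apply Ω A L]
        rfl }
  have hjL : Function.Injective jL := (IsFractionRing.injective A L).comp hjB
  have hBdom : IsDomain B' := hjL.isDomain jL.toRingHom
  choose aS haS using fun j => hsA (a j) S (hsS (hfrS j).1)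
  choose bS hbS using fun j => hsA (b j).1 S (hsS (hfrS j).2)
  obtain ⟨δS, hδS⟩ := hsA δ S (hsS (Finset.subset_union_left.trans Finset.subset_union_right))
  obtain ⟨βS, hβS⟩ := hsA β.1 S (hsS (Finset.subset_union_right.trans Finset.subset_union_right))
  have hjLv : ∀ {z : B'} {w : A}, jB.toRingHom z = w → jL z = algebraMap A L w := fun h => by
    subst h; rfl
  have hjLne : ∀ {z : B'}, jL z ≠ 0 → z ≠ 0 := fun h h0 => h (by rw [h0, map_zero])
  have hbne : ∀ j, bS j ≠ 0 := fun j => hjLne <| by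
    rw [hjLv (hbS j)]
    exact (map_ne_zero_iff _ (IsFractionRing.injective A L)).2 (nonZeroDivisors.ne_zero (b j).2)
  have hδne : δS ≠ 0 := hjLne <| by
    rw [hjLv hδS, ← hδ]
    exact mul_ne_zero hd ((map_ne_zero_iff _ (IsFractionRing.injective A L)).2 (nonZeroDivisors.ne_zero β.2))
  let s : B' := (∏ j, bS j) * δS
  have hs : s ≠ 0 := mul_ne_zero (Finset.prod_ne_zero_iff.2 fun j _ => hbne j) hδne
  let M := Localization.Away s
  have hsu : IsUnit (algebraMap B' M s) := IsLocalization.Away.algebraMap_isUnit s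
  have hjLu : ∀ y : Submonoid.powers s, IsUnit (jL y.1) := by
    rintro ⟨_, i, rfl⟩
    rw [map_pow]
    exact (isUnit_iff_ne_zero.2 ((map_ne_zero_iff _ hjL).2 hs)).pow i
  let jM : M →ₐ[S] L := IsLocalization.liftAlgHom (f := jL) hjLu
  have hjMalg : ∀ z, jM (algebraMap B' M z) = jL z := fun z => IsLocalization.lift_eq hjLu z
  have hjM : Function.Injective jM := (IsLocalization.lift_injective_iff hjLu).2 fun p q =>
    ⟨fun h => congrArg jL (IsLocalization.injective M (powers_le_nonZeroDivisors_of_noZeroDivisors hs) h),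
      fun h => congrArg (algebraMap B' M) (hjL h)⟩
  have hbu : ∀ j, IsUnit (algebraMap B' M (bS j)) := fun j =>
    isUnit_of_dvd_unit ((map_dvd _ ((Finset.dvd_prod_of_mem bS (Finset.mem_univ j)).mul_right δS))) hsu
  let xM : Fin (n + 1) → M := fun j => algebraMap B' M (aS j) * ↑(hbu j).unit⁻¹
  have hxM : ∀ j, jM (xM j) = x j := fun j => by
    have h1 : xM j * algebraMap B' M (bS j) = algebraMap B' M (aS j) := by
      rw [mul_assoc, (hbu j).val_inv_mul, mul_one]
    have h2 := congrArg jM h1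
    rw [map_mul, hjMalg, hjMalg, hjLv (haS j), hjLv (hbS j), ← hab j] at h2
    exact mul_right_cancel₀ ((map_ne_zero_iff _ (IsFractionRing.injective A L)).2
      (nonZeroDivisors.ne_zero (b j).2)) h2
  have hevM : ∀ q, jM (MvPolynomial.aeval xM q) = MvPolynomial.aeval x (MvPolynomial.map (algebraMap S Ω) q) :=
    fun q => by
    rw [MvPolynomial.aeval_map_algebraMap, ← AlgHom.comp_apply, MvPolynomial.comp_aeval]
    simp only [hxM]
  -- the hypersurface
  have hlcS : IsUnit (m.leadingCoeff PS) := by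
    have hdeg : m.degree PS = m.degree P := by
      rw [← hPS]
      simp [MonomialOrder.degree, MvPolynomial.support_map_of_injective PS
        (FaithfulSMul.algebraMap_injective S Ω)]
    have h1 : algebraMap S Ω (m.leadingCoeff PS) = 1 := by
      rw [← hlc, MonomialOrder.leadingCoeff, MonomialOrder.leadingCoeff, hdeg, ← MvPolynomial.coeff_map, hPS]
    rw [show m.leadingCoeff PS = 1 from FaithfulSMul.algebraMap_injective S Ω (h1.trans (map_one _).symm)]
    exact isUnit_one
  have hdu : IsUnit (MvPolynomial.aeval xM dS) := by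
    have h1 : MvPolynomial.aeval xM dS * algebraMap B' M βS = algebraMap B' M δS := by
      apply hjM
      rw [map_mul, hevM, hdS, hjMalg, hjMalg, hjLv hβS, hjLv hδS, hδ]
    have h2 : IsUnit (algebraMap B' M δS) := isUnit_of_dvd_unit (map_dvd _ (dvd_mul_left δS _)) hsu
    rw [← h1] at h2
    exact isUnit_of_mul_isUnit_left h2
  have hadj : Algebra.adjoin S ((fun g => (1 : S) ⊗ₜ[R] g) '' (gens : Set B)) = (⊤ : Subalgebra S B') := by
    refine top_le_iff.1 fun z _ => ?_
    induction z using TensorProduct.induction_on with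
    | zero => exact zero_mem _
    | add p q hp hq => exact add_mem (hp Algebra.mem_top) (hq Algebra.mem_top)
    | tmul y g =>
      rw [show y ⊗ₜ[R] g = y • ((1 : S) ⊗ₜ[R] g) by rw [TensorProduct.smul_tmul', smul_eq_mul, mul_one]]
      refine Subalgebra.smul_mem _ ?_ _
      let N : Subalgebra R B := ((Algebra.adjoin S ((fun g => (1 : S) ⊗ₜ[R] g) '' (gens : Set B))).restrictScalars R).comap
        (Algebra.TensorProduct.includeRight : B →ₐ[R] B')
      have hN : Algebra.adjoin R (gens : Set B) ≤ N :=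
        Algebra.adjoin_le fun g hg => Algebra.subset_adjoin ⟨g, hg, rfl⟩
      exact hN (hgens ▸ Algebra.mem_top)
  obtain ⟨ψ, φ, hψ⟩ := exists_factor jM hjM x xM hxM m PS hlcS
    (fun q => by rw [hPS]; exact hker q) dS hdu _ hadj (by
      rintro _ ⟨g, hg, rfl⟩
      refine ⟨DS ⟨g, hg⟩, GS ⟨g, hg⟩, Finset.dvd_prod_of_mem DS (Finset.mem_univ _), ?_⟩
      rw [hjMalg, hDS, hGS]
      exact hGD g)
  -- the open set
  obtain ⟨c₁, hc₁, hirr⟩ := exists_irreducible S Ω PS (by rwa [hPS])
  obtain ⟨c₂, hc₂, hnzd⟩ := exists_nzd S B' (s := s) fun p q h => mul_left_cancel₀ hs h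
  obtain ⟨c, hc, hpt⟩ := exists_point R S hS (mul_ne_zero hc₁ hc₂)
  refine ⟨c, hc, fun k _ _ _ hck => ?_⟩
  obtain ⟨σ, hσ⟩ := hpt k hck
  let : Algebra S k := σ.toRingHom.toAlgebra
  have : IsScalarTower R S k := IsScalarTower.of_algebraMap_eq fun y => (σ.commutes y).symm
  obtain ⟨hk₁, hk₂⟩ := ne_zero_of_ne_zero S (k := k) hσ
  -- the fibre
  let e := (Algebra.TensorProduct.cancelBaseChange R S k k B)
  have : Nontrivial B := by
    by_contra hn
    rw [not_nontrivial_iff_subsingleton] at hn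
    exact one_ne_zero (α := A) (by
      rw [Algebra.TensorProduct.one_def, Subsingleton.elim (1 : B) 0, TensorProduct.tmul_zero])
  let bB := Module.Free.chooseBasis R B
  have : Nonempty (Module.Free.ChooseBasisIndex R B) := bB.index_nonempty
  have : Nontrivial (k ⊗[R] B) :=
    ⟨⟨Algebra.TensorProduct.basis k bB (Classical.arbitrary _), 0, Module.Basis.ne_zero _ _⟩⟩
  have : Nontrivial (k ⊗[S] B') := e.toEquiv.nontrivial
  have : IsDomain (k ⊗[S] B') := isDomain_tensor_of_factor S k s (Ideal.Quotient.mk (Ideal.span {PS}) dS) M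
    (Localization.Away (Ideal.Quotient.mk (Ideal.span {PS}) dS)) ψ φ hψ (hnzd k hk₂)
    (isDomain_tensor_hypersurface S k PS (hirr k hk₁))
  exact e.symm.injective.isDomain e.symm.toAlgHom.toRingHom

/-- An algebra of finite type with geometrically integral generic fibre has geometrically integral
fibres near the generic point. -/
theorem exists_isDomain (R : Type u) [CommRing R] [IsDomain R] (B : Type u) [CommRing B] [Algebra R B]
    [Algebra.FiniteType R B] (Ω : Type u) [Field Ω] [IsAlgClosed Ω] [Algebra R Ω]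
    [FaithfulSMul R Ω] [IsDomain (Ω ⊗[R] B)] :
    ∃ c : R, c ≠ 0 ∧ ∀ (k : Type u) [Field k] [IsAlgClosed k] [Algebra R k],
      algebraMap R k c ≠ 0 → IsDomain (k ⊗[R] B) := by
  obtain ⟨c₀, hc₀, hfree, -⟩ := exists_free R B
  let R₁ := Localization.Away c₀
  have hle : Submonoid.powers c₀ ≤ R⁰ := powers_le_nonZeroDivisors_of_noZeroDivisors hc₀
  have : IsDomain R₁ := IsLocalization.isDomain_localization hle
  have hu : IsUnit (algebraMap R Ω c₀) :=
    isUnit_iff_ne_zero.2 ((map_ne_zero_iff _ (FaithfulSMul.algebraMap_injective R Ω)).2 hc₀)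
  let : Algebra R₁ Ω := (IsLocalization.Away.lift c₀ (g := algebraMap R Ω) hu).toAlgebra
  have : IsScalarTower R R₁ Ω := IsScalarTower.of_algebraMap_eq fun x => by
    rw [RingHom.algebraMap_toAlgebra, IsLocalization.Away.lift_eq]
  have : FaithfulSMul R₁ Ω := (faithfulSMul_iff_algebraMap_injective R₁ Ω).2
    ((injective_iff_map_eq_zero _).2 fun z hz => by
      obtain ⟨⟨r, t⟩, hrt⟩ := IsLocalization.surj (Submonoid.powers c₀) z
      have := congrArg (algebraMap R₁ Ω) hrt
      rw [map_mul, hz, zero_mul, ← IsScalarTower.algebraMap_apply] at this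
      rw [(map_eq_zero_iff _ (FaithfulSMul.algebraMap_injective R Ω)).1 this.symm, map_zero] at hrt
      exact (IsLocalization.map_units R₁ t).mul_left_eq_zero.1 hrt)
  let e := Algebra.TensorProduct.cancelBaseChange R R₁ Ω Ω B
  have : IsDomain (Ω ⊗[R₁] (R₁ ⊗[R] B)) := e.injective.isDomain e.toAlgHom.toRingHom
  obtain ⟨c₁, hc₁, h⟩ := exists_isDomain_free R₁ (R₁ ⊗[R] B) Ω
  obtain ⟨c, hc, hpt⟩ := exists_point R R₁ (IsLocalization.injective R₁ hle) hc₁
  refine ⟨c, hc, fun k _ _ _ hck => ?_⟩
  obtain ⟨σ, hσ⟩ := hpt k hck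
  let : Algebra R₁ k := σ.toRingHom.toAlgebra
  have : IsScalarTower R R₁ k := IsScalarTower.of_algebraMap_eq fun y => (σ.commutes y).symm
  let e' := Algebra.TensorProduct.cancelBaseChange R R₁ k k B
  have := h k hσ
  exact e'.symm.injective.isDomain e'.symm.toAlgHom.toRingHom

end Groth.Agent.GeomIrredStrata
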