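import Groth.Agent.GeomIrredStrata.Count
import Mathlib.AlgebraicGeometry.Fiber
import Mathlib.AlgebraicGeometry.Morphisms.Preimmersion

/-!
# Fibres near the generic point of an irreducible base
-/

set_option autoImplicit false

universe u

open CategoryTheory CategoryTheory.Limits AlgebraicGeometry
open scoped TensorProduct

namespace Groth.Agent.GeomIrredStrata

/-- An affine integral chart at the generic point, with the same fibres. -/
theorem exists_generic_chart {X Y : Scheme.{u}} (f : X ⟶ Y) [IrreducibleSpace Y] :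
    ∃ (R : Type u) (_ : CommRing R) (_ : IsDomain R) (g : Spec (CommRingCat.of R) ⟶ Y),
      IsOpen (Set.range g) ∧ g (⊥ : PrimeSpectrum R) = genericPoint Y ∧
      IsOpenMap g ∧ ∀ q, Nonempty ((pullback.snd f g).fiber q ≅ f.fiber (g q)) := by
  obtain ⟨(U : Y.Opens), hU, hy, -⟩ := TopologicalSpace.Opens.isBasis_iff_nbhd.mp Y.isBasis_affineOpens
    (show genericPoint Y ∈ (⊤ : Y.Opens) from trivial)
  let A : CommRingCat.{u} := Γ(Y, U)
  let i : Spec A ⟶ Y := hU.fromSpec
  obtain ⟨(p : PrimeSpectrum A), hp⟩ : genericPoint Y ∈ Set.range i := by rw [hU.range_fromSpec]; exact hy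
  have hmin : ∀ q : PrimeSpectrum A, p.asIdeal ≤ q.asIdeal := fun q => by
    have h : i p ⤳ i q := hp.symm ▸ genericPoint_specializes _
    exact (PrimeSpectrum.le_iff_specializes p q).2 (i.isOpenEmbedding.isInducing.specializes_iff.1 h)
  let π : Spec (CommRingCat.of (A ⧸ p.asIdeal)) ⟶ Spec A :=
    Spec.map (CommRingCat.ofHom (Ideal.Quotient.mk p.asIdeal))
  have hπ : IsClosedImmersion π := IsClosedImmersion.spec_of_surjective _ Ideal.Quotient.mk_surjective
  have hπs : Function.Surjective π := fun (q : PrimeSpectrum A) => by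
    have hker : RingHom.ker (Ideal.Quotient.mk p.asIdeal) ≤ q.asIdeal := by rw [Ideal.mk_ker]; exact hmin q
    have : (q.asIdeal.map (Ideal.Quotient.mk p.asIdeal)).IsPrime :=
      Ideal.map_isPrime_of_surjective Ideal.Quotient.mk_surjective hker
    refine ⟨⟨_, this⟩, PrimeSpectrum.ext ?_⟩
    show (q.asIdeal.map (Ideal.Quotient.mk p.asIdeal)).comap (Ideal.Quotient.mk p.asIdeal) = q.asIdeal
    rw [Ideal.comap_map_of_surjective _ Ideal.Quotient.mk_surjective, ← RingHom.ker_eq_comap_bot,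
      sup_eq_left]
    exact hker
  let g := π ≫ i
  have hπh : IsHomeomorph π := isHomeomorph_iff_continuous_isClosedMap_bijective.2
    ⟨π.continuous, π.isClosedEmbedding.isClosedMap, π.injective, hπs⟩
  have hopen : IsOpenMap g := i.isOpenEmbedding.isOpenMap.comp hπh.isOpenMap
  refine ⟨A ⧸ p.asIdeal, inferInstance, inferInstance, g, hopen.isOpen_range, ?_, hopen, fun q => ?_⟩
  · rw [← hp, Scheme.Hom.comp_apply]
    refine congrArg i (PrimeSpectrum.ext ?_)
    show Ideal.comap (Ideal.Quotient.mk p.asIdeal) ⊥ = _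
    rw [← RingHom.ker_eq_comap_bot, Ideal.mk_ker]
  · have hres : IsIso (g.residueFieldMap q) := by
      rw [ConcreteCategory.isIso_iff_bijective]
      refine ⟨(g.residueFieldMap q).hom.injective, fun z => ?_⟩
      obtain ⟨s, rfl⟩ := IsLocalRing.residue_surjective z
      obtain ⟨t, rfl⟩ := g.stalkMap_surjective q s
      exact ⟨IsLocalRing.residue _ t, rfl⟩
    have := (isPullback_fiberToSpecResidueField_of_isPullback (IsPullback.of_hasPullback f g) q).isIso_fst_of_isIso
    exact ⟨@asIso _ _ _ _ _ this⟩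

variable {R : Type u} [CommRing R] [IsDomain R] {X : Scheme.{u}} (f : X ⟶ Spec (CommRingCat.of R))
  [LocallyOfFiniteType f] [QuasiCompact f]

/-- A point of an affine piece gives a geometric point. -/
theorem exists_geometric_point {B : Type u} [CommRing B] [Algebra R B] (b : PrimeSpectrum B) :
    ∃ (k : Type u) (_ : Field k) (_ : IsAlgClosed k) (_ : Algebra R k) (ψ : k ⊗[R] B →+* k),
      RingHom.ker (algebraMap R k) = b.asIdeal.comap (algebraMap R B) ∧
      ∀ y, ψ ((1 : k) ⊗ₜ[R] y) = 0 ↔ y ∈ b.asIdeal := by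
  let k := AlgebraicClosure b.asIdeal.ResidueField
  refine ⟨k, inferInstance, inferInstance, inferInstance,
    (Algebra.TensorProduct.lift (AlgHom.id R k) (IsScalarTower.toAlgHom R B k) fun _ _ => mul_comm _ _).toRingHom,
    ?_, fun y => ?_⟩
  · ext x
    rw [RingHom.mem_ker, Ideal.mem_comap, IsScalarTower.algebraMap_apply R B k,
      IsScalarTower.algebraMap_apply B b.asIdeal.ResidueField k, map_eq_zero,
      Ideal.algebraMap_residueField_eq_zero]
  · show Algebra.TensorProduct.lift _ _ _ ((1 : k) ⊗ₜ[R] y) = 0 ↔ _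
    rw [Algebra.TensorProduct.lift_tmul, map_one, one_mul, IsScalarTower.toAlgHom_apply,
      IsScalarTower.algebraMap_apply B b.asIdeal.ResidueField k, map_eq_zero,
      Ideal.algebraMap_residueField_eq_zero]

set_option maxHeartbeats 1000000 in
/-- Closures of finitely many points of the generic fibre, seen in the nearby fibres. -/
theorem generic_points_near {P : Type u} [Finite P] (z : P → X) (hz : ∀ p, f (z p) = (⊥ : PrimeSpectrum R))
    (hcov : ∀ x : X, f x = (⊥ : PrimeSpectrum R) → ∃ p, x ∈ closure ({z p} : Set X)) :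
    ∃ c : R, c ≠ 0 ∧ ∀ q : PrimeSpectrum R, c ∉ q.asIdeal →
      (∀ x, f x = q → ∃ p, x ∈ closure ({z p} : Set X)) ∧
      (∀ p, (∀ p', p' ≠ p → z p ∉ closure ({z p'} : Set X)) →
        ∃ x, f x = q ∧ x ∈ closure ({z p} : Set X) ∧ ∀ p', p' ≠ p → x ∉ closure ({z p'} : Set X)) ∧
      ∀ p p', (∀ x, f x = (⊥ : PrimeSpectrum R) → x ∈ closure ({z p} : Set X) → x ∉ closure ({z p'} : Set X)) →
        ∀ x, f x = q → x ∈ closure ({z p} : Set X) → x ∉ closure ({z p'} : Set X) := by
  classical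
  obtain ⟨ι, _, Bs, _, _, _, js, _, hjs, hcov'⟩ := exists_pieces f
  let K := FractionRing R
  have : FaithfulSMul R K := (faithfulSMul_iff_algebraMap_injective R K).2 (IsFractionRing.injective R K)
  have hfj : ∀ (i : ι) (b : PrimeSpectrum (Bs i)), f (js i b) = PrimeSpectrum.comap (algebraMap R (Bs i)) b :=
    fun i b => by rw [← Scheme.Hom.comp_apply, hjs]; rfl
  -- a point of the generic fibre is a prime over zero
  have hbot : ∀ (i : ι) (a : PrimeSpectrum (Bs i)), f (js i a) = (⊥ : PrimeSpectrum R) →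
      a.asIdeal.comap (algebraMap R (Bs i)) = ⊥ := fun i a h =>
    congrArg PrimeSpectrum.asIdeal ((hfj i a).symm.trans h)
  -- in a piece the closure of a point is the locus of a prime
  have hpr : ∀ (p : P) (i : ι) (b : PrimeSpectrum (Bs i)), js i b ∈ closure ({z p} : Set X) ↔
      ∃ a : PrimeSpectrum (Bs i), js i a = z p ∧ a.asIdeal ≤ b.asIdeal := by
    intro p i b
    rw [← specializes_iff_mem_closure]
    constructor
    · intro h
      obtain ⟨a, ha⟩ := h.mem_open (js i).isOpenEmbedding.isOpen_range ⟨b, rfl⟩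
      rw [← ha] at h
      exact ⟨a, ha, (PrimeSpectrum.le_iff_specializes _ _).2 ((js i).isOpenEmbedding.isInducing.specializes_iff.1 h)⟩
    · rintro ⟨a, ha, hle⟩
      exact ha ▸ ((PrimeSpectrum.le_iff_specializes a b).1 hle).map (js i).continuous
  have hinj : ∀ i, Function.Injective (js i) := fun i => (js i).isOpenEmbedding.injective
  have hgen : ∀ (i : ι) (Q : PrimeSpectrum (K ⊗[R] Bs i)),
      f (js i (PrimeSpectrum.comap (Algebra.TensorProduct.includeRight : Bs i →ₐ[R] K ⊗[R] Bs i).toRingHom Q :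
        PrimeSpectrum _)) = (⊥ : PrimeSpectrum R) := by
    intro i Q
    rw [hfj]
    refine PrimeSpectrum.ext ?_
    show (Q.asIdeal.comap _).comap (algebraMap R (Bs i)) = ⊥
    refine eq_bot_iff.2 fun x hx => ?_
    rw [Ideal.mem_comap, Ideal.mem_comap] at hx
    by_contra hne
    refine Q.isPrime.ne_top (Ideal.eq_top_of_isUnit_mem _ hx ?_)
    rw [show (Algebra.TensorProduct.includeRight : Bs i →ₐ[R] K ⊗[R] Bs i).toRingHom (algebraMap R (Bs i) x) =
      algebraMap K (K ⊗[R] Bs i) (algebraMap R K x) by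
        show Algebra.TensorProduct.includeRight (R := R) (A := K) (algebraMap R (Bs i) x) = _
        rw [AlgHom.commutes, ← IsScalarTower.algebraMap_apply]]
    exact (isUnit_iff_ne_zero.2 ((map_ne_zero_iff _ (IsFractionRing.injective R K)).2 hne)).map _
  let Sp : ∀ i, Finset P := fun i => (Set.toFinite {p | z p ∈ Set.range (js i)}).toFinset
  have hA : ∀ i, ∃ I : P → Ideal (Bs i), ∀ (p : P) (a : PrimeSpectrum (Bs i)), js i a = z p → I p = a.asIdeal := by
    intro i
    refine ⟨fun p => if h : ∃ a : PrimeSpectrum (Bs i), js i a = z p then (Classical.choose h).asIdeal else ⊤,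
      fun p a ha => ?_⟩
    have hex : ∃ b : PrimeSpectrum (Bs i), js i b = z p := ⟨a, ha⟩
    exact (dif_pos hex).trans (congrArg PrimeSpectrum.asIdeal (hinj i ((Classical.choose_spec hex).trans ha.symm)))
  choose I hI using hA
  -- the closures cover the fibres
  have h1 : Near R fun k _ _ _ => ∀ (i : ι) (y : Bs i), (1 : K) ⊗ₜ[R] y = 0 → (1 : k) ⊗ₜ[R] y = 0 :=
    Near.all fun i => vanish_near R (Bs i) K
  -- and stay distinct
  have h2 : ∀ p, (∀ p', p' ≠ p → z p ∉ closure ({z p'} : Set X)) →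
      Near R fun k _ _ _ => ∀ q : PrimeSpectrum R, RingHom.ker (algebraMap R k) = q.asIdeal →
        ∃ x, f x = q ∧ x ∈ closure ({z p} : Set X) ∧ ∀ p', p' ≠ p → x ∉ closure ({z p'} : Set X) := by
    intro p hp
    obtain ⟨i, a, ha⟩ := hcov' (z p)
    let a' : PrimeSpectrum (Bs i) := a
    let O : Set X := ⋂ p' ∈ {p' | p' ≠ p}, (closure ({z p'} : Set X))ᶜ
    have hO : IsOpen O := (Set.toFinite _).isOpen_biInter fun p' _ => isClosed_closure.isOpen_compl
    have haO : js i a' ∈ O := by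
      rw [ha]; exact Set.mem_iInter₂.2 hp
    obtain ⟨_, ⟨g, rfl⟩, hga, hgO⟩ := PrimeSpectrum.isTopologicalBasis_basic_opens.exists_subset_of_mem_open
      (show a' ∈ (js i) ⁻¹' O from haO) (hO.preimage (js i).continuous)
    have : Algebra.FiniteType R (Bs i ⧸ a'.asIdeal) :=
      Algebra.FiniteType.of_surjective (Ideal.Quotient.mkₐ R _) (Ideal.Quotient.mkₐ_surjective R _)
    have hb : a'.asIdeal.comap (algebraMap R (Bs i)) = ⊥ := hbot i a' (by rw [ha, hz])
    let L := FractionRing (Bs i ⧸ a'.asIdeal)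
    have hRL : Function.Injective ((algebraMap (Bs i ⧸ a'.asIdeal) L).comp (algebraMap R (Bs i ⧸ a'.asIdeal))) := by
      rw [injective_iff_map_eq_zero]
      intro x hx
      rw [RingHom.comp_apply, map_eq_zero_iff _ (IsFractionRing.injective _ L),
        IsScalarTower.algebraMap_apply R (Bs i) (Bs i ⧸ a'.asIdeal), Ideal.Quotient.algebraMap_eq,
        Ideal.Quotient.eq_zero_iff_mem] at hx
      have : x ∈ a'.asIdeal.comap (algebraMap R (Bs i)) := hx
      rwa [hb, Ideal.mem_bot] at this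
    rw [← IsScalarTower.algebraMap_eq] at hRL
    have hnil : ¬ IsNilpotent ((1 : L) ⊗ₜ[R] Ideal.Quotient.mk a'.asIdeal g) := fun h => by
      have h' := h.map (Algebra.TensorProduct.lift (AlgHom.id R L)
        (IsScalarTower.toAlgHom R (Bs i ⧸ a'.asIdeal) L) fun _ _ => mul_comm _ _)
      rw [Algebra.TensorProduct.lift_tmul, map_one, one_mul, IsScalarTower.toAlgHom_apply] at h'
      have h'' := h'.eq_zero
      rw [map_eq_zero_iff _ (IsFractionRing.injective _ L), Ideal.Quotient.eq_zero_iff_mem] at h''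
      exact hga h''
    have : FaithfulSMul R L := (faithfulSMul_iff_algebraMap_injective R L).2 hRL
    refine (Near.not_nilpotent (Bs i ⧸ a'.asIdeal) L _ hnil).mono fun k _ _ _ hk q hq => ?_
    rw [nilpotent_iff_mem_prime] at hk
    push Not at hk
    obtain ⟨J, hJ, hgJ⟩ := hk
    let incl := ((Algebra.TensorProduct.includeRight :
      (Bs i ⧸ a'.asIdeal) →ₐ[R] k ⊗[R] (Bs i ⧸ a'.asIdeal)).comp (Ideal.Quotient.mkₐ R a'.asIdeal))
    let b : PrimeSpectrum (Bs i) := PrimeSpectrum.comap incl.toRingHom ⟨J, hJ⟩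
    have hab : a'.asIdeal ≤ b.asIdeal := fun x hx => by
      show incl x ∈ J
      have : incl x = (1 : k) ⊗ₜ[R] Ideal.Quotient.mk a'.asIdeal x := rfl
      rw [this, Ideal.Quotient.eq_zero_iff_mem.2 hx, TensorProduct.tmul_zero]
      exact zero_mem _
    refine ⟨js i b, ?_, (hpr p i b).2 ⟨a', ha, hab⟩, fun p' hp' hmem => ?_⟩
    · rw [hfj]
      refine PrimeSpectrum.ext ?_
      show (J.comap incl.toRingHom).comap (algebraMap R (Bs i)) = _
      rw [← hq]
      ext x
      rw [Ideal.mem_comap, Ideal.mem_comap, RingHom.mem_ker]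
      show incl (algebraMap R (Bs i) x) ∈ J ↔ _
      rw [AlgHom.commutes, IsScalarTower.algebraMap_apply R k (k ⊗[R] (Bs i ⧸ a'.asIdeal))]
      refine ⟨fun h => by_contra fun hne => hJ.ne_top (Ideal.eq_top_of_isUnit_mem _ h
        ((isUnit_iff_ne_zero.2 hne).map _)), fun h => by rw [h, map_zero]; exact zero_mem _⟩
    · have : js i b ∈ O := hgO (show g ∉ b.asIdeal from hgJ)
      exact Set.mem_iInter₂.1 this p' hp' hmem
  -- empty intersections stay empty
  have h3 : ∀ p p', (∀ x, f x = (⊥ : PrimeSpectrum R) → x ∈ closure ({z p} : Set X) → x ∉ closure ({z p'} : Set X)) →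
      Near R fun k _ _ _ => ∀ i, z p ∈ Set.range (js i) → z p' ∈ Set.range (js i) →
        Subsingleton (k ⊗[R] (Bs i ⧸ (I i p ⊔ I i p'))) := by
    intro p p' hne
    refine Near.all fun i => Near.of_imp fun ⟨a, ha⟩ => Near.of_imp fun ⟨a', ha'⟩ => ?_
    have : Algebra.FiniteType R (Bs i ⧸ (I i p ⊔ I i p')) :=
      Algebra.FiniteType.of_surjective (Ideal.Quotient.mkₐ R _) (Ideal.Quotient.mkₐ_surjective R _)
    have : Subsingleton (K ⊗[R] (Bs i ⧸ (I i p ⊔ I i p'))) := by
      refine not_nontrivial_iff_subsingleton.1 fun hn => ?_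
      have htop := (nontrivial_iff_map_ne_top K _).1 hn
      obtain ⟨m, hm, hle⟩ := Ideal.exists_le_maximal _ htop
      rw [Ideal.map_le_iff_le_comap, sup_le_iff] at hle
      let Q : PrimeSpectrum (K ⊗[R] Bs i) := ⟨m, hm.isPrime⟩
      exact hne _ (hgen i Q) ((hpr p i _).2 ⟨a, ha, (hI i p a ha) ▸ hle.1⟩)
        ((hpr p' i _).2 ⟨a', ha', (hI i p' a' ha') ▸ hle.2⟩)
    exact Near.subsingleton (Bs i ⧸ (I i p ⊔ I i p')) K
  obtain ⟨c₁, hc₁, H1⟩ := h1
  obtain ⟨c₂, hc₂, H2⟩ := Near.all (fun p => Near.of_imp (h2 p))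
  obtain ⟨c₃, hc₃, H3⟩ := Near.all (fun p => Near.all fun p' => Near.of_imp (h3 p p'))
  refine ⟨c₁ * c₂ * c₃, mul_ne_zero (mul_ne_zero hc₁ hc₂) hc₃, fun q hq => ?_⟩
  have hq1 : c₁ ∉ q.asIdeal := fun h => hq (Ideal.mul_mem_right _ _ (Ideal.mul_mem_right _ _ h))
  have hq2 : c₂ ∉ q.asIdeal := fun h => hq (Ideal.mul_mem_right _ _ (Ideal.mul_mem_left _ _ h))
  have hq3 : c₃ ∉ q.asIdeal := fun h => hq (Ideal.mul_mem_left _ _ h)
  refine ⟨fun x hx => ?_, fun p hp => ?_, fun p p' hne x hx hxp hxp' => ?_⟩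
  · obtain ⟨i, b, rfl⟩ := hcov' x
    obtain ⟨k, _, _, _, ψ, hker, hψ⟩ := exists_geometric_point (R := R) (b : PrimeSpectrum (Bs i))
    have hkq : RingHom.ker (algebraMap R k) = q.asIdeal :=
      hker.trans (congrArg PrimeSpectrum.asIdeal ((hfj i b).symm.trans hx))
    have hprod : ∏ p ∈ Sp i, I i p ≤ (b : PrimeSpectrum (Bs i)).asIdeal := by
      intro y hy
      have hnil : IsNilpotent ((1 : K) ⊗ₜ[R] y) := by
        rw [nilpotent_iff_mem_prime]
        intro J hJ
        let Q : PrimeSpectrum (K ⊗[R] Bs i) := ⟨J, hJ⟩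
        obtain ⟨p, hp⟩ := hcov _ (hgen i Q)
        obtain ⟨a, ha, hle⟩ := (hpr p i _).1 hp
        refine hle ?_
        rw [← hI i p a ha]
        exact (Ideal.prod_le_inf.trans (Finset.inf_le (b := p) (show p ∈ Sp i from (Set.toFinite _).mem_toFinset.2 ⟨a, ha⟩))) hy
      obtain ⟨n, hn⟩ := hnil
      rw [Algebra.TensorProduct.tmul_pow, one_pow] at hn
      have := H1 k (fun h => hq1 (hkq ▸ RingHom.mem_ker.2 h)) i _ hn
      exact Ideal.IsPrime.mem_of_pow_mem inferInstance n ((hψ _).1 (by rw [this, map_zero]))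
    obtain ⟨p, hp, hle⟩ := ((b : PrimeSpectrum (Bs i)).isPrime.prod_le).1 hprod
    obtain ⟨a, ha⟩ := (Set.toFinite _).mem_toFinset.1 hp
    exact ⟨p, (hpr p i b).2 ⟨a, ha, hI i p a ha ▸ hle⟩⟩
  · let k := AlgebraicClosure q.asIdeal.ResidueField
    have hkq : RingHom.ker (algebraMap R k) = q.asIdeal := by
      ext x
      rw [RingHom.mem_ker, IsScalarTower.algebraMap_apply R q.asIdeal.ResidueField k, map_eq_zero,
        Ideal.algebraMap_residueField_eq_zero]
    exact H2 k (fun h => hq2 (hkq ▸ RingHom.mem_ker.2 h)) p hp q hkq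
  · obtain ⟨i, b, rfl⟩ := hcov' x
    obtain ⟨a, ha, hle⟩ := (hpr p i b).1 hxp
    obtain ⟨a', ha', hle'⟩ := (hpr p' i b).1 hxp'
    obtain ⟨k, _, _, _, ψ, hker, hψ⟩ := exists_geometric_point (R := R) (b : PrimeSpectrum (Bs i))
    have hkq : RingHom.ker (algebraMap R k) = q.asIdeal :=
      hker.trans (congrArg PrimeSpectrum.asIdeal ((hfj i b).symm.trans hx))
    have := H3 k (fun h => hq3 (hkq ▸ RingHom.mem_ker.2 h)) p p' hne i ⟨a, ha⟩ ⟨a', ha'⟩
    have htop : (I i p ⊔ I i p').map (Algebra.TensorProduct.includeRight : Bs i →ₐ[R] k ⊗[R] Bs i).toRingHom = ⊤ := by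
      by_contra h
      exact not_nontrivial_iff_subsingleton.2 this ((nontrivial_iff_map_ne_top k _).2 h)
    have hle'' : (I i p ⊔ I i p').map (Algebra.TensorProduct.includeRight : Bs i →ₐ[R] k ⊗[R] Bs i).toRingHom ≤
        RingHom.ker ψ := by
      rw [Ideal.map_le_iff_le_comap, sup_le_iff, hI i p a ha, hI i p' a' ha']
      exact ⟨fun y hy => (hψ y).2 (hle hy), fun y hy => (hψ y).2 (hle' hy)⟩
    rw [htop] at hle''
    exact RingHom.ker_ne_top ψ (top_le_iff.1 hle'')

end Groth.Agent.GeomIrredStrata
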