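import Groth.Agent.GeomIrredStrata.Generic
import Mathlib.AlgebraicGeometry.Properties

/-!
# Lower bounds for the numbers of components of fibres near the generic point
-/

set_option autoImplicit false

universe u

open CategoryTheory CategoryTheory.Limits AlgebraicGeometry

namespace Groth.Agent.GeomIrredStrata

/-- Points of a fibre. -/
theorem fiberι_mem {X Y : Scheme.{u}} (f : X ⟶ Y) (y : Y) (v : f.fiber y) : f (f.fiberι y v) = y :=
  (f.range_fiberι y).le ⟨v, rfl⟩

/-- Points over a point come from its fibre. -/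
theorem exists_fiber {X Y : Scheme.{u}} (f : X ⟶ Y) {y : Y} {x : X} (hx : f x = y) :
    ∃ v, f.fiberι y v = x :=
  (f.range_fiberι y).ge hx

variable {R : Type u} [CommRing R] [IsDomain R] {X : Scheme.{u}} (f : X ⟶ Spec (CommRingCat.of R))
  [LocallyOfFiniteType f] [QuasiCompact f]

/-- The generic points of the components of the generic fibre and their closures. -/
theorem exists_components_data (hfin : (irreducibleComponents ↥(f.fiber (⊥ : PrimeSpectrum R))).Finite) :
    ∃ (z : irreducibleComponents ↥(f.fiber (⊥ : PrimeSpectrum R)) → X),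
      (∀ C, f (z C) = (⊥ : PrimeSpectrum R)) ∧
      (∀ x, f x = (⊥ : PrimeSpectrum R) → ∃ C, x ∈ closure ({z C} : Set X)) ∧
      (∀ C C', C' ≠ C → z C ∉ closure ({z C'} : Set X)) ∧
      ∀ (C : irreducibleComponents ↥(f.fiber (⊥ : PrimeSpectrum R))) (w : f.fiber (⊥ : PrimeSpectrum R)),
        f.fiberι _ w ∈ closure ({z C} : Set X) ↔ w ∈ C.1 := by
  let e := f.fiberι (⊥ : PrimeSpectrum R)
  choose w hw using fun C : irreducibleComponents ↥(f.fiber (⊥ : PrimeSpectrum R)) =>
    QuasiSober.sober C.2.1 (isClosed_of_mem_irreducibleComponents C.1 C.2)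
  have hrange : ∀ x, f x = (⊥ : PrimeSpectrum R) → ∃ v, e v = x := fun x hx => exists_fiber f hx
  have hcl : ∀ (C : irreducibleComponents ↥(f.fiber (⊥ : PrimeSpectrum R))) (v : f.fiber (⊥ : PrimeSpectrum R)),
      e v ∈ closure ({e (w C)} : Set X) ↔ v ∈ C.1 := fun C v => by
    rw [← Set.image_singleton, ← Set.mem_preimage, ← e.isEmbedding.closure_eq_preimage_closure_image]
    rw [show closure ({w C} : Set ↥(f.fiber (⊥ : PrimeSpectrum R))) = C.1 from hw C]
  refine ⟨fun C => e (w C), fun C => ?_, fun x hx => ?_, fun C C' hne hmem => hne ?_, hcl⟩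
  · exact fiberι_mem f _ (w C)
  · obtain ⟨v, rfl⟩ := hrange x hx
    exact ⟨⟨_, irreducibleComponent_mem_irreducibleComponents v⟩, (hcl _ v).2 mem_irreducibleComponent⟩
  · rw [hcl] at hmem
    have : C.1 ⊆ C'.1 := by
      rw [← show closure {w C} = C.1 from hw C]
      exact closure_minimal (Set.singleton_subset_iff.2 hmem) (isClosed_of_mem_irreducibleComponents C'.1 C'.2)
    exact Subtype.ext (le_antisymm (C.2.2 C'.2.1 this) this)

/-- Near the generic point there are at least as many irreducible components. -/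
theorem encard_le_near (hfin : (irreducibleComponents ↥(f.fiber (⊥ : PrimeSpectrum R))).Finite) :
    ∃ c : R, c ≠ 0 ∧ ∀ q : PrimeSpectrum R, c ∉ q.asIdeal →
      (irreducibleComponents ↥(f.fiber (⊥ : PrimeSpectrum R))).encard ≤ (irreducibleComponents ↥(f.fiber q)).encard := by
  have := hfin.to_subtype
  obtain ⟨z, hz, hcov, hne, hcl⟩ := exists_components_data f hfin
  obtain ⟨c, hc, h⟩ := generic_points_near f z hz hcov
  refine ⟨c, hc, fun q hq => ?_⟩
  obtain ⟨h1, h2, -⟩ := h q hq
  choose x hxq hxC hxo using fun C => h2 C fun C' => hne C C'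
  have hv : ∀ C, ∃ v, f.fiberι q v = x C := fun C => exists_fiber f (hxq C)
  choose v hv using hv
  refine Function.Embedding.encard_le ⟨fun C => ⟨irreducibleComponent (v C),
    irreducibleComponent_mem_irreducibleComponents _⟩, fun C C' hCC' => ?_⟩
  have hCC'' : irreducibleComponent (v C) = irreducibleComponent (v C') := congrArg Subtype.val hCC'
  have : Finite (irreducibleComponents ↥(f.fiber (⊥ : PrimeSpectrum R))) := hfin.to_subtype
  have := Fintype.ofFinite (irreducibleComponents ↥(f.fiber (⊥ : PrimeSpectrum R)))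
  classical
  obtain ⟨_, hZ, hsub⟩ := isIrreducible_iff_sUnion_isClosed.1 (isIrreducible_irreducibleComponent (x := v C))
    (Finset.univ.image fun D => f.fiberι q ⁻¹' closure ({z D} : Set X))
    (fun Z hZ => by
      obtain ⟨D, -, rfl⟩ := Finset.mem_image.1 hZ
      exact isClosed_closure.preimage (f.fiberι q).continuous)
    (fun y _ => by
      obtain ⟨D, hD⟩ := h1 (f.fiberι q y) (fiberι_mem f q y)
      exact ⟨f.fiberι q ⁻¹' closure ({z D} : Set X), by simp, hD⟩)
  obtain ⟨D, -, rfl⟩ := Finset.mem_image.1 hZ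
  have hD : C = D := by
    by_contra hne'
    exact hxo C D (Ne.symm hne') (hv C ▸ hsub mem_irreducibleComponent)
  have hD' : C' = D := by
    by_contra hne'
    exact hxo C' D (Ne.symm hne') (hv C' ▸ hsub (hCC'' ▸ mem_irreducibleComponent))
  rw [hD, hD']

/-- Near the generic point there are at least as many connected components. -/
theorem card_connectedComponents_le_near
    (hfin : (irreducibleComponents ↥(f.fiber (⊥ : PrimeSpectrum R))).Finite) :
    ∃ c : R, c ≠ 0 ∧ ∀ q : PrimeSpectrum R, c ∉ q.asIdeal →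
      ENat.card (_root_.ConnectedComponents ↥(f.fiber (⊥ : PrimeSpectrum R))) ≤
        ENat.card (_root_.ConnectedComponents ↥(f.fiber q)) := by
  classical
  have := hfin.to_subtype
  obtain ⟨z, hz, hcov, hne, hcl⟩ := exists_components_data f hfin
  obtain ⟨c, hc, h⟩ := generic_points_near f z hz hcov
  refine ⟨c, hc, fun q hq => ?_⟩
  obtain ⟨h1, h2, h3⟩ := h q hq
  let Fb := ↥(f.fiber (⊥ : PrimeSpectrum R))
  let cl : irreducibleComponents Fb → _root_.ConnectedComponents Fb := fun C => (C.2.1.nonempty.some : Fb)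
  have hclmem : ∀ (C : irreducibleComponents Fb) (y : Fb), y ∈ C.1 → (y : _root_.ConnectedComponents Fb) = cl C :=
    fun C y hy => ConnectedComponents.coe_eq_coe'.2
      (C.2.1.isConnected.isPreconnected.subset_connectedComponent C.2.1.nonempty.some_mem hy)
  have hsurj : Function.Surjective cl := fun a => by
    obtain ⟨y, rfl⟩ := ConnectedComponents.surjective_coe a
    exact ⟨⟨_, irreducibleComponent_mem_irreducibleComponents y⟩, (hclmem _ y mem_irreducibleComponent).symm⟩
  have : Finite (_root_.ConnectedComponents Fb) := Finite.of_surjective cl hsurj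
  let W : _root_.ConnectedComponents Fb → Set ↥(f.fiber q) := fun a =>
    ⋃ C ∈ {C | cl C = a}, f.fiberι q ⁻¹' closure ({z C} : Set X)
  have hfq : ∀ y : f.fiber q, f (f.fiberι q y) = q := fun y => fiberι_mem f q y
  have hWc : ∀ a, IsClosed (W a) := fun a => (Set.toFinite _).isClosed_biUnion fun C _ =>
    isClosed_closure.preimage (f.fiberι q).continuous
  have hex : ∀ y : f.fiber q, ∃ C, f.fiberι q y ∈ closure ({z C} : Set X) := fun y => h1 _ (hfq y)
  choose Cy hCy using hex
  have hdisj : ∀ (y : f.fiber q) (C : irreducibleComponents Fb), f.fiberι q y ∈ closure ({z C} : Set X) →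
      cl C = cl (Cy y) := by
    intro y C hC
    by_contra hne'
    refine h3 C (Cy y) (fun x hx hxC hxC' => hne' ?_) _ (hfq y) hC (hCy y)
    obtain ⟨v, rfl⟩ := exists_fiber f hx
    exact (hclmem C v ((hcl C v).1 hxC)).symm.trans (hclmem (Cy y) v ((hcl _ v).1 hxC'))
  let g : ↥(f.fiber q) → _root_.ConnectedComponents Fb := fun y => cl (Cy y)
  have hpre : ∀ a, g ⁻¹' {a} = W a := fun a => by
    ext y
    simp only [W, Set.mem_preimage, Set.mem_singleton_iff, Set.mem_iUnion, Set.mem_setOf_eq, exists_prop]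
    exact ⟨fun hy => ⟨Cy y, hy, hCy y⟩, fun ⟨C, hC, hmem⟩ => (hdisj y C hmem).symm.trans hC⟩
  have hg : Continuous g := continuous_iff_isClosed.2 fun s _ => by
    rw [← Set.biUnion_of_singleton s, Set.preimage_iUnion₂]
    exact (Set.toFinite s).isClosed_biUnion fun a _ => hpre a ▸ hWc a
  suffices hs : Function.Surjective (Continuous.connectedComponentsLift hg) from
    ENat.card_le_card_of_injective (Function.injective_surjInv hs)
  intro a
  obtain ⟨C, rfl⟩ := hsurj a
  obtain ⟨x, hxq, hxC, -⟩ := h2 C fun C' => hne C C'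
  obtain ⟨y, rfl⟩ := exists_fiber f hxq
  exact ⟨(y : _root_.ConnectedComponents ↥(f.fiber q)),
    (Continuous.connectedComponentsLift_apply_coe hg y).trans (hdisj y C hxC).symm⟩

end Groth.Agent.GeomIrredStrata

namespace Groth.Agent.GeomIrredStrata

/-- A fibre of a morphism of finite type has finitely many irreducible components. -/
theorem finite_irreducibleComponents_fiber {X Y : Scheme.{u}} (f : X ⟶ Y) [LocallyOfFiniteType f]
    [QuasiCompact f] (y : Y) : (irreducibleComponents ↥(f.fiber y)).Finite := by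
  have : LocallyOfFiniteType (f.fiberToSpecResidueField y) := MorphismProperty.pullback_snd _ _ ‹_›
  have : IsLocallyNoetherian (f.fiber y) := LocallyOfFiniteType.isLocallyNoetherian (f.fiberToSpecResidueField y)
  have : IsNoetherian (f.fiber y) := ⟨⟩
  exact TopologicalSpace.NoetherianSpace.finite_irreducibleComponents

/-- Near the generic point of an irreducible base there are at least as many components. -/
theorem exists_open_le {X Y : Scheme.{u}} (f : X ⟶ Y) [IrreducibleSpace Y] [LocallyOfFiniteType f]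
    [QuasiCompact f] : ∃ V : Y.Opens, (V : Set Y).Nonempty ∧ ∀ y ∈ V,
      (counts ↥(f.fiber (genericPoint Y))).1 ≤ (counts ↥(f.fiber y)).1 ∧
      (counts ↥(f.fiber (genericPoint Y))).2 ≤ (counts ↥(f.fiber y)).2 := by
  obtain ⟨R, _, _, g, -, hη, hopen, hfib⟩ := exists_generic_chart f
  let fR := pullback.snd f g
  have : LocallyOfFiniteType fR := MorphismProperty.pullback_snd _ _ ‹LocallyOfFiniteType f›
  have : QuasiCompact fR := MorphismProperty.pullback_snd _ _ ‹QuasiCompact f›
  have hfin := finite_irreducibleComponents_fiber fR (⊥ : PrimeSpectrum R)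
  obtain ⟨c₁, hc₁, h₁⟩ := encard_le_near fR hfin
  obtain ⟨c₂, hc₂, h₂⟩ := card_connectedComponents_le_near fR hfin
  have hc : ∀ q, counts ↥(fR.fiber q) = counts ↥(f.fiber (g q)) := fun q =>
    counts_congr (hfib q).some.hom.homeomorph
  refine ⟨⟨_, hopen _ (PrimeSpectrum.basicOpen (c₁ * c₂)).isOpen⟩,
    ⟨_, ⟨(⊥ : PrimeSpectrum R), ?_, rfl⟩⟩, ?_⟩
  · show c₁ * c₂ ∉ (⊥ : Ideal R)
    rw [Ideal.mem_bot]
    exact mul_ne_zero hc₁ hc₂
  · rintro _ ⟨(q : PrimeSpectrum R), hq, rfl⟩
    rw [← hη, ← hc, ← hc]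
    exact ⟨h₁ q fun h => hq (Ideal.mul_mem_right _ _ h), h₂ q fun h => hq (Ideal.mul_mem_left _ _ h)⟩

end Groth.Agent.GeomIrredStrata
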