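import Groth.Agent.GeomIrredStrata.Generic
import Mathlib.AlgebraicGeometry.Fiber
import Mathlib.AlgebraicGeometry.Properties

/-!
# Non-reduced fibres near the generic point
-/

set_option autoImplicit false

universe u

open CategoryTheory CategoryTheory.Limits AlgebraicGeometry
open scoped TensorProduct

namespace Groth.Agent.GeomIrredStrata

/-- A fibre is reduced iff the fibres of the affine pieces are. -/
theorem isReduced_fiber_iff {R : Type u} [CommRing R] {X : Scheme.{u}} (f : X ⟶ Spec (CommRingCat.of R))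
    {ι : Type u} (Bs : ι → Type u) [∀ i, CommRing (Bs i)] [∀ i, Algebra R (Bs i)]
    (js : ∀ i, Spec (CommRingCat.of (Bs i)) ⟶ X) [∀ i, IsOpenImmersion (js i)]
    (hjs : ∀ i, js i ≫ f = Spec.map (CommRingCat.ofHom (algebraMap R (Bs i))))
    (hcov : ∀ x : X, ∃ i, x ∈ Set.range (js i)) (q : PrimeSpectrum R) :
    AlgebraicGeometry.IsReduced (f.fiber q) ↔ ∀ i, _root_.IsReduced (q.asIdeal.Fiber (Bs i)) := by
  let 𝒰 : X.OpenCover := Scheme.Cover.mkOfCovers ι (fun i => Spec (CommRingCat.of (Bs i))) js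
    (fun x => ⟨(hcov x).choose, (hcov x).choose_spec.choose, (hcov x).choose_spec.choose_spec⟩)
    (fun i => inferInstance)
  have e : ∀ i, (Scheme.Pullback.openCoverOfLeft 𝒰 f ((Spec (CommRingCat.of R)).fromSpecResidueField q)).X i ≅
      Spec (CommRingCat.of (q.asIdeal.Fiber (Bs i))) := fun i =>
    pullback.congrHom (hjs i) rfl ≪≫ Arrow.leftFunc.mapIso (Spec.fiberToSpecResidueFieldIso R (Bs i) q)
  constructor
  · intro h i
    have : AlgebraicGeometry.IsReduced
        ((Scheme.Pullback.openCoverOfLeft 𝒰 f ((Spec (CommRingCat.of R)).fromSpecResidueField q)).X i) :=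
      @isReduced_of_isOpenImmersion _ _
        ((Scheme.Pullback.openCoverOfLeft 𝒰 f _).f i)
        ((Scheme.Pullback.openCoverOfLeft 𝒰 f _).map_prop i) h
    have : AlgebraicGeometry.IsReduced (Spec (CommRingCat.of (q.asIdeal.Fiber (Bs i)))) :=
      isReduced_of_isOpenImmersion (e i).inv
    exact (affine_isReduced_iff _).1 this
  · intro h
    apply +allowSynthFailures @IsReduced.of_openCover
      (𝒰 := Scheme.Pullback.openCoverOfLeft 𝒰 f ((Spec (CommRingCat.of R)).fromSpecResidueField q))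
    intro i
    have : AlgebraicGeometry.IsReduced (Spec (CommRingCat.of (q.asIdeal.Fiber (Bs i)))) :=
      (affine_isReduced_iff _).2 (h i)
    exact isReduced_of_isOpenImmersion (e i).hom

/-- If the generic fibre is not reduced, neither are the nearby ones. -/
theorem not_isReduced_near {R : Type u} [CommRing R] [IsDomain R] {X : Scheme.{u}}
    (f : X ⟶ Spec (CommRingCat.of R)) [LocallyOfFiniteType f] [QuasiCompact f]
    (h : ¬ AlgebraicGeometry.IsReduced (f.fiber (⊥ : PrimeSpectrum R))) :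
    ∃ c : R, c ≠ 0 ∧ ∀ q : PrimeSpectrum R, c ∉ q.asIdeal → ¬ AlgebraicGeometry.IsReduced (f.fiber q) := by
  classical
  obtain ⟨ι, _, Bs, _, _, _, js, _, hjs, hcov⟩ := exists_pieces f
  rw [isReduced_fiber_iff f Bs js hjs hcov] at h
  push Not at h
  obtain ⟨i, hi⟩ := h
  let B := Bs i
  let K := (⊥ : Ideal R).ResidueField
  have : FaithfulSMul R K := (faithfulSMul_iff_algebraMap_injective R K).2 (IsFractionRing.injective R K)
  change ¬ _root_.IsReduced (K ⊗[R] B) at hi
  rw [isReduced_iff] at hi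
  push Not at hi
  obtain ⟨a, ⟨n, hn⟩, ha0⟩ := hi
  -- clear denominators
  obtain ⟨r, hr, b, hb⟩ : ∃ r : R, r ≠ 0 ∧ ∃ b : B, algebraMap R K r • a = (1 : K) ⊗ₜ[R] b := by
    clear hn ha0
    induction a with
    | zero => exact ⟨1, one_ne_zero, 0, by simp⟩
    | tmul x y =>
      obtain ⟨⟨u, ⟨v, hv⟩⟩, huv⟩ := IsLocalization.surj (nonZeroDivisors R) x
      refine ⟨v, nonZeroDivisors.ne_zero hv, u • y, ?_⟩
      change x * algebraMap R K v = algebraMap R K u at huv
      rw [TensorProduct.smul_tmul', smul_eq_mul, mul_comm, huv, Algebra.algebraMap_eq_smul_one,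
        TensorProduct.smul_tmul]
    | add a a' ha ha' =>
      obtain ⟨r, hr, b, hb⟩ := ha
      obtain ⟨r', hr', b', hb'⟩ := ha'
      refine ⟨r * r', mul_ne_zero hr hr', r' • b + r • b', ?_⟩
      rw [smul_add, map_mul, TensorProduct.tmul_add, TensorProduct.tmul_smul, TensorProduct.tmul_smul, ← hb, ← hb',
        ← algebraMap_smul K r', ← algebraMap_smul K r, smul_smul, smul_smul, mul_comm (algebraMap R K r') _]
  have hnil : (1 : K) ⊗ₜ[R] (b ^ n) = 0 := by
    rw [← one_pow (M := K) n, ← Algebra.TensorProduct.tmul_pow, ← hb, smul_pow, hn, smul_zero]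
  have hne : (1 : K) ⊗ₜ[R] b ≠ 0 := by
    rw [← hb]
    intro h0
    exact ha0 ((smul_eq_zero.1 h0).resolve_left ((map_ne_zero_iff _ (IsFractionRing.injective R K)).2 hr))
  obtain ⟨c₁, hc₁, H₁⟩ := vanish_near R B K
  obtain ⟨c₂, hc₂, hfree, -⟩ := exists_free R B
  let Rc := Localization.Away c₂
  let β := Module.Free.chooseBasis Rc (Rc ⊗[R] B)
  have hb' : (1 : Rc) ⊗ₜ[R] b ≠ 0 := by
    intro h0
    refine hne ?_
    have hu : IsUnit (algebraMap R K c₂) :=
      isUnit_iff_ne_zero.2 ((map_ne_zero_iff _ (IsFractionRing.injective R K)).2 hc₂)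
    let : Algebra Rc K := (IsLocalization.Away.lift c₂ (g := algebraMap R K) hu).toAlgebra
    have : IsScalarTower R Rc K := IsScalarTower.of_algebraMap_eq fun x => by
      rw [RingHom.algebraMap_toAlgebra, IsLocalization.Away.lift_eq]
    have := congrArg (fun w => Algebra.TensorProduct.cancelBaseChange R Rc K K B ((1 : K) ⊗ₜ[Rc] w)) h0
    simpa using this
  obtain ⟨j, hj⟩ : ∃ j, β.repr ((1 : Rc) ⊗ₜ[R] b) j ≠ 0 := by
    by_contra hall
    push Not at hall
    exact hb' (β.repr.injective (Finsupp.ext fun j => by rw [hall j, map_zero]; rfl))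
  obtain ⟨⟨u, ⟨v, hv⟩⟩, huv⟩ := IsLocalization.surj (Submonoid.powers c₂) (β.repr ((1 : Rc) ⊗ₜ[R] b) j)
  have hu : u ≠ 0 := by
    rintro rfl
    rw [map_zero] at huv
    exact hj ((IsLocalization.map_units Rc (⟨v, hv⟩ : Submonoid.powers c₂)).mul_left_eq_zero.1 huv)
  refine ⟨c₁ * c₂ * u, mul_ne_zero (mul_ne_zero hc₁ hc₂) hu, fun q hq hred => ?_⟩
  have hq1 : c₁ ∉ q.asIdeal := fun h => hq (Ideal.mul_mem_right _ _ (Ideal.mul_mem_right _ _ h))
  have hq2 : c₂ ∉ q.asIdeal := fun h => hq (Ideal.mul_mem_right _ _ (Ideal.mul_mem_left _ _ h))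
  have hq3 : u ∉ q.asIdeal := fun h => hq (Ideal.mul_mem_left _ _ h)
  have hBred : _root_.IsReduced (q.asIdeal.Fiber B) := (isReduced_fiber_iff f Bs js hjs hcov q).1 hred i
  let κ := q.asIdeal.ResidueField
  change _root_.IsReduced (κ ⊗[R] B) at hBred
  let k := AlgebraicClosure κ
  have hkq : ∀ x, x ∉ q.asIdeal → algebraMap R κ x ≠ 0 := fun x hx h =>
    hx (Ideal.algebraMap_residueField_eq_zero.1 h)
  have hk : algebraMap R k c₁ ≠ 0 := by
    rw [IsScalarTower.algebraMap_apply R κ k, map_ne_zero]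
    exact hkq _ hq1
  have hinj : Function.Injective (Algebra.TensorProduct.map (IsScalarTower.toAlgHom R κ k) (AlgHom.id R B)) := by
    let e := Algebra.TensorProduct.cancelBaseChange R κ κ k B
    have hcomp : ∀ z, Algebra.TensorProduct.map (IsScalarTower.toAlgHom R κ k) (AlgHom.id R B) z =
        e ((1 : k) ⊗ₜ[κ] z) := fun z => by
      induction z with
      | zero => simp
      | add z w hz hw => rw [map_add, hz, hw, TensorProduct.tmul_add, map_add]
      | tmul x y => simp [e, Algebra.smul_def]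
    intro z w hzw
    rw [hcomp, hcomp] at hzw
    exact Algebra.TensorProduct.includeRight_injective (R := κ) (A := k) (algebraMap κ k).injective
      (e.injective hzw)
  have hz : (1 : κ) ⊗ₜ[R] b = 0 := by
    refine hBred.eq_zero _ ⟨n, ?_⟩
    rw [Algebra.TensorProduct.tmul_pow, one_pow]
    refine hinj ?_
    rw [map_zero, Algebra.TensorProduct.map_tmul, map_one, AlgHom.id_apply]
    exact H₁ k hk _ hnil
  let : Algebra Rc κ :=
    (IsLocalization.Away.lift c₂ (g := algebraMap R κ) (isUnit_iff_ne_zero.2 (hkq _ hq2))).toAlgebra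
  have : IsScalarTower R Rc κ := IsScalarTower.of_algebraMap_eq fun x => by
    rw [RingHom.algebraMap_toAlgebra, IsLocalization.Away.lift_eq]
  let β' := Algebra.TensorProduct.basis κ β
  have h0 : (1 : κ) ⊗ₜ[Rc] ((1 : Rc) ⊗ₜ[R] b) = 0 :=
    (Algebra.TensorProduct.cancelBaseChange R Rc κ κ B).injective (by
      rw [Algebra.TensorProduct.cancelBaseChange_tmul, one_smul, hz, map_zero])
  have h1 : algebraMap Rc κ (β.repr ((1 : Rc) ⊗ₜ[R] b) j) = 0 := by
    have := congrArg (fun w => β'.repr w j) h0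
    simpa [β', Algebra.smul_def] using this
  have h2 := congrArg (algebraMap Rc κ) huv
  rw [map_mul, h1, zero_mul, ← IsScalarTower.algebraMap_apply] at h2
  exact hkq _ hq3 h2.symm

end Groth.Agent.GeomIrredStrata
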