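import Groth.Agent.GeomIrredStrata.Points
import Mathlib.FieldTheory.SeparablyGenerated
import Mathlib.FieldTheory.PrimitiveElement
import Mathlib.RingTheory.MvPolynomial.Groebner
import Mathlib.RingTheory.MvPolynomial.MonomialOrder.DegLex
import Mathlib.RingTheory.Polynomial.GaussLemma

/-!
# Hypersurface models of function fields and specialisation of irreducible polynomials
-/

set_option autoImplicit false

universe u

open scoped TensorProduct

namespace Groth.Agent.GeomIrredStrata

/-- A finitely generated field over a perfect field is generated by elements with a single irreducible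
relation. -/
theorem exists_hypersurface (Ω L : Type u) [Field Ω] [PerfectField Ω] [Field L] [Algebra Ω L]
    [Algebra.EssFiniteType Ω L] :
    ∃ (n : ℕ) (x : Fin (n + 1) → L) (P : MvPolynomial (Fin (n + 1)) Ω),
      IntermediateField.adjoin Ω (Set.range x) = ⊤ ∧ Irreducible P ∧
      ∀ h, MvPolynomial.aeval x h = 0 ↔ P ∣ h := by
  obtain ⟨s, hs, hsep⟩ := exists_isTranscendenceBasis_and_isSeparable_of_perfectField Ω L
  obtain ⟨n, e⟩ : ∃ n : ℕ, Nonempty (Fin n ≃ (s : Set L)) :=
    ⟨s.card, ⟨(s.equivFin).symm⟩⟩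
  obtain ⟨e⟩ := e
  let v : Fin n → L := fun i => (e i : L)
  have hv : IsTranscendenceBasis Ω v := hs.comp_equiv e
  have hrange : Set.range v = (s : Set L) := by
    ext y
    exact ⟨by rintro ⟨i, rfl⟩; exact (e i).2, fun hy => ⟨e.symm ⟨y, hy⟩, by simp [v]⟩⟩
  let F := IntermediateField.adjoin Ω (s : Set L)
  have : Algebra.EssFiniteType F L := Algebra.EssFiniteType.of_comp Ω F L
  have : Algebra.IsSeparable F L := hsep
  have : FiniteDimensional F L := Algebra.finite_of_essFiniteType_of_isAlgebraic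
  obtain ⟨θ, hθ⟩ := Field.exists_primitive_element F L
  let x : Fin (n + 1) → L := Fin.cons θ v
  have hx : IntermediateField.adjoin Ω (Set.range x) = ⊤ := by
    have h1 := congrArg (IntermediateField.restrictScalars Ω) hθ
    rw [IntermediateField.restrictScalars_top, IntermediateField.adjoin_adjoin_left] at h1
    rw [← h1, Fin.range_cons, hrange, Set.union_singleton]
  let 𝔮 := RingHom.ker (MvPolynomial.aeval x : MvPolynomial (Fin (n + 1)) Ω →ₐ[Ω] L)
  have h𝔮 : 𝔮.IsPrime := RingHom.ker_isPrime _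
  have hne : 𝔮 ≠ ⊥ := fun hbot => by
    have hind : AlgebraicIndependent Ω x :=
      algebraicIndependent_iff_injective_aeval.2 ((RingHom.injective_iff_ker_eq_bot _).2 hbot)
    have hind' := hind.comp _ (finSuccEquiv n).symm.injective
    have hcons : x ∘ (finSuccEquiv n).symm = fun o => o.elim θ v :=
      funext fun o => by cases o <;> simp [x]
    rw [hcons, hv.1.option_iff_transcendental] at hind'
    exact hind' (hv.isAlgebraic.isAlgebraic θ)
  obtain ⟨P, hP, hPp⟩ := h𝔮.exists_mem_prime_of_ne_bot hne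
  refine ⟨n, x, P, hx, hPp.irreducible, fun h => ⟨fun hh => ?_, fun ⟨g, hg⟩ => ?_⟩⟩
  swap
  · rw [hg, map_mul, show MvPolynomial.aeval x P = 0 from hP, zero_mul]
  let A₀ := MvPolynomial (Fin n) Ω
  let : Algebra A₀ L := (MvPolynomial.aeval v).toRingHom.toAlgebra
  have hinj : Function.Injective (algebraMap A₀ L) := hv.1
  have : FaithfulSMul A₀ L := (faithfulSMul_iff_algebraMap_injective A₀ L).2 hinj
  let K₀ := FractionRing A₀
  let : Algebra K₀ L := FractionRing.liftAlgebra A₀ L
  have hev : ∀ q, Polynomial.aeval θ ((MvPolynomial.finSuccEquiv Ω n q).map (algebraMap A₀ K₀)) =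
      MvPolynomial.aeval x q := fun q => by
    rw [Polynomial.aeval_map_algebraMap]
    induction q using MvPolynomial.induction_on with
    | C a =>
      rw [show MvPolynomial.finSuccEquiv Ω n (MvPolynomial.C a) = Polynomial.C (MvPolynomial.C a) by
        simp [MvPolynomial.finSuccEquiv_apply], Polynomial.aeval_C, MvPolynomial.aeval_C]
      exact MvPolynomial.aeval_C v a
    | add p q hp hq => simp [hp, hq]
    | mul_X p i hp =>
      rw [map_mul, map_mul, map_mul, hp]
      congr 1
      cases i using Fin.cases with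
      | zero => simp [MvPolynomial.finSuccEquiv_X_zero, x]
      | succ j =>
        rw [MvPolynomial.finSuccEquiv_X_succ, Polynomial.aeval_C]
        simp only [x, Fin.cons_succ, MvPolynomial.aeval_X]
        exact MvPolynomial.aeval_X v j
  let Q := MvPolynomial.finSuccEquiv Ω n P
  have hQ : Irreducible Q := hPp.irreducible.map (MvPolynomial.finSuccEquiv Ω n).toRingEquiv.toMulEquiv
  have hQ0 : Q.natDegree ≠ 0 := fun h0 => by
    have h1 : Polynomial.aeval θ (Q.map (algebraMap A₀ K₀)) = 0 := (hev P).trans hP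
    obtain ⟨a, ha⟩ : ∃ a, Q = Polynomial.C a := ⟨_, Polynomial.eq_C_of_natDegree_eq_zero h0⟩
    rw [ha, Polynomial.map_C, Polynomial.aeval_C, ← IsScalarTower.algebraMap_apply] at h1
    exact hQ.ne_zero (by rw [ha, (map_eq_zero_iff _ hinj).1 h1, map_zero])
  have hprim : Q.IsPrimitive := hQ.isPrimitive hQ0
  have hQK : Irreducible (Q.map (algebraMap A₀ K₀)) :=
    (hprim.irreducible_iff_irreducible_map_fraction_map (K := K₀)).1 hQ
  have hdvd : Q.map (algebraMap A₀ K₀) ∣ (MvPolynomial.finSuccEquiv Ω n h).map (algebraMap A₀ K₀) := by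
    by_contra hnd
    obtain ⟨a, b, hab⟩ := hQK.coprime_iff_not_dvd.2 hnd
    have := congrArg (Polynomial.aeval θ) hab
    rw [map_add, map_mul, map_mul, hev, hev, map_one, hh, show MvPolynomial.aeval x P = 0 from hP] at this
    simp at this
  exact (map_dvd_iff (MvPolynomial.finSuccEquiv Ω n)).1 (hprim.dvd_of_fraction_map_dvd_fraction_map hdvd)

/-- Divisibility by a polynomial with unit leading coefficient descends along injective maps. -/
theorem dvd_of_map_dvd {S T : Type u} [CommRing S] [CommRing T] [IsDomain T] (f : S →+* T)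
    (hf : Function.Injective f) {n : ℕ} (m : MonomialOrder (Fin n)) (P h : MvPolynomial (Fin n) S)
    (hP : IsUnit (m.leadingCoeff P)) (hdvd : MvPolynomial.map f P ∣ MvPolynomial.map f h) : P ∣ h := by
  obtain ⟨g, r, hgr, -, hr⟩ := m.div_single hP h
  suffices hr0 : r = 0 by exact ⟨g, by rw [hgr, hr0, add_zero, mul_comm]⟩
  by_contra hr0
  obtain ⟨H, hH⟩ := hdvd
  have hdeg : ∀ q : MvPolynomial (Fin n) S, m.degree (MvPolynomial.map f q) = m.degree q := fun q => by
    simp [MonomialOrder.degree, MvPolynomial.support_map_of_injective q hf]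
  have he : MvPolynomial.map f r = MvPolynomial.map f P * (H - MvPolynomial.map f g) := by
    rw [hgr, map_add, map_mul] at hH
    linear_combination hH
  have hP0 : MvPolynomial.map f P ≠ 0 := fun h0 => by
    have : P = 0 := MvPolynomial.map_injective f hf (h0.trans (map_zero _).symm)
    rw [this, MonomialOrder.leadingCoeff_zero] at hP
    exact zero_ne_one (α := T) (by simpa using congrArg f (isUnit_zero_iff.1 hP))
  have hH0 : H - MvPolynomial.map f g ≠ 0 := fun h0 => by
    rw [h0, mul_zero] at he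
    exact hr0 (MvPolynomial.map_injective f hf (he.trans (map_zero _).symm))
  have hd : m.degree r = m.degree P + m.degree (H - MvPolynomial.map f g) := by
    rw [← hdeg r, he, m.degree_mul hP0 hH0, hdeg]
  exact hr _ ((m.degree_mem_support_iff r).2 hr0) (hd ▸ le_self_add)

theorem exists_mem_support_ne_zero {k : Type u} [Field k] {n : ℕ} {g : MvPolynomial (Fin n) k}
    (hg : g ≠ 0) (hu : ¬ IsUnit g) : ∃ d ∈ g.support, d ≠ 0 := by
  by_contra! hall
  refine hu ?_
  have hC : g = MvPolynomial.C (g.coeff 0) := by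
    classical
    ext d
    by_cases hd : d = 0
    · simp [hd]
    · rw [MvPolynomial.coeff_C, if_neg (Ne.symm hd)]
      exact MvPolynomial.notMem_support_iff.1 fun h => hd (hall d h)
  rw [hC]
  exact (isUnit_iff_ne_zero.2 fun h0 => hg (by rw [hC, h0, map_zero])).map MvPolynomial.C

theorem not_isUnit_of_coeff_ne_zero {k : Type u} [Field k] {n : ℕ} {g : MvPolynomial (Fin n) k}
    {d : Fin n →₀ ℕ} (hd : d ≠ 0) (h : g.coeff d ≠ 0) : ¬ IsUnit g := fun hu =>
  h ((MvPolynomial.isUnit_iff.1 hu).2 d hd).eq_zero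

/-- A polynomial irreducible over the generic point stays irreducible near it. -/
theorem exists_irreducible (R : Type u) [CommRing R] [IsDomain R] (Ω : Type u) [Field Ω] [IsAlgClosed Ω]
    [Algebra R Ω] [FaithfulSMul R Ω] {n : ℕ} (P : MvPolynomial (Fin n) R)
    (hP : Irreducible (MvPolynomial.map (algebraMap R Ω) P)) :
    ∃ c : R, c ≠ 0 ∧ ∀ (k : Type u) [Field k] [IsAlgClosed k] [Algebra R k], algebraMap R k c ≠ 0 →
      Irreducible (MvPolynomial.map (algebraMap R k) P) := by
  classical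
  have hinj := FaithfulSMul.algebraMap_injective R Ω
  obtain ⟨m₁, hm₁, hm₁0⟩ := exists_mem_support_ne_zero hP.ne_zero hP.not_isUnit
  rw [MvPolynomial.mem_support_iff, MvPolynomial.coeff_map, map_ne_zero_iff _ hinj] at hm₁
  let N := P.totalDegree
  let M : Finset (Fin n →₀ ℕ) := (Finset.univ : Finset (Fin n → Fin (N + 1))).image
    fun w => Finsupp.equivFunOnFinite.symm fun i => (w i : ℕ)
  have hM : ∀ d : Fin n →₀ ℕ, (∀ i, d i ≤ N) → d ∈ M := fun d hd =>
    Finset.mem_image.2 ⟨fun i => ⟨d i, Nat.lt_succ_of_le (hd i)⟩, Finset.mem_univ _,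
      by ext i; simp⟩
  let V := Option (M ⊕ M)
  let E₀ := MvPolynomial V R
  let gen : (M → V) → MvPolynomial (Fin n) E₀ := fun j =>
    ∑ d : M, MvPolynomial.monomial d.1 (MvPolynomial.X (j d))
  let D : MvPolynomial (Fin n) E₀ :=
    gen (fun d => some (.inl d)) * gen (fun d => some (.inr d)) - MvPolynomial.map (algebraMap R E₀) P
  let I : M → M → Ideal E₀ := fun a b => Ideal.span (Set.range (fun d => D.coeff d) ∪
    {MvPolynomial.X (some (.inl a)) - 1, MvPolynomial.X none * MvPolynomial.X (some (.inr b)) - 1})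
  have key : ∀ a b : M, a.1 ≠ 0 → b.1 ≠ 0 → IsEmpty ((E₀ ⧸ I a b) →ₐ[R] Ω) := by
    refine fun a b ha hb => ⟨fun τ => ?_⟩
    let σ : E₀ →ₐ[R] Ω := τ.comp (Ideal.Quotient.mkₐ R (I a b))
    have hI : ∀ z ∈ I a b, σ z = 0 := fun z hz => by
      show τ (Ideal.Quotient.mk (I a b) z) = 0
      rw [Ideal.Quotient.eq_zero_iff_mem.2 hz, map_zero]
    have hD : MvPolynomial.map σ.toRingHom D = 0 := MvPolynomial.ext _ _ fun d => by
      rw [MvPolynomial.coeff_map, MvPolynomial.coeff_zero]
      exact hI _ (Ideal.subset_span (Or.inl ⟨d, rfl⟩))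
    rw [map_sub, map_mul, MvPolynomial.map_map, sub_eq_zero,
      show σ.toRingHom.comp (algebraMap R E₀) = algebraMap R Ω from σ.comp_algebraMap] at hD
    have hgen : ∀ (j : M → V) (d : M), (MvPolynomial.map σ.toRingHom (gen j)).coeff d.1 =
        σ (MvPolynomial.X (j d)) := fun j d => by
      simp [gen, MvPolynomial.coeff_sum, MvPolynomial.coeff_monomial, apply_ite, Finset.sum_ite_eq',
        Subtype.val_inj, map_sum]
    have h1 := hI _ (Ideal.subset_span (Or.inr (Or.inl rfl)))
    have h2 := hI _ (Ideal.subset_span (Or.inr (Or.inr rfl)))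
    rw [map_sub, map_one, sub_eq_zero] at h1
    rw [map_sub, map_mul, map_one, sub_eq_zero] at h2
    rcases hP.isUnit_or_isUnit hD.symm with hu | hu
    · refine not_isUnit_of_coeff_ne_zero ha ?_ hu
      rw [hgen, h1]; exact one_ne_zero
    · refine not_isUnit_of_coeff_ne_zero hb ?_ hu
      rw [hgen]
      exact right_ne_zero_of_mul (h2.symm ▸ one_ne_zero)
  have key' : ∀ p : M × M, ∃ c : R, c ≠ 0 ∧ (p.1.1 ≠ 0 → p.2.1 ≠ 0 →
      ∀ (k : Type u) [Field k] [IsAlgClosed k] [Algebra R k], algebraMap R k c ≠ 0 →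
        IsEmpty ((E₀ ⧸ I p.1 p.2) →ₐ[R] k)) := fun p => by
    by_cases h : p.1.1 ≠ 0 ∧ p.2.1 ≠ 0
    · obtain ⟨c, hc, hc'⟩ := no_point R (E₀ ⧸ I p.1 p.2) Ω (key _ _ h.1 h.2)
      exact ⟨c, hc, fun _ _ => hc'⟩
    · exact ⟨1, one_ne_zero, fun h1 h2 => absurd ⟨h1, h2⟩ h⟩
  choose c hc hck using key'
  refine ⟨P.coeff m₁ * ∏ p, c p, mul_ne_zero hm₁ (Finset.prod_ne_zero_iff.2 fun p _ => hc p),
    fun k _ _ _ hk => ?_⟩
  obtain ⟨hk₁, hk₂⟩ := ne_zero_of_ne_zero R hk
  have hPne : (MvPolynomial.map (algebraMap R k) P).coeff m₁ ≠ 0 := by rwa [MvPolynomial.coeff_map]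
  refine ⟨not_isUnit_of_coeff_ne_zero hm₁0 hPne, fun g h hgh => ?_⟩
  by_contra hu
  push Not at hu
  have hg0 : g ≠ 0 := fun h0 => hPne (by rw [hgh, h0, zero_mul, MvPolynomial.coeff_zero])
  have hh0 : h ≠ 0 := fun h0 => hPne (by rw [hgh, h0, mul_zero, MvPolynomial.coeff_zero])
  have htd : g.totalDegree + h.totalDegree ≤ N := by
    rw [← MvPolynomial.totalDegree_mul_of_isDomain hg0 hh0, ← hgh]
    exact Finset.sup_mono (MvPolynomial.support_map_subset _ _)
  have hsupp : ∀ (q : MvPolynomial (Fin n) k), q.totalDegree ≤ N → ∀ d ∈ q.support, d ∈ M :=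
    fun q hq d hd => hM d fun i => ((Finsupp.le_degree i d).trans (MvPolynomial.le_totalDegree hd)).trans hq
  obtain ⟨a, ha, ha0⟩ := exists_mem_support_ne_zero hg0 hu.1
  obtain ⟨b, hb, hb0⟩ := exists_mem_support_ne_zero hh0 hu.2
  have haM := hsupp g (by omega) a ha
  have hbM := hsupp h (by omega) b hb
  rw [MvPolynomial.mem_support_iff] at ha hb
  let g' := MvPolynomial.C (g.coeff a)⁻¹ * g
  let h' := MvPolynomial.C (g.coeff a) * h
  let val : V → k := fun o => o.elim ((h'.coeff b)⁻¹) (Sum.elim (fun d => g'.coeff d.1) (fun d => h'.coeff d.1))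
  let σ : E₀ →ₐ[R] k := MvPolynomial.aeval val
  have hgen : ∀ (j : M → V) (q : MvPolynomial (Fin n) k), (∀ d : M, val (j d) = q.coeff d.1) →
      (∀ d ∈ q.support, d ∈ M) → MvPolynomial.map σ.toRingHom (gen j) = q := fun j q hj hq => by
    ext d
    simp only [gen, map_sum, MvPolynomial.map_monomial, MvPolynomial.coeff_sum, MvPolynomial.coeff_monomial]
    by_cases hd : d ∈ M
    · rw [Finset.sum_eq_single ⟨d, hd⟩]
      · rw [if_pos rfl]
        exact (MvPolynomial.aeval_X val _).trans (hj ⟨d, hd⟩)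
      · exact fun e _ he => if_neg fun h => he (Subtype.ext h)
      · exact fun h => absurd (Finset.mem_univ _) h
    · rw [Finset.sum_eq_zero fun e _ => if_neg fun h => hd (Eq.mp (congrArg (· ∈ M) h) e.2)]
      exact (MvPolynomial.notMem_support_iff.1 fun h => hd (hq d h)).symm
  have hsub : ∀ (r : k) (q : MvPolynomial (Fin n) k), q.totalDegree ≤ N →
      ∀ d ∈ (MvPolynomial.C r * q).support, d ∈ M := fun r q hq =>
    hsupp _ ((MvPolynomial.totalDegree_mul _ _).trans (by simpa using hq))
  have hne : (h'.coeff b) ≠ 0 := by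
    simp only [h', MvPolynomial.coeff_C_mul]
    exact mul_ne_zero ha hb
  have hI : I ⟨a, haM⟩ ⟨b, hbM⟩ ≤ RingHom.ker σ := by
    rw [Ideal.span_le]
    rintro z (⟨d, rfl⟩ | rfl | rfl)
    · show σ.toRingHom (D.coeff d) = 0
      rw [← MvPolynomial.coeff_map, map_sub, map_mul, MvPolynomial.map_map,
        show σ.toRingHom.comp (algebraMap R E₀) = algebraMap R k from σ.comp_algebraMap,
        hgen _ g' (fun d => rfl) (hsub _ g (by omega)), hgen _ h' (fun d => rfl) (hsub _ h (by omega)), hgh]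
      have : g' * h' = g * h := by
        simp only [g', h']
        rw [mul_mul_mul_comm, ← map_mul, inv_mul_cancel₀ ha, map_one, one_mul]
      rw [this, sub_self, MvPolynomial.coeff_zero]
    · have e : σ (MvPolynomial.X (some (Sum.inl (⟨a, haM⟩ : M)))) = g'.coeff a := MvPolynomial.aeval_X val _
      show σ (_ - _) = 0
      rw [map_sub, map_one, e]
      simp [g', ha]
    · have e : σ (MvPolynomial.X (some (Sum.inr (⟨b, hbM⟩ : M)))) = h'.coeff b := MvPolynomial.aeval_X val _
      have e' : σ (MvPolynomial.X (none : V)) = (h'.coeff b)⁻¹ := MvPolynomial.aeval_X val _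
      show σ (_ - _) = 0
      rw [map_sub, map_mul, map_one, e, e', inv_mul_cancel₀ hne, sub_self]
  exact (hck (⟨a, haM⟩, ⟨b, hbM⟩) ha0 hb0 k
    (fun h0 => hk₂ (by rw [map_prod]; exact Finset.prod_eq_zero (Finset.mem_univ _) h0))).false
    (Ideal.Quotient.liftₐ _ σ hI)

end Groth.Agent.GeomIrredStrata
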