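import Groth.Agent.GeomIrredStrata.Constructible
import Groth.Agent.GeomIrredStrata.Invariance

/-!
# Local constructibility of the level sets
-/

set_option autoImplicit false

universe u

open CategoryTheory CategoryTheory.Limits AlgebraicGeometry Topology

namespace Groth.Agent.GeomIrredStrata

/-- The level sets of a function of the counts are locally constructible. -/
theorem isLocallyConstructible_level {X Y : Scheme.{u}} (f : X ⟶ Y) [LocallyOfFinitePresentation f]
    [QuasiCompact f] [QuasiSeparated f] {α : Type*} (F : ℕ∞ × ℕ∞ → α) (v : α) :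
    IsLocallyConstructible {y : Y | F (gc f y) = v} := by
  intro y
  obtain ⟨(U : Y.Opens), hU, hy, -⟩ := TopologicalSpace.Opens.isBasis_iff_nbhd.mp Y.isBasis_affineOpens
    (show y ∈ (⊤ : Y.Opens) from trivial)
  refine ⟨U, U.2.mem_nhds hy, U.2, ?_⟩
  have : IsAffine U.toScheme := hU
  let e := U.toScheme.isoSpec
  let f' : (f ⁻¹ᵁ U).toScheme ⟶ Spec (CommRingCat.of Γ(U.toScheme, ⊤)) := (f ∣_ U) ≫ e.hom
  have hpb : IsPullback (f ⁻¹ᵁ U).ι f' f (e.inv ≫ U.ι) :=
    (isPullback_morphismRestrict f U).flip.of_iso (Iso.refl _) (Iso.refl _) e (Iso.refl _)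
      (by simp) (by simp [f']) (by simp) (by simp)
  have : LocallyOfFinitePresentation f' := MorphismProperty.of_isPullback hpb (inferInstance : LocallyOfFinitePresentation f)
  have : QuasiCompact f' := MorphismProperty.of_isPullback hpb (inferInstance : QuasiCompact f)
  have : QuasiSeparated f' := MorphismProperty.of_isPullback hpb (inferInstance : QuasiSeparated f)
  have hcon := @isConstructible_level Γ(U.toScheme, ⊤) _ _ f' (by assumption) (by assumption) (by assumption) _ F v
  have heq : (U.ι ⁻¹' {y : Y | F (gc f y) = v} : Set U.toScheme) =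
      e.hom ⁻¹' {q : PrimeSpectrum Γ(U.toScheme, ⊤) | F (gc f' q) = v} := by
    ext z
    have h1 : gc f' (e.hom z) = gc f (U.ι z) := by
      rw [gc_baseChange hpb, Scheme.Hom.comp_apply, ← Scheme.Hom.comp_apply e.hom, Iso.hom_inv_id]
      rfl
    exact iff_of_eq (congrArg (fun w => F w = v) h1.symm)
  have h := Scheme.Hom.isConstructible_preimage e.hom hcon
  exact (congrArg IsConstructible heq).mpr h

end Groth.Agent.GeomIrredStrata
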