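import Groth.Agent.GeomIrredStrata.GeomFibre
import Groth.Agent.FibreDimStrata.Stage
import Groth.Agent.FlatMorLib.GeomDescent

/-!
# Descent of conditions on the fibres to a finitely generated base
-/

set_option autoImplicit false

universe u

open CategoryTheory CategoryTheory.Limits AlgebraicGeometry
open scoped TensorProduct

namespace Groth.Agent.GeomIrredStrata

/-- A condition constant on strata of a noetherian base holds at a finitely generated stage. -/
theorem exists_model_of_gc (Q : ∀ {A B : Scheme.{u}}, (A ⟶ B) → B → Prop) (N : ℕ∞ × ℕ∞ → Prop)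
    (hQ : ∀ {A B : Scheme.{u}} (f : A ⟶ B) [LocallyOfFiniteType f] [QuasiCompact f] (y : B),
      Q f y ↔ N (gc f y))
    (hbc : ∀ {A B A' B' : Scheme.{u}} {f : A ⟶ B} {g : B' ⟶ B} {f' : A' ⟶ B'} {g' : A' ⟶ A}
      (_ : IsPullback g' f' f g) (y : B'), Q f' y ↔ Q f (g y))
    {X S : Scheme.{u}} (f : X ⟶ S) [IsAffine S] (hf : ∀ y, Q f y)
    {X₀ S₀ : Scheme.{u}} (f₀ : X₀ ⟶ S₀) [IsAffine X₀] [IsAffine S₀] [LocallyOfFiniteType f₀]
    (g : S ⟶ S₀) (g' : X ⟶ X₀) (hpb : IsPullback g' f f₀ g) (hS₀ : Algebra.FiniteType ℤ Γ(S₀, ⊤)) :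
    ∃ (X₁ S₁ : Scheme.{u}) (f₁ : X₁ ⟶ S₁) (k : S ⟶ S₁) (k' : X ⟶ X₁), IsAffine X₁ ∧ IsAffine S₁ ∧
      IsPullback k' f f₁ k ∧ Algebra.FiniteType ℤ Γ(S₁, ⊤) ∧ LocallyOfFiniteType f₁ ∧ ∀ y, Q f₁ y := by
  classical
  let R : CommRingCat.{u} := Γ(S₀, ⊤)
  let A : CommRingCat.{u} := Γ(S, ⊤)
  let : Algebra R A := g.appTop.hom.toAlgebra
  have : IsNoetherianRing R := Algebra.FiniteType.isNoetherianRing ℤ R
  obtain ⟨s, hs⟩ := FibreDimStrata.exists_stage A
    (fun p : PrimeSpectrum R => Q f₀ (S₀.isoSpec.inv p))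
    (fun J => by
      obtain ⟨W, hJW, hW⟩ := gc_near f₀ (S₀.isoSpec.inv J)
      obtain ⟨_, ⟨c, rfl⟩, hc, hcW⟩ := PrimeSpectrum.isTopologicalBasis_basic_opens.exists_subset_of_mem_open
        (show J ∈ (fun p : PrimeSpectrum R => S₀.isoSpec.inv p) ⁻¹' (W : Set S₀) from hJW)
        (W.2.preimage S₀.isoSpec.inv.continuous)
      refine ⟨c, hc, fun p hJp hcp => ?_⟩
      rw [hQ, hQ]
      exact iff_of_eq (congrArg N (hW _ (hcW hcp)
        (((PrimeSpectrum.le_iff_specializes J p).1 hJp).map S₀.isoSpec.inv.continuous))))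
    (fun P => by
      have e : S₀.isoSpec.inv (P.comap (algebraMap R A)) = g (S.isoSpec.inv P) := by
        have := congr($(Scheme.isoSpec_inv_naturality g) P)
        simp only [Scheme.Hom.comp_apply] at this
        exact this
      rw [e, ← hbc hpb]
      exact hf _)
  let B := Algebra.adjoin R (s : Set A)
  have hBfg : Algebra.FiniteType R B := Algebra.FiniteType.adjoin_of_finite s.finite_toSet
  let j : Spec (CommRingCat.of B) ⟶ S₀ :=
    Spec.map (CommRingCat.ofHom (algebraMap R B)) ≫ S₀.isoSpec.inv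
  let k : S ⟶ Spec (CommRingCat.of B) :=
    S.isoSpec.hom ≫ Spec.map (CommRingCat.ofHom B.val.toRingHom)
  have hkj : k ≫ j = g := by
    show (S.isoSpec.hom ≫ _) ≫ _ ≫ _ = g
    rw [Category.assoc, ← Category.assoc (Spec.map _), ← Spec.map_comp,
      show CommRingCat.ofHom (algebraMap R B) ≫ CommRingCat.ofHom B.val.toRingHom = g.appTop from
        CommRingCat.hom_ext (RingHom.ext fun x => rfl), Scheme.isoSpec_inv_naturality,
      Iso.hom_inv_id_assoc]
  let f₁ := pullback.snd f₀ j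
  let k' : X ⟶ pullback f₀ j := pullback.lift g' (f ≫ k) (by rw [Category.assoc, hkj]; exact hpb.w)
  have hpb₁ : IsPullback k' f f₁ k := IsPullback.of_right (h₁₂ := pullback.fst f₀ j)
    (by rw [pullback.lift_fst, hkj]; exact hpb) (pullback.lift_snd _ _ _)
    (IsPullback.of_hasPullback f₀ j)
  have : IsAffineHom f₁ := MorphismProperty.pullback_snd _ _ (inferInstance : IsAffineHom f₀)
  have : IsAffine (pullback f₀ j) := isAffine_of_isAffineHom f₁
  have hlft : LocallyOfFiniteType f₁ := MorphismProperty.pullback_snd _ _ ‹LocallyOfFiniteType f₀›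
  refine ⟨pullback f₀ j, Spec (CommRingCat.of B), f₁, k, k', inferInstance, inferInstance, hpb₁, ?_, hlft,
    fun y => ?_⟩
  · have : Algebra.FiniteType ℤ B := hS₀.trans hBfg
    exact this.equiv (Scheme.ΓSpecIso (.of B)).symm.commRingCatIsoToRingEquiv.toIntAlgEquiv
  · rw [hbc (IsPullback.of_hasPullback f₀ j)]
    exact hs B Algebra.subset_adjoin y

end Groth.Agent.GeomIrredStrata
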