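import Groth.Agent.GeomIrredStrata.Rings

/-!
# Properties holding near the generic point
-/

set_option autoImplicit false

universe u

open scoped TensorProduct nonZeroDivisors

namespace Groth.Agent.GeomIrredStrata

/-- `Φ` holds at all algebraically closed points where some fixed nonzero element does not vanish. -/
def Near (R : Type u) [CommRing R] (Φ : ∀ (k : Type u) [Field k] [IsAlgClosed k] [Algebra R k], Prop) :
    Prop :=
  ∃ c : R, c ≠ 0 ∧ ∀ (k : Type u) [Field k] [IsAlgClosed k] [Algebra R k], algebraMap R k c ≠ 0 → Φ k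

variable {R : Type u} [CommRing R] [IsDomain R]
  {Φ Φ' : ∀ (k : Type u) [Field k] [IsAlgClosed k] [Algebra R k], Prop}

omit [IsDomain R] in
theorem Near.mono (h : Near R Φ) (hi : ∀ (k : Type u) [Field k] [IsAlgClosed k] [Algebra R k], Φ k → Φ' k) :
    Near R Φ' := by
  obtain ⟨c, hc, h⟩ := h
  exact ⟨c, hc, fun k _ _ _ hk => hi k (h k hk)⟩

theorem Near.and (h : Near R Φ) (h' : Near R Φ') : Near R fun k _ _ _ => Φ k ∧ Φ' k := by
  obtain ⟨c, hc, h⟩ := h
  obtain ⟨c', hc', h'⟩ := h'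
  refine ⟨c * c', mul_ne_zero hc hc', fun k _ _ _ hk => ?_⟩
  obtain ⟨h1, h2⟩ := ne_zero_of_ne_zero R hk
  exact ⟨h k h1, h' k h2⟩

theorem Near.all {ι : Sort*} [Finite ι]
    {Φs : ι → ∀ (k : Type u) [Field k] [IsAlgClosed k] [Algebra R k], Prop}
    (h : ∀ i, Near R (Φs i)) : Near R fun k _ _ _ => ∀ i, Φs i k := by
  classical
  choose c hc h using h
  have := Fintype.ofFinite (PLift ι)
  refine ⟨∏ i : PLift ι, c i.down, Finset.prod_ne_zero_iff.2 fun i _ => hc _, fun k _ _ _ hk i => ?_⟩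
  rw [map_prod, Finset.prod_ne_zero_iff] at hk
  exact h i k (hk ⟨i⟩ (Finset.mem_univ _))

theorem Near.of_imp {p : Prop} (h : p → Near R Φ) : Near R fun k _ _ _ => p → Φ k := by
  by_cases hp : p
  · exact (h hp).mono fun k _ _ _ hk _ => hk
  · exact ⟨1, one_ne_zero, fun k _ _ _ _ h' => absurd h' hp⟩

/-- Whatever vanishes at the generic point vanishes near it. -/
theorem vanish_near (R : Type u) [CommRing R] [IsDomain R] (B : Type u) [CommRing B] [Algebra R B]
    [Algebra.FiniteType R B] (Ω : Type u) [Field Ω] [Algebra R Ω] [FaithfulSMul R Ω] :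
    Near R fun k _ _ _ => ∀ y : B, (1 : Ω) ⊗ₜ[R] y = 0 → (1 : k) ⊗ₜ[R] y = 0 := by
  obtain ⟨c₀, hc₀, hfree, -⟩ := exists_free R B
  let R₁ := Localization.Away c₀
  have hu : IsUnit (algebraMap R Ω c₀) :=
    isUnit_iff_ne_zero.2 ((map_ne_zero_iff _ (FaithfulSMul.algebraMap_injective R Ω)).2 hc₀)
  let : Algebra R₁ Ω := (IsLocalization.Away.lift c₀ (g := algebraMap R Ω) hu).toAlgebra
  have : IsScalarTower R R₁ Ω := IsScalarTower.of_algebraMap_eq fun x => by
    rw [RingHom.algebraMap_toAlgebra, IsLocalization.Away.lift_eq]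
  have hinj : Function.Injective (algebraMap R₁ Ω) := (injective_iff_map_eq_zero _).2 fun z hz => by
    obtain ⟨⟨r, t⟩, hrt⟩ := IsLocalization.surj (Submonoid.powers c₀) z
    have := congrArg (algebraMap R₁ Ω) hrt
    rw [map_mul, hz, zero_mul, ← IsScalarTower.algebraMap_apply] at this
    rw [(map_eq_zero_iff _ (FaithfulSMul.algebraMap_injective R Ω)).1 this.symm, map_zero] at hrt
    exact (IsLocalization.map_units R₁ t).mul_left_eq_zero.1 hrt
  refine ⟨c₀, hc₀, fun k _ _ _ hk y hy => ?_⟩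
  let : Algebra R₁ k := (IsLocalization.Away.lift c₀ (g := algebraMap R k) (isUnit_iff_ne_zero.2 hk)).toAlgebra
  have : IsScalarTower R R₁ k := IsScalarTower.of_algebraMap_eq fun x => by
    rw [RingHom.algebraMap_toAlgebra, IsLocalization.Away.lift_eq]
  have he : ∀ (K : Type u) [CommRing K] [Algebra R K] [Algebra R₁ K] [IsScalarTower R R₁ K],
      Algebra.TensorProduct.cancelBaseChange R R₁ K K B ((1 : K) ⊗ₜ[R₁] ((1 : R₁) ⊗ₜ[R] y)) = (1 : K) ⊗ₜ[R] y :=
    fun K _ _ _ _ => by rw [Algebra.TensorProduct.cancelBaseChange_tmul, one_smul]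
  have h1 : (1 : Ω) ⊗ₜ[R₁] ((1 : R₁) ⊗ₜ[R] y) = 0 :=
    (Algebra.TensorProduct.cancelBaseChange R R₁ Ω Ω B).injective (by rw [he, hy, map_zero])
  have h2 : (1 : R₁) ⊗ₜ[R] y = 0 :=
    Algebra.TensorProduct.includeRight_injective (R := R₁) (A := Ω) hinj (by
      rw [map_zero]; exact h1)
  rw [← he, h2, TensorProduct.tmul_zero, map_zero]

theorem Near.isDomain (B : Type u) [CommRing B] [Algebra R B] [Algebra.FiniteType R B] (Ω : Type u)
    [Field Ω] [IsAlgClosed Ω] [Algebra R Ω] [FaithfulSMul R Ω] [IsDomain (Ω ⊗[R] B)] :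
    Near R fun k _ _ _ => IsDomain (k ⊗[R] B) :=
  exists_isDomain R B Ω

theorem Near.not_nilpotent (B : Type u) [CommRing B] [Algebra R B] [Algebra.FiniteType R B] (Ω : Type u)
    [Field Ω] [Algebra R Ω] [FaithfulSMul R Ω] (a : B) (ha : ¬ IsNilpotent ((1 : Ω) ⊗ₜ[R] a)) :
    Near R fun k _ _ _ => ¬ IsNilpotent ((1 : k) ⊗ₜ[R] a) :=
  not_nilpotent_near R B Ω a ha

theorem Near.nontrivial (B : Type u) [CommRing B] [Algebra R B] [Algebra.FiniteType R B] (Ω : Type u)
    [Field Ω] [Algebra R Ω] [FaithfulSMul R Ω] [Nontrivial (Ω ⊗[R] B)] :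
    Near R fun k _ _ _ => Nontrivial (k ⊗[R] B) :=
  nontrivial_near R B Ω

theorem Near.subsingleton (B : Type u) [CommRing B] [Algebra R B] [Algebra.FiniteType R B] (Ω : Type u)
    [Field Ω] [Algebra R Ω] [FaithfulSMul R Ω] [Subsingleton (Ω ⊗[R] B)] :
    Near R fun k _ _ _ => Subsingleton (k ⊗[R] B) :=
  (vanish_near R B Ω).mono fun k _ _ _ h =>
    subsingleton_of_zero_eq_one (h 1 (Subsingleton.elim _ _)).symm

end Groth.Agent.GeomIrredStrata
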