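import Groth.Agent.GeomRedStrata.Basic
import Groth.Agent.GeomConn.Algebra

/-!
# Points of algebras with values in algebraically closed fields near the generic point

Everything is stated with algebraically closed fields `k` over the domain `R` in which a given `c ≠ 0`
does not vanish, and one algebraically closed field `Ω` with `R → Ω` injective as generic point.
-/

set_option autoImplicit false

universe u

open scoped TensorProduct

namespace Groth.Agent.GeomIrredStrata

variable (R : Type u) [CommRing R] [IsDomain R]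

omit [IsDomain R] in
theorem ne_zero_of_ne_zero {k : Type u} [Field k] [Algebra R k] {a b : R}
    (h : algebraMap R k (a * b) ≠ 0) : algebraMap R k a ≠ 0 ∧ algebraMap R k b ≠ 0 := by
  rw [map_mul] at h
  exact mul_ne_zero_iff.1 h

/-- An algebra of finite type becomes free after inverting one element. -/
theorem exists_free (B : Type u) [CommRing B] [Algebra R B] [Algebra.FiniteType R B] :
    ∃ c : R, c ≠ 0 ∧ Module.Free (Localization.Away c) (Localization.Away c ⊗[R] B) ∧
      Algebra.FinitePresentation (Localization.Away c) (Localization.Away c ⊗[R] B) := by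
  obtain ⟨f, -, hf, -, hfree, hfp, -⟩ :=
    GenFree.exists_generic_freeness (R := R) B B (one_ne_zero : (1 : R) ≠ 0)
  exact ⟨f, hf, Module.Free.of_equiv (LocalizedModule.equivTensorProduct (Submonoid.powers f) B), hfp⟩

/-- An algebra of finite type containing `R` has points near the generic point. -/
theorem exists_algHom_near (E : Type u) [CommRing E] [Algebra R E] [Algebra.FiniteType R E]
    (hE : Function.Injective (algebraMap R E)) :
    ∃ c : R, c ≠ 0 ∧ ∀ (k : Type u) [Field k] [IsAlgClosed k] [Algebra R k],
      algebraMap R k c ≠ 0 → Nonempty (E →ₐ[R] k) := by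
  obtain ⟨c, hc, hfree, -⟩ := exists_free R E
  refine ⟨c, hc, fun k _ _ _ hck => ?_⟩
  let Rc := Localization.Away c
  let : Algebra Rc k := (IsLocalization.Away.lift c (g := algebraMap R k) (isUnit_iff_ne_zero.2 hck)).toAlgebra
  have : IsScalarTower R Rc k := IsScalarTower.of_algebraMap_eq fun x => by
    rw [RingHom.algebraMap_toAlgebra, IsLocalization.Away.lift_eq]
  have : Nontrivial (Rc ⊗[R] E) := by
    by_contra hn
    rw [not_nontrivial_iff_subsingleton] at hn
    let := Algebra.TensorProduct.rightAlgebra (R := R) (A := Rc) (B := E)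
    have h1 : (1 : Localization.Away (algebraMap R E c)) = 0 := by
      let e := IsLocalization.Away.tensorRightEquiv E c Rc
      exact e.symm.injective (Subsingleton.elim _ _)
    have h0 : IsNilpotent (algebraMap R E c) := by
      obtain ⟨⟨_, n, rfl⟩, hn⟩ := (IsLocalization.map_eq_zero_iff (Submonoid.powers (algebraMap R E c))
        (Localization.Away (algebraMap R E c)) (1 : E)).1 (by rw [map_one]; exact h1)
      exact ⟨n, by simpa using hn⟩
    exact hc ((IsNilpotent.map_iff hE).1 h0).eq_zero
  let b := Module.Free.chooseBasis Rc (Rc ⊗[R] E)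
  have : Nonempty (Module.Free.ChooseBasisIndex Rc (Rc ⊗[R] E)) := b.index_nonempty
  let bk := Algebra.TensorProduct.basis k b
  have : Nontrivial (k ⊗[Rc] (Rc ⊗[R] E)) :=
    ⟨⟨bk (Classical.arbitrary _), 0, bk.ne_zero _⟩⟩
  let e := Algebra.TensorProduct.cancelBaseChange R Rc k k E
  have : Nontrivial (k ⊗[R] E) := e.symm.toEquiv.nontrivial
  obtain ⟨m, hm⟩ := Ideal.exists_maximal (k ⊗[R] E)
  obtain ⟨π, -⟩ := GeomConn.exists_algHom_of_isMaximal (k := k) m
  exact ⟨(π.restrictScalars R).comp Algebra.TensorProduct.includeRight⟩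

/-- Points avoiding a nonzero element of a finitely generated domain extension. -/
theorem exists_point (S : Type u) [CommRing S] [IsDomain S] [Algebra R S] [Algebra.FiniteType R S]
    (hS : Function.Injective (algebraMap R S)) {s : S} (hs : s ≠ 0) :
    ∃ c : R, c ≠ 0 ∧ ∀ (k : Type u) [Field k] [IsAlgClosed k] [Algebra R k],
      algebraMap R k c ≠ 0 → ∃ σ : S →ₐ[R] k, σ s ≠ 0 := by
  have hE : Function.Injective (algebraMap R (Localization.Away s)) := by
    rw [IsScalarTower.algebraMap_eq R S (Localization.Away s)]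
    exact (IsLocalization.injective _ (powers_le_nonZeroDivisors_of_noZeroDivisors hs)).comp hS
  have : Algebra.FiniteType R (Localization.Away s) :=
    Algebra.FiniteType.trans (S := S) inferInstance
      (inferInstance : Algebra.FiniteType S (Localization.Away s))
  obtain ⟨c, hc, h⟩ := exists_algHom_near R (Localization.Away s) hE
  refine ⟨c, hc, fun k _ _ _ hck => ?_⟩
  obtain ⟨τ⟩ := h k hck
  refine ⟨τ.comp (IsScalarTower.toAlgHom R S _), fun h0 => ?_⟩
  exact ((IsLocalization.Away.algebraMap_isUnit s).map τ).ne_zero h0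

/-- If there is no point over the generic point, there is none nearby. -/
theorem no_point (E : Type u) [CommRing E] [Algebra R E] [Algebra.FiniteType R E]
    (Ω : Type u) [Field Ω] [IsAlgClosed Ω] [Algebra R Ω] [FaithfulSMul R Ω]
    (h : IsEmpty (E →ₐ[R] Ω)) :
    ∃ c : R, c ≠ 0 ∧ ∀ (k : Type u) [Field k] [IsAlgClosed k] [Algebra R k],
      algebraMap R k c ≠ 0 → IsEmpty (E →ₐ[R] k) := by
  by_cases hE : Function.Injective (algebraMap R E)
  · obtain ⟨c, hc, hc'⟩ := exists_algHom_near R E hE
    obtain ⟨τ⟩ := hc' Ω ((map_ne_zero_iff _ (FaithfulSMul.algebraMap_injective R Ω)).2 hc)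
    exact (h.false τ).elim
  · rw [injective_iff_map_eq_zero] at hE
    push Not at hE
    obtain ⟨r, hr, hr0⟩ := hE
    exact ⟨r, hr0, fun k _ _ _ hrk => ⟨fun τ => hrk (by rw [← τ.commutes, hr, map_zero])⟩⟩

/-- A non zero divisor stays one on the fibres near the generic point. -/
theorem exists_nzd (B : Type u) [CommRing B] [Algebra R B] [Algebra.FiniteType R B] {s : B}
    (hs : Function.Injective (LinearMap.lsmul B B s)) :
    ∃ c : R, c ≠ 0 ∧ ∀ (k : Type u) [Field k] [Algebra R k], algebraMap R k c ≠ 0 →
      ∀ x : k ⊗[R] B, ((1 : k) ⊗ₜ[R] s) * x = 0 → x = 0 := by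
  let u : B →ₗ[R] B := (LinearMap.lsmul B B s).restrictScalars R
  let M := B ⧸ Ideal.span {s}
  let v : B →ₗ[R] M := (Ideal.Quotient.mkₐ R (Ideal.span {s})).toLinearMap
  obtain ⟨c, -, hc, hfree, -⟩ := GenFree.exists_generic_freeness (R := R) B M one_ne_zero
  have : Module.Flat R (Localization.Away c) := IsLocalization.flat _ (Submonoid.powers c)
  have : Module.Flat R (LocalizedModule.Away c M) := Module.Flat.trans R (Localization.Away c) _
  have hT : GenFlat.TFlat c M := GeomRedStrata.tflat_of_flat_localizedModule c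
  refine ⟨c, hc, fun k _ _ hck x hx => ?_⟩
  have hcomm : u.rTensor k (TensorProduct.comm R k B x) =
      TensorProduct.comm R k B (((1 : k) ⊗ₜ[R] s) * x) := by
    clear hx
    induction x with
    | zero => simp
    | add a b ha hb => rw [map_add, map_add, ha, hb, mul_add, map_add]
    | tmul a b => simp [u]
  have hex : Function.Exact u v := fun y => by
    show Ideal.Quotient.mk (Ideal.span {s}) y = 0 ↔ _
    rw [Ideal.Quotient.eq_zero_iff_mem, Ideal.mem_span_singleton']
    exact exists_congr fun a => by simp [u, mul_comm]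
  obtain ⟨n, hn⟩ := hT.rTensor_kernel (u := u) (v := v) hs hex Ideal.Quotient.mk_surjective
    (TensorProduct.comm R k B x) (by rw [hcomm, hx, map_zero])
  rw [← map_smul, LinearEquiv.map_eq_zero_iff, ← algebraMap_smul k (c ^ n)] at hn
  refine (smul_eq_zero.1 hn).resolve_left ?_
  rw [map_pow]
  exact pow_ne_zero _ hck

omit [IsDomain R] in
/-- Elements of a base change to a field come from a finitely generated subalgebra. -/
theorem exists_preimage {Ω B : Type u} [Field Ω] [Algebra R Ω] [CommRing B] [Algebra R B]
    (z : Ω ⊗[R] B) : ∃ s : Finset Ω, ∀ S : Subalgebra R Ω, ↑s ⊆ (S : Set Ω) →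
      z ∈ (Algebra.TensorProduct.map S.val (AlgHom.id R B)).range := by
  classical
  induction z with
  | zero => exact ⟨∅, fun S _ => zero_mem _⟩
  | tmul x b => exact ⟨{x}, fun S hS => ⟨(⟨x, hS (by simp)⟩ : S) ⊗ₜ b, rfl⟩⟩
  | add z w hz hw =>
    obtain ⟨s, hs⟩ := hz
    obtain ⟨t, ht⟩ := hw
    refine ⟨s ∪ t, fun S hS => ?_⟩
    rw [Finset.coe_union, Set.union_subset_iff] at hS
    exact add_mem (hs S hS.1) (ht S hS.2)

omit [IsDomain R] in
/-- The base change to a field of a free algebra contains all its models. -/
theorem injective_model {Ω B : Type u} [Field Ω] [Algebra R Ω] [CommRing B] [Algebra R B] [Module.Flat R B]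
    (S : Subalgebra R Ω) : Function.Injective (Algebra.TensorProduct.map S.val (AlgHom.id R B)) :=
  Module.Flat.rTensor_preserves_injective_linearMap S.val.toLinearMap Subtype.val_injective

end Groth.Agent.GeomIrredStrata
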