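import Groth.Agent.GeomIrredStrata.Domain
import Groth.Agent.GeomIrred.Basic

/-!
# Geometric irreducibility and connectedness of fibres near the generic point
-/

set_option autoImplicit false

universe u

open scoped TensorProduct nonZeroDivisors

namespace Groth.Agent.GeomIrredStrata

/-- Being nonzero spreads out. -/
theorem nontrivial_near (S : Type u) [CommRing S] [IsDomain S] (E : Type u) [CommRing E] [Algebra S E]
    [Algebra.FiniteType S E] (Ω : Type u) [Field Ω] [Algebra S Ω] [FaithfulSMul S Ω]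
    [Nontrivial (Ω ⊗[S] E)] :
    ∃ c : S, c ≠ 0 ∧ ∀ (k : Type u) [Field k] [IsAlgClosed k] [Algebra S k],
      algebraMap S k c ≠ 0 → Nontrivial (k ⊗[S] E) := by
  have hE : Function.Injective (algebraMap S E) := by
    refine (injective_iff_map_eq_zero _).2 fun x hx => ?_
    have h : algebraMap S (Ω ⊗[S] E) x = 0 := by
      rw [← (Algebra.TensorProduct.includeRight : E →ₐ[S] Ω ⊗[S] E).commutes, hx, map_zero]
    rw [IsScalarTower.algebraMap_apply S Ω (Ω ⊗[S] E)] at h
    exact (map_eq_zero_iff _ (FaithfulSMul.algebraMap_injective S Ω)).1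
      ((map_eq_zero_iff _ (algebraMap Ω (Ω ⊗[S] E)).injective).1 h)
  obtain ⟨c, hc, hpt⟩ := exists_algHom_near S E hE
  refine ⟨c, hc, fun k _ _ _ hck => ?_⟩
  obtain ⟨τ⟩ := hpt k hck
  exact (Algebra.TensorProduct.lift (AlgHom.id k k) τ fun _ _ => Commute.all _ _).toRingHom.domain_nontrivial

/-- Not being nilpotent spreads out. -/
theorem not_nilpotent_near (S : Type u) [CommRing S] [IsDomain S] (B : Type u) [CommRing B] [Algebra S B]
    [Algebra.FiniteType S B] (Ω : Type u) [Field Ω] [Algebra S Ω] [FaithfulSMul S Ω] (a : B)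
    (ha : ¬ IsNilpotent ((1 : Ω) ⊗ₜ[S] a)) :
    ∃ c : S, c ≠ 0 ∧ ∀ (k : Type u) [Field k] [IsAlgClosed k] [Algebra S k],
      algebraMap S k c ≠ 0 → ¬ IsNilpotent ((1 : k) ⊗ₜ[S] a) := by
  let E := Localization.Away a
  have : Algebra.FiniteType S E :=
    Algebra.FiniteType.trans (S := B) inferInstance (inferInstance : Algebra.FiniteType B E)
  have hnil : ∀ (K : Type u) [Field K] [Algebra S K],
      ¬ IsNilpotent ((1 : K) ⊗ₜ[S] a) → Nontrivial (K ⊗[S] E) := by
    intro K _ _ hK
    let := (Algebra.TensorProduct.map (AlgHom.id K K) (IsScalarTower.toAlgHom S B E)).toRingHom.toAlgebra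
    have hloc := GeomRedStrata.isLocalization_baseChange S K (Submonoid.powers a) E
    by_contra hn
    rw [not_nontrivial_iff_subsingleton] at hn
    have h := (IsLocalization.subsingleton_iff (M := (Submonoid.powers a).map
      (Algebra.TensorProduct.includeRight (R := S) (A := K))) (S := K ⊗[S] E)).1 hn
    obtain ⟨_, ⟨m, rfl⟩, hm⟩ := h
    exact hK ⟨m, by rw [Algebra.TensorProduct.tmul_pow, one_pow]; exact hm⟩
  have := hnil Ω ha
  obtain ⟨c, hc, hn⟩ := nontrivial_near S E Ω
  refine ⟨c, hc, fun k _ _ _ hck hk => ?_⟩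
  have := hn k hck
  let φ : k ⊗[S] B →ₐ[k] k ⊗[S] E :=
    Algebra.TensorProduct.map (AlgHom.id k k) (IsScalarTower.toAlgHom S B E)
  have hu : IsUnit (φ ((1 : k) ⊗ₜ a)) :=
    (IsLocalization.Away.algebraMap_isUnit (S := E) a).map
      (Algebra.TensorProduct.includeRight : E →ₐ[S] k ⊗[S] E)
  obtain ⟨m, hm⟩ := hk.map φ
  exact (hm ▸ hu.pow m).ne_zero rfl

/-- A property of rings which is a property of the spectrum can be checked for free algebras. -/
theorem reduce_free (Ψ : ∀ (A : Type u) [CommRing A], Prop)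
    (hΨ : ∀ (A A' : Type u) [CommRing A] [CommRing A'], (A ≃+* A') → (Ψ A ↔ Ψ A'))
    (H : ∀ (R : Type u) [CommRing R] [IsDomain R] (C : Type u) [CommRing C] [Algebra R C]
      [Algebra.FiniteType R C] [Module.Free R C] (Ω : Type u) [Field Ω] [IsAlgClosed Ω] [Algebra R Ω]
      [FaithfulSMul R Ω], ∃ c : R, c ≠ 0 ∧ ∀ (k : Type u) [Field k] [IsAlgClosed k] [Algebra R k],
        algebraMap R k c ≠ 0 → (Ψ (k ⊗[R] C) ↔ Ψ (Ω ⊗[R] C)))
    (R : Type u) [CommRing R] [IsDomain R] (C : Type u) [CommRing C] [Algebra R C] [Algebra.FiniteType R C]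
    (Ω : Type u) [Field Ω] [IsAlgClosed Ω] [Algebra R Ω] [FaithfulSMul R Ω] :
    ∃ c : R, c ≠ 0 ∧ ∀ (k : Type u) [Field k] [IsAlgClosed k] [Algebra R k],
        algebraMap R k c ≠ 0 → (Ψ (k ⊗[R] C) ↔ Ψ (Ω ⊗[R] C)) := by
  obtain ⟨c₀, hc₀, hfree, -⟩ := exists_free R C
  let R₁ := Localization.Away c₀
  have hle : Submonoid.powers c₀ ≤ R⁰ := powers_le_nonZeroDivisors_of_noZeroDivisors hc₀
  have : IsDomain R₁ := IsLocalization.isDomain_localization hle
  have hu : IsUnit (algebraMap R Ω c₀) :=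
    isUnit_iff_ne_zero.2 ((map_ne_zero_iff _ (FaithfulSMul.algebraMap_injective R Ω)).2 hc₀)
  let : Algebra R₁ Ω := (IsLocalization.Away.lift c₀ (g := algebraMap R Ω) hu).toAlgebra
  have : IsScalarTower R R₁ Ω := IsScalarTower.of_algebraMap_eq fun x => by
    rw [RingHom.algebraMap_toAlgebra, IsLocalization.Away.lift_eq]
  have : FaithfulSMul R₁ Ω := (faithfulSMul_iff_algebraMap_injective R₁ Ω).2
    ((injective_iff_map_eq_zero _).2 fun z hz => by
      obtain ⟨⟨r, t⟩, hrt⟩ := IsLocalization.surj (Submonoid.powers c₀) z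
      have := congrArg (algebraMap R₁ Ω) hrt
      rw [map_mul, hz, zero_mul, ← IsScalarTower.algebraMap_apply] at this
      rw [(map_eq_zero_iff _ (FaithfulSMul.algebraMap_injective R Ω)).1 this.symm, map_zero] at hrt
      exact (IsLocalization.map_units R₁ t).mul_left_eq_zero.1 hrt)
  obtain ⟨c₁, hc₁, h⟩ := H R₁ (R₁ ⊗[R] C) Ω
  obtain ⟨c, hc, hpt⟩ := exists_point R R₁ (IsLocalization.injective R₁ hle) hc₁
  refine ⟨c, hc, fun k _ _ _ hck => ?_⟩
  obtain ⟨σ, hσ⟩ := hpt k hck
  let : Algebra R₁ k := σ.toRingHom.toAlgebra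
  have : IsScalarTower R R₁ k := IsScalarTower.of_algebraMap_eq fun y => (σ.commutes y).symm
  rw [← hΨ _ _ (Algebra.TensorProduct.cancelBaseChange R R₁ k k C).toRingEquiv,
    ← hΨ _ _ (Algebra.TensorProduct.cancelBaseChange R R₁ Ω Ω C).toRingEquiv]
  exact h k hσ

/-- The geometric generic fibre and its model. -/
theorem cancel_model {R C Ω : Type u} [CommRing R] [CommRing C] [Algebra R C] [Field Ω] [Algebra R Ω]
    (S : Subalgebra R Ω) (z : S ⊗[R] C) :
    Algebra.TensorProduct.cancelBaseChange R S Ω Ω C ((1 : Ω) ⊗ₜ[S] z) =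
      Algebra.TensorProduct.map S.val (AlgHom.id R C) z := by
  induction z with
  | zero => simp
  | add p q hp hq => rw [TensorProduct.tmul_add, map_add, hp, hq, map_add]
  | tmul s c =>
    rw [Algebra.TensorProduct.cancelBaseChange_tmul]
    simp [Algebra.smul_def]

/-- A finitely generated subalgebra containing models of finitely many elements. -/
theorem exists_model {R C Ω : Type u} [CommRing R] [CommRing C] [Algebra R C] [Field Ω]
    [Algebra R Ω] (Z : Finset (Ω ⊗[R] C)) :
    ∃ S : Subalgebra R Ω, Algebra.FiniteType R S ∧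
      ∀ z ∈ Z, z ∈ (Algebra.TensorProduct.map S.val (AlgHom.id R C)).range := by
  classical
  choose sA hsA using fun z : Ω ⊗[R] C => exists_preimage R z
  refine ⟨Algebra.adjoin R ((Z.biUnion sA : Finset Ω) : Set Ω),
    Algebra.FiniteType.adjoin_of_finite (Finset.finite_toSet _), fun z hz => hsA z _ fun y hy => ?_⟩
  exact Algebra.subset_adjoin (Finset.mem_biUnion.2 ⟨z, hz, hy⟩)

theorem irreducibleSpace_congr (A A' : Type u) [CommRing A] [CommRing A'] (e : A ≃+* A') :
    IrreducibleSpace (PrimeSpectrum A) ↔ IrreducibleSpace (PrimeSpectrum A') :=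
  ⟨GeomIrred.of_injective e.symm.toRingHom e.symm.injective, GeomIrred.of_injective e.toRingHom e.injective⟩

theorem connectedSpace_of_injective {A A' : Type u} [CommRing A] [CommRing A'] (f : A →+* A')
    (hf : Function.Injective f) (h : ConnectedSpace (PrimeSpectrum A')) :
    ConnectedSpace (PrimeSpectrum A) := by
  have hd : DenseRange (PrimeSpectrum.comap f) := by
    rw [PrimeSpectrum.denseRange_comap_iff_ker_le_nilRadical, (RingHom.injective_iff_ker_eq_bot f).1 hf]
    exact bot_le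
  have := hd.preconnectedSpace (PrimeSpectrum.continuous_comap f)
  exact { toNonempty := h.toNonempty.map (PrimeSpectrum.comap f) }

theorem connectedSpace_congr (A A' : Type u) [CommRing A] [CommRing A'] (e : A ≃+* A') :
    ConnectedSpace (PrimeSpectrum A) ↔ ConnectedSpace (PrimeSpectrum A') :=
  ⟨connectedSpace_of_injective e.symm.toRingHom e.symm.injective,
    connectedSpace_of_injective e.toRingHom e.injective⟩

/-- Connectedness from a covering by irreducible closed sets. -/
theorem connectedSpace_iff_graph {A : Type u} [CommRing A] {ι : Type u} [Finite ι] (Q : ι → Ideal A)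
    (hQ : ∀ i, (Q i).IsPrime) (hcov : ∀ P : PrimeSpectrum A, ∃ i, Q i ≤ P.asIdeal) :
    ConnectedSpace (PrimeSpectrum A) ↔ Nonempty ι ∧
      ∀ T : Set ι, T.Nonempty → Tᶜ.Nonempty → ∃ i ∈ T, ∃ j ∈ Tᶜ, Q i ⊔ Q j ≠ ⊤ := by
  constructor
  · intro h
    obtain ⟨P⟩ := h.toNonempty
    refine ⟨⟨(hcov P).choose⟩, fun T ⟨i, hi⟩ ⟨j, hj⟩ => ?_⟩
    by_contra! hcon
    let U : Set ι → Set (PrimeSpectrum A) := fun V => ⋃ i ∈ V, PrimeSpectrum.zeroLocus (Q i : Set A)
    have hcl : ∀ V, IsClosed (U V) := fun V =>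
      Set.Finite.isClosed_biUnion (Set.toFinite V) fun i _ => PrimeSpectrum.isClosed_zeroLocus _
    have hcompl : (U T)ᶜ = U Tᶜ := by
      ext P
      simp only [U, Set.mem_compl_iff, Set.mem_iUnion, PrimeSpectrum.mem_zeroLocus,
        SetLike.coe_subset_coe, exists_prop]
      constructor
      · intro hP
        obtain ⟨l, hl⟩ := hcov P
        exact ⟨l, fun hlT => hP ⟨l, hlT, hl⟩, hl⟩
      · rintro ⟨l, hl, hlP⟩ ⟨l', hl', hlP'⟩
        exact P.isPrime.ne_top (top_le_iff.1 ((hcon l' hl' l hl).ge.trans (sup_le hlP' hlP)))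
    have hclopen : IsClopen (U T) := ⟨hcl T, isClosed_compl_iff.1 (hcompl ▸ hcl Tᶜ)⟩
    have hmem : ∀ (V : Set ι) (l : ι), l ∈ V → (⟨Q l, hQ l⟩ : PrimeSpectrum A) ∈ U V := fun V l hl => by
      simp only [U, Set.mem_iUnion, PrimeSpectrum.mem_zeroLocus, SetLike.coe_subset_coe, exists_prop]
      exact ⟨l, hl, le_rfl⟩
    rcases isClopen_iff.1 hclopen with h0 | h0
    · exact (Set.eq_empty_iff_forall_notMem.1 h0) _ (hmem T i hi)
    · have := hmem Tᶜ j hj
      rw [← hcompl, h0, Set.compl_univ] at this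
      exact this
  · rintro ⟨⟨i₀⟩, h⟩
    have : Nonempty (PrimeSpectrum A) := ⟨⟨Q i₀, hQ i₀⟩⟩
    refine connectedSpace_iff_clopen.2 ⟨inferInstance, fun U hU => ?_⟩
    let T : Set ι := {i | (⟨Q i, hQ i⟩ : PrimeSpectrum A) ∈ U}
    have hsp : ∀ (i : ι) (P : PrimeSpectrum A), Q i ≤ P.asIdeal → (P ∈ U ↔ i ∈ T) := fun i P hle => by
      have hs : (⟨Q i, hQ i⟩ : PrimeSpectrum A) ⤳ P := (PrimeSpectrum.le_iff_specializes _ _).1 hle
      exact ⟨fun hP => hs.mem_open hU.isOpen hP, fun hi => hs.mem_closed hU.isClosed hi⟩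
    by_cases hT : T.Nonempty
    · by_cases hT' : Tᶜ.Nonempty
      · obtain ⟨i, hi, j, hj, hij⟩ := h T hT hT'
        obtain ⟨m, hm, hle⟩ := Ideal.exists_le_maximal _ hij
        exact absurd ((hsp j ⟨m, hm.isPrime⟩ (le_sup_right.trans hle)).1
          ((hsp i ⟨m, hm.isPrime⟩ (le_sup_left.trans hle)).2 hi)) hj
      · refine Or.inr (Set.eq_univ_of_forall fun P => ?_)
        obtain ⟨i, hi⟩ := hcov P
        exact (hsp i P hi).2 (by_contra fun hiT => hT' ⟨i, hiT⟩)
    · refine Or.inl (Set.eq_empty_of_forall_notMem fun P hP => ?_)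
      obtain ⟨i, hi⟩ := hcov P
      exact hT ⟨i, (hsp i P hi).1 hP⟩

/-- A disconnected spectrum has a nontrivial idempotent. -/
theorem exists_idempotent {A : Type u} [CommRing A] [Nontrivial A]
    (h : ¬ ConnectedSpace (PrimeSpectrum A)) :
    ∃ e : A, IsIdempotentElem e ∧ ¬ IsNilpotent e ∧ ¬ IsNilpotent (1 - e) := by
  rw [connectedSpace_iff_clopen] at h
  push Not at h
  obtain ⟨U, hU, hne, hne'⟩ := h inferInstance
  let e := PrimeSpectrum.isIdempotentElemEquivClopens.symm ⟨U, hU⟩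
  have hb : (PrimeSpectrum.basicOpen (e.1 : A) : Set (PrimeSpectrum A)) = U := by
    rw [← PrimeSpectrum.coe_isIdempotentElemEquivClopens_apply]
    simp [e]
  refine ⟨e.1, e.2, fun hn => ?_, fun hn => ?_⟩
  · exact hne.ne_empty (by rw [← hb, (PrimeSpectrum.basicOpen_eq_bot_iff _).2 hn]; rfl)
  · refine hne' (Set.eq_univ_of_forall fun P => hb ▸ fun hP => ?_)
    have h1 : (1 : A) ∈ P.asIdeal := by
      rw [← sub_add_cancel 1 e.1]
      exact P.asIdeal.add_mem (P.isPrime.mem_of_pow_mem _ (hn.choose_spec ▸ P.asIdeal.zero_mem)) hP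
    exact P.isPrime.ne_top ((Ideal.eq_top_iff_one _).2 h1)

theorem not_connectedSpace_of_idempotent {A : Type u} [CommRing A] {e : A} (he : IsIdempotentElem e)
    (h1 : ¬ IsNilpotent e) (h2 : ¬ IsNilpotent (1 - e)) : ¬ ConnectedSpace (PrimeSpectrum A) := by
  intro h
  rcases isClopen_iff.1 (PrimeSpectrum.isIdempotentElemEquivClopens ⟨e, he⟩).isClopen with h0 | h0
  · rw [PrimeSpectrum.coe_isIdempotentElemEquivClopens_apply] at h0
    exact h1 ((PrimeSpectrum.basicOpen_eq_bot_iff _).1 (TopologicalSpace.Opens.ext h0))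
  · rw [PrimeSpectrum.coe_isIdempotentElemEquivClopens_apply] at h0
    refine h2 ((PrimeSpectrum.basicOpen_eq_bot_iff _).1 (TopologicalSpace.Opens.ext ?_))
    refine Set.eq_empty_of_forall_notMem fun P hP => hP ?_
    have hPe : e ∉ P.asIdeal := (Set.eq_univ_iff_forall.1 h0) P
    refine (P.isPrime.mem_or_mem ?_).resolve_left hPe
    rw [mul_sub, mul_one, he.eq, sub_self]; exact P.asIdeal.zero_mem

theorem isPrime_map_of_isDomain {S : Type u} [CommRing S] (k : Type u) [CommRing k] [Algebra S k]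
    {B : Type u} [CommRing B] [Algebra S B] (I : Ideal B) [IsDomain (k ⊗[S] (B ⧸ I))] :
    (I.map (Algebra.TensorProduct.includeRight : B →ₐ[S] k ⊗[S] B).toRingHom).IsPrime := by
  let e := Algebra.TensorProduct.tensorQuotientEquiv (R := S) k B k I
  refine (Ideal.Quotient.isDomain_iff_prime _).1 ?_
  exact e.symm.injective.isDomain e.symm.toAlgHom.toRingHom

theorem isPrime_of_map_equiv {A A' : Type u} [CommRing A] [CommRing A'] (e : A ≃+* A') (I : Ideal A)
    (h : (I.map (e : A →+* A')).IsPrime) : I.IsPrime := by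
  rw [← Ideal.comap_map_of_bijective (e : A →+* A') e.bijective (I := I)]
  exact h.comap _

/-- The ideal generated by models of generators. -/
theorem map_span_model {R C Ω : Type u} [CommRing R] [CommRing C] [Algebra R C] [Field Ω] [Algebra R Ω]
    (S : Subalgebra R Ω) (Z : Finset (Ω ⊗[R] C)) (w : Z → S ⊗[R] C)
    (hw : ∀ z : Z, Algebra.TensorProduct.map S.val (AlgHom.id R C) (w z) = z) :
    Ideal.span (Z : Set (Ω ⊗[R] C)) =
      ((Ideal.span (Set.range w)).map
        (Algebra.TensorProduct.includeRight : S ⊗[R] C →ₐ[S] Ω ⊗[S] (S ⊗[R] C)).toRingHom).map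
        ((Algebra.TensorProduct.cancelBaseChange R S Ω Ω C).toRingEquiv : Ω ⊗[S] (S ⊗[R] C) →+* Ω ⊗[R] C) := by
  rw [Ideal.map_map, Ideal.map_span, ← Set.range_comp]
  have heq : ∀ z : Z, (Algebra.TensorProduct.cancelBaseChange R S Ω Ω C).toRingEquiv ((1 : Ω) ⊗ₜ[S] w z) =
      (z : Ω ⊗[R] C) := fun z => (cancel_model S (w z)).trans (hw z)
  refine congrArg Ideal.span (Set.ext fun y => ⟨fun hy => ⟨⟨y, hy⟩, heq _⟩, ?_⟩)
  rintro ⟨z, rfl⟩
  show (Algebra.TensorProduct.cancelBaseChange R S Ω Ω C).toRingEquiv ((1 : Ω) ⊗ₜ[S] w z) ∈ (Z : Set (Ω ⊗[R] C))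
  rw [heq]; exact z.2

/-- A base change of a quotient by an ideal generating a prime ideal is a domain. -/
theorem isDomain_of_isPrime_map {S : Type u} [CommRing S] (k : Type u) [CommRing k] [Algebra S k]
    {B : Type u} [CommRing B] [Algebra S B] (I : Ideal B)
    (h : (I.map (Algebra.TensorProduct.includeRight : B →ₐ[S] k ⊗[S] B).toRingHom).IsPrime) :
    IsDomain (k ⊗[S] (B ⧸ I)) := by
  let e := Algebra.TensorProduct.tensorQuotientEquiv (R := S) k B k I
  have h' : IsDomain ((k ⊗[S] B) ⧸ I.map (Algebra.TensorProduct.includeRight : B →ₐ[S] k ⊗[S] B)) :=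
    (Ideal.Quotient.isDomain_iff_prime _).2 h
  exact e.injective.isDomain e.toAlgHom.toRingHom

theorem nontrivial_iff_map_ne_top {S : Type u} [CommRing S] (k : Type u) [CommRing k] [Algebra S k]
    {B : Type u} [CommRing B] [Algebra S B] (I : Ideal B) :
    Nontrivial (k ⊗[S] (B ⧸ I)) ↔
      I.map (Algebra.TensorProduct.includeRight : B →ₐ[S] k ⊗[S] B).toRingHom ≠ ⊤ := by
  let e := Algebra.TensorProduct.tensorQuotientEquiv (R := S) k B k I
  exact e.toEquiv.nontrivial_congr.trans Ideal.Quotient.nontrivial_iff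

/-- A nil ideal generating a prime in the generic fibre does so in the fibres near it. -/
theorem irreducible_near (S : Type u) [CommRing S] [IsDomain S] (B : Type u) [CommRing B] [Algebra S B]
    [Algebra.FiniteType S B] (Ω : Type u) [Field Ω] [IsAlgClosed Ω] [Algebra S Ω] [FaithfulSMul S Ω]
    (I : Ideal B) (hI : I ≤ nilradical B)
    (hp : (I.map (Algebra.TensorProduct.includeRight : B →ₐ[S] Ω ⊗[S] B).toRingHom).IsPrime) :
    ∃ c : S, c ≠ 0 ∧ ∀ (k : Type u) [Field k] [IsAlgClosed k] [Algebra S k],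
      algebraMap S k c ≠ 0 → IrreducibleSpace (PrimeSpectrum (k ⊗[S] B)) := by
  have := isDomain_of_isPrime_map Ω I hp
  have : Algebra.FiniteType S (B ⧸ I) :=
    Algebra.FiniteType.of_surjective (Ideal.Quotient.mkₐ S I) (Ideal.Quotient.mkₐ_surjective S I)
  obtain ⟨c, hc, hdom⟩ := exists_isDomain S (B ⧸ I) Ω
  refine ⟨c, hc, fun k _ _ _ hck => ?_⟩
  have := hdom k hck
  have hp := isPrime_map_of_isDomain (S := S) k I
  rw [PrimeSpectrum.irreducibleSpace_iff_isPrime_nilradical]
  have heq : nilradical (k ⊗[S] B) =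
      I.map (Algebra.TensorProduct.includeRight : B →ₐ[S] k ⊗[S] B).toRingHom :=
    le_antisymm (nilradical_le_prime _) (Ideal.map_le_iff_le_comap.2 fun x hx =>
      mem_nilradical.2 ((mem_nilradical.1 (hI hx)).map _))
  exact heq ▸ hp

/-- A covering by primes of the generic fibre with connected incidence graph spreads out. -/
theorem connected_near (S : Type u) [CommRing S] [IsDomain S] (B : Type u) [CommRing B] [Algebra S B]
    [Algebra.FiniteType S B] (Ω : Type u) [Field Ω] [IsAlgClosed Ω] [Algebra S Ω] [FaithfulSMul S Ω]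
    {ι : Type u} [Fintype ι] [Nonempty ι] (I : ι → Ideal B) (hnil : ∏ i, I i ≤ nilradical B)
    (hp : ∀ i, ((I i).map (Algebra.TensorProduct.includeRight : B →ₐ[S] Ω ⊗[S] B).toRingHom).IsPrime)
    (hgraph : ∀ V : Set ι, V.Nonempty → Vᶜ.Nonempty → ∃ i ∈ V, ∃ j ∈ Vᶜ,
      (I i ⊔ I j).map (Algebra.TensorProduct.includeRight : B →ₐ[S] Ω ⊗[S] B).toRingHom ≠ ⊤) :
    ∃ c : S, c ≠ 0 ∧ ∀ (k : Type u) [Field k] [IsAlgClosed k] [Algebra S k],
      algebraMap S k c ≠ 0 → ConnectedSpace (PrimeSpectrum (k ⊗[S] B)) := by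
  classical
  have hft : ∀ J : Ideal B, Algebra.FiniteType S (B ⧸ J) := fun J =>
    Algebra.FiniteType.of_surjective (Ideal.Quotient.mkₐ S J) (Ideal.Quotient.mkₐ_surjective S J)
  have hprime : ∀ i, ∃ c : S, c ≠ 0 ∧ ∀ (k : Type u) [Field k] [IsAlgClosed k] [Algebra S k],
      algebraMap S k c ≠ 0 → IsDomain (k ⊗[S] (B ⧸ I i)) := fun i => by
    have := isDomain_of_isPrime_map Ω (I i) (hp i)
    have := hft (I i)
    exact exists_isDomain S (B ⧸ I i) Ω
  have hpair : ∀ ij : ι × ι, ∃ c : S, c ≠ 0 ∧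
      ((I ij.1 ⊔ I ij.2).map (Algebra.TensorProduct.includeRight : B →ₐ[S] Ω ⊗[S] B).toRingHom ≠ ⊤ →
      ∀ (k : Type u) [Field k] [IsAlgClosed k] [Algebra S k], algebraMap S k c ≠ 0 →
        Nontrivial (k ⊗[S] (B ⧸ (I ij.1 ⊔ I ij.2)))) := fun ij => by
    by_cases h : Nontrivial (Ω ⊗[S] (B ⧸ (I ij.1 ⊔ I ij.2)))
    · have := hft (I ij.1 ⊔ I ij.2)
      obtain ⟨c, hc, hc'⟩ := nontrivial_near S (B ⧸ (I ij.1 ⊔ I ij.2)) Ω
      exact ⟨c, hc, fun _ => hc'⟩
    · exact ⟨1, one_ne_zero, fun h' => absurd ((nontrivial_iff_map_ne_top Ω _).2 h') h⟩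
  choose c₁ hc₁ hc₁' using hprime
  choose c₂ hc₂ hc₂' using hpair
  refine ⟨(∏ i, c₁ i) * ∏ ij, c₂ ij, mul_ne_zero (Finset.prod_ne_zero_iff.2 fun i _ => hc₁ i)
    (Finset.prod_ne_zero_iff.2 fun ij _ => hc₂ ij), fun k _ _ _ hck => ?_⟩
  obtain ⟨hk₁, hk₂⟩ := ne_zero_of_ne_zero S (k := k) hck
  rw [map_prod, Finset.prod_ne_zero_iff] at hk₁ hk₂
  let ik : B →+* k ⊗[S] B := (Algebra.TensorProduct.includeRight : B →ₐ[S] k ⊗[S] B).toRingHom
  have hQ : ∀ i, ((I i).map ik).IsPrime := fun i => by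
    have := hc₁' i k (hk₁ i (Finset.mem_univ _))
    exact isPrime_map_of_isDomain (S := S) k (I i)
  refine (connectedSpace_iff_graph (fun i => (I i).map ik) hQ fun P => ?_).2 ⟨inferInstance, ?_⟩
  · have h1 : ∏ i, (I i).map ik ≤ P.asIdeal := by
      rw [show ∏ i, (I i).map ik = Ideal.map ik (∏ i, I i) from (map_prod (Ideal.mapHom ik) I Finset.univ).symm]
      refine Ideal.map_le_iff_le_comap.2 fun x hx => ?_
      obtain ⟨m, hm⟩ := hnil hx
      exact P.isPrime.mem_of_pow_mem m (by rw [← map_pow, hm, map_zero]; exact zero_mem _)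
    obtain ⟨i, -, hi⟩ := (P.isPrime.prod_le).1 h1
    exact ⟨i, hi⟩
  · intro V hV hV'
    obtain ⟨i, hi, j, hj, hij⟩ := hgraph V hV hV'
    refine ⟨i, hi, j, hj, ?_⟩
    rw [← Ideal.map_sup]
    exact (nontrivial_iff_map_ne_top k _).1 (hc₂' (i, j) hij k (hk₂ _ (Finset.mem_univ _)))

set_option maxHeartbeats 2000000 in
/-- Geometric irreducibility of the generic fibre of a free algebra decides the fibres near it. -/
theorem exists_irreducible_free (R : Type u) [CommRing R] [IsDomain R] (C : Type u) [CommRing C]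
    [Algebra R C] [Algebra.FiniteType R C] [Module.Free R C] (Ω : Type u) [Field Ω] [IsAlgClosed Ω]
    [Algebra R Ω] [FaithfulSMul R Ω] :
    ∃ c : R, c ≠ 0 ∧ ∀ (k : Type u) [Field k] [IsAlgClosed k] [Algebra R k], algebraMap R k c ≠ 0 →
      (IrreducibleSpace (PrimeSpectrum (k ⊗[R] C)) ↔ IrreducibleSpace (PrimeSpectrum (Ω ⊗[R] C))) := by
  classical
  let T := Ω ⊗[R] C
  have : Algebra.FiniteType Ω T := inferInstance
  have : IsNoetherianRing T := Algebra.FiniteType.isNoetherianRing Ω T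
  by_cases hirr : (nilradical T).IsPrime
  · obtain ⟨Z, hZ⟩ := (isNoetherianRing_iff_ideal_fg T).1 ‹_› (nilradical T)
    obtain ⟨S, hSfin, hS⟩ := exists_model Z
    have : FaithfulSMul S Ω := (faithfulSMul_iff_algebraMap_injective S Ω).2 Subtype.val_injective
    let jB : S ⊗[R] C →ₐ[R] T := Algebra.TensorProduct.map S.val (AlgHom.id R C)
    have hjB : Function.Injective jB := injective_model R S
    choose w hw using fun z : Z => hS z z.2
    let I : Ideal (S ⊗[R] C) := Ideal.span (Set.range w)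
    let e := Algebra.TensorProduct.cancelBaseChange R S Ω Ω C
    have hJ : (I.map (Algebra.TensorProduct.includeRight : S ⊗[R] C →ₐ[S] Ω ⊗[S] (S ⊗[R] C)).toRingHom).map
        (e.toRingEquiv : Ω ⊗[S] (S ⊗[R] C) →+* T) = nilradical T := by
      rw [← map_span_model S Z w hw, hZ]
    have hI : I ≤ nilradical (S ⊗[R] C) := Ideal.span_le.2 (by
      rintro _ ⟨z, rfl⟩
      refine mem_nilradical.2 ((IsNilpotent.map_iff (f := jB) hjB).1 ?_)
      rw [show jB (w z) = z from hw z]
      exact mem_nilradical.1 (hZ ▸ Submodule.subset_span z.2))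
    obtain ⟨c₁, hc₁, hirr'⟩ := irreducible_near S (S ⊗[R] C) Ω I hI (isPrime_of_map_equiv e.toRingEquiv _ (hJ ▸ hirr))
    obtain ⟨c, hc, hpt⟩ := exists_point R S (fun p q h =>
      FaithfulSMul.algebraMap_injective R Ω (congrArg Subtype.val h)) hc₁
    refine ⟨c, hc, fun k _ _ _ hck => iff_of_true ?_ ?_⟩
    swap
    · exact PrimeSpectrum.irreducibleSpace_iff_isPrime_nilradical.2 hirr
    obtain ⟨σ, hσ⟩ := hpt k hck
    let : Algebra S k := σ.toRingHom.toAlgebra
    have : IsScalarTower R S k := IsScalarTower.of_algebraMap_eq fun y => (σ.commutes y).symm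
    exact (irreducibleSpace_congr _ _ (Algebra.TensorProduct.cancelBaseChange R S k k C).toRingEquiv).1
      (hirr' k hσ)
  · by_cases hT : Subsingleton T
    · have : Subsingleton C := by
        refine ⟨fun p q => ?_⟩
        exact Algebra.TensorProduct.includeRight_injective (A := Ω) (FaithfulSMul.algebraMap_injective R Ω)
          (Subsingleton.elim _ _)
      refine ⟨1, one_ne_zero, fun k _ _ _ _ => iff_of_false (fun h => ?_) (fun h => ?_)⟩
      · have := h.toNonempty
        exact not_isEmpty_of_nonempty _ (inferInstance : IsEmpty (PrimeSpectrum (k ⊗[R] C)))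
      · have := h.toNonempty
        exact not_isEmpty_of_nonempty _ (inferInstance : IsEmpty (PrimeSpectrum (Ω ⊗[R] C)))
    rw [not_subsingleton_iff_nontrivial] at hT
    obtain ⟨a, b, hab, ha, hb⟩ : ∃ a b : T, IsNilpotent (a * b) ∧ ¬ IsNilpotent a ∧ ¬ IsNilpotent b := by
      by_contra! h
      refine hirr ⟨fun htop => ?_, fun {x y} hxy => or_iff_not_imp_left.2 fun hx => h x y hxy hx⟩
      exact not_isNilpotent_one (mem_nilradical.1 ((Ideal.eq_top_iff_one _).1 htop))
    obtain ⟨S, hSfin, hS⟩ := exists_model {a, b}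
    have : FaithfulSMul S Ω := (faithfulSMul_iff_algebraMap_injective S Ω).2 Subtype.val_injective
    let jB : S ⊗[R] C →ₐ[R] T := Algebra.TensorProduct.map S.val (AlgHom.id R C)
    have hjB : Function.Injective jB := injective_model R S
    obtain ⟨a', ha'⟩ := hS a (by simp)
    obtain ⟨b', hb'⟩ := hS b (by simp)
    have hab' : IsNilpotent (a' * b') := (IsNilpotent.map_iff (f := jB) hjB).1 (by
      rw [map_mul]; exact ha' ▸ hb' ▸ hab)
    let e := Algebra.TensorProduct.cancelBaseChange R S Ω Ω C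
    obtain ⟨ca, hca, hna⟩ := not_nilpotent_near S (S ⊗[R] C) Ω a' fun h =>
      ha (by have := h.map e; rw [cancel_model] at this; exact ha' ▸ this)
    obtain ⟨cb, hcb, hnb⟩ := not_nilpotent_near S (S ⊗[R] C) Ω b' fun h =>
      hb (by have := h.map e; rw [cancel_model] at this; exact hb' ▸ this)
    obtain ⟨c, hc, hpt⟩ := exists_point R S (fun p q h =>
      FaithfulSMul.algebraMap_injective R Ω (congrArg Subtype.val h)) (mul_ne_zero hca hcb)
    refine ⟨c, hc, fun k _ _ _ hck => iff_of_false ?_ ?_⟩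
    swap
    · exact fun h => hirr (PrimeSpectrum.irreducibleSpace_iff_isPrime_nilradical.1 h)
    obtain ⟨σ, hσ⟩ := hpt k hck
    let : Algebra S k := σ.toRingHom.toAlgebra
    have : IsScalarTower R S k := IsScalarTower.of_algebraMap_eq fun y => (σ.commutes y).symm
    obtain ⟨hka, hkb⟩ := ne_zero_of_ne_zero S (k := k) hσ
    intro h
    rw [← irreducibleSpace_congr _ _ (Algebra.TensorProduct.cancelBaseChange R S k k C).toRingEquiv,
      PrimeSpectrum.irreducibleSpace_iff_isPrime_nilradical] at h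
    have h0 : ((1 : k) ⊗ₜ[S] a') * ((1 : k) ⊗ₜ[S] b') ∈ nilradical (k ⊗[S] (S ⊗[R] C)) := by
      rw [Algebra.TensorProduct.tmul_mul_tmul, one_mul]
      exact mem_nilradical.2 (hab'.map (Algebra.TensorProduct.includeRight : S ⊗[R] C →ₐ[S] k ⊗[S] (S ⊗[R] C)))
    exact (h.mem_or_mem h0).elim (fun h => hna k hka (mem_nilradical.1 h))
      fun h => hnb k hkb (mem_nilradical.1 h)

/-- Geometric irreducibility of the generic fibre decides the fibres near it. -/
theorem exists_irreducible_iff (R : Type u) [CommRing R] [IsDomain R] (C : Type u) [CommRing C]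
    [Algebra R C] [Algebra.FiniteType R C] (Ω : Type u) [Field Ω] [IsAlgClosed Ω]
    [Algebra R Ω] [FaithfulSMul R Ω] :
    ∃ c : R, c ≠ 0 ∧ ∀ (k : Type u) [Field k] [IsAlgClosed k] [Algebra R k], algebraMap R k c ≠ 0 →
      (IrreducibleSpace (PrimeSpectrum (k ⊗[R] C)) ↔ IrreducibleSpace (PrimeSpectrum (Ω ⊗[R] C))) :=
  reduce_free (fun A _ => IrreducibleSpace (PrimeSpectrum A)) irreducibleSpace_congr
    exists_irreducible_free R C Ω

set_option maxHeartbeats 2000000 in
/-- Geometric connectedness of the generic fibre of a free algebra decides the fibres near it. -/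
theorem exists_connected_free (R : Type u) [CommRing R] [IsDomain R] (C : Type u) [CommRing C]
    [Algebra R C] [Algebra.FiniteType R C] [Module.Free R C] (Ω : Type u) [Field Ω] [IsAlgClosed Ω]
    [Algebra R Ω] [FaithfulSMul R Ω] :
    ∃ c : R, c ≠ 0 ∧ ∀ (k : Type u) [Field k] [IsAlgClosed k] [Algebra R k], algebraMap R k c ≠ 0 →
      (ConnectedSpace (PrimeSpectrum (k ⊗[R] C)) ↔ ConnectedSpace (PrimeSpectrum (Ω ⊗[R] C))) := by
  classical
  let T := Ω ⊗[R] C
  have : Algebra.FiniteType Ω T := inferInstance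
  have : IsNoetherianRing T := Algebra.FiniteType.isNoetherianRing Ω T
  have hinjR : ∀ S : Subalgebra R Ω, Function.Injective (algebraMap R S) := fun S p q h =>
    FaithfulSMul.algebraMap_injective R Ω (congrArg Subtype.val h)
  by_cases hconn : ConnectedSpace (PrimeSpectrum T)
  · have hfin : (minimalPrimes T).Finite := minimalPrimes.finite_of_isNoetherianRing T
    have := hfin.to_subtype
    choose Z hZ using fun p : minimalPrimes T => (isNoetherianRing_iff_ideal_fg T).1 ‹_› p.1
    have := Fintype.ofFinite (minimalPrimes T)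
    obtain ⟨S, hSfin, hS⟩ := exists_model (Finset.univ.biUnion Z)
    have : FaithfulSMul S Ω := (faithfulSMul_iff_algebraMap_injective S Ω).2 Subtype.val_injective
    let jB : S ⊗[R] C →ₐ[R] T := Algebra.TensorProduct.map S.val (AlgHom.id R C)
    have hjB : Function.Injective jB := injective_model R S
    choose w hw using fun (p : minimalPrimes T) (z : Z p) =>
      hS z (Finset.mem_biUnion.2 ⟨p, Finset.mem_univ _, z.2⟩)
    let I : minimalPrimes T → Ideal (S ⊗[R] C) := fun p => Ideal.span (Set.range (w p))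
    let e := Algebra.TensorProduct.cancelBaseChange R S Ω Ω C
    let iΩ : S ⊗[R] C →+* Ω ⊗[S] (S ⊗[R] C) :=
      (Algebra.TensorProduct.includeRight : S ⊗[R] C →ₐ[S] Ω ⊗[S] (S ⊗[R] C)).toRingHom
    have hJ : ∀ p : minimalPrimes T,
        ((I p).map iΩ).map (e.toRingEquiv : Ω ⊗[S] (S ⊗[R] C) →+* T) = p.1 := fun p => by
      rw [← map_span_model S (Z p) (w p) (hw p), hZ p]
    have hnil : ∏ p, I p ≤ nilradical (S ⊗[R] C) := by
      intro x hx
      have h1 : jB x ∈ ∏ p : minimalPrimes T, p.1 := by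
        have h2 := Ideal.mem_map_of_mem jB.toRingHom hx
        have h3 : Ideal.map jB.toRingHom (∏ p, I p) = ∏ p, Ideal.map jB.toRingHom (I p) :=
          map_prod (Ideal.mapHom jB.toRingHom) I Finset.univ
        have h4 : ∀ p, Ideal.map jB.toRingHom (I p) ≤ p.1 := fun p => by
          rw [Ideal.map_span, Ideal.span_le]
          rintro _ ⟨_, ⟨z, rfl⟩, rfl⟩
          show jB (w p z) ∈ p.1
          rw [show jB (w p z) = z from hw p z, ← hZ p]
          exact Submodule.subset_span z.2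
        rw [h3] at h2
        exact (Finset.prod_le_prod' fun p _ => h4 p) h2
      have h5 : jB x ∈ nilradical T := by
        rw [nilradical, Ideal.zero_eq_bot, ← Ideal.sInf_minimalPrimes, Submodule.mem_sInf]
        exact fun P hP => (Ideal.prod_le_inf.trans (Finset.inf_le (f := fun p : minimalPrimes T => p.1)
          (Finset.mem_univ (⟨P, hP⟩ : minimalPrimes T)))) h1
      exact mem_nilradical.2 ((IsNilpotent.map_iff (f := jB) hjB).1 (mem_nilradical.1 h5))
    obtain ⟨hne, hgraph⟩ := (connectedSpace_iff_graph (fun p : minimalPrimes T => p.1)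
      (fun p => Ideal.IsMinimalPrime.isPrime p.2) (fun P => by
        obtain ⟨q, hq, hle⟩ := Ideal.exists_minimalPrimes_le (J := P.asIdeal) (bot_le (a := P.asIdeal))
        exact ⟨⟨q, hq⟩, hle⟩)).1 hconn
    obtain ⟨c₁, hc₁, hconn'⟩ := connected_near S (S ⊗[R] C) Ω I hnil
      (fun p => isPrime_of_map_equiv e.toRingEquiv _ ((hJ p).symm ▸ Ideal.IsMinimalPrime.isPrime p.2))
      (fun V hV hV' => by
        obtain ⟨p, hp, q, hq, hpq⟩ := hgraph V hV hV'
        refine ⟨p, hp, q, hq, fun htop => hpq ?_⟩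
        have := congrArg (Ideal.map (e.toRingEquiv : Ω ⊗[S] (S ⊗[R] C) →+* T)) htop
        rwa [Ideal.map_sup, Ideal.map_sup, hJ, hJ, Ideal.map_top] at this)
    obtain ⟨c, hc, hpt⟩ := exists_point R S (hinjR S) hc₁
    refine ⟨c, hc, fun k _ _ _ hck => iff_of_true ?_ hconn⟩
    obtain ⟨σ, hσ⟩ := hpt k hck
    let : Algebra S k := σ.toRingHom.toAlgebra
    have : IsScalarTower R S k := IsScalarTower.of_algebraMap_eq fun y => (σ.commutes y).symm
    exact (connectedSpace_congr _ _ (Algebra.TensorProduct.cancelBaseChange R S k k C).toRingEquiv).1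
      (hconn' k hσ)
  · by_cases hT : Subsingleton T
    · have : Subsingleton C := by
        refine ⟨fun p q => ?_⟩
        exact Algebra.TensorProduct.includeRight_injective (A := Ω) (FaithfulSMul.algebraMap_injective R Ω)
          (Subsingleton.elim _ _)
      refine ⟨1, one_ne_zero, fun k _ _ _ _ => iff_of_false ?_ hconn⟩
      intro h
      have := h.toNonempty
      exact not_isEmpty_of_nonempty _ (inferInstance : IsEmpty (PrimeSpectrum (k ⊗[R] C)))
    rw [not_subsingleton_iff_nontrivial] at hT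
    obtain ⟨f, hf, hf1, hf2⟩ := exists_idempotent hconn
    obtain ⟨S, hSfin, hS⟩ := exists_model {f}
    have : FaithfulSMul S Ω := (faithfulSMul_iff_algebraMap_injective S Ω).2 Subtype.val_injective
    let jB : S ⊗[R] C →ₐ[R] T := Algebra.TensorProduct.map S.val (AlgHom.id R C)
    have hjB : Function.Injective jB := injective_model R S
    obtain ⟨f', hf'⟩ := hS f (Finset.mem_singleton_self f)
    have hid : IsIdempotentElem f' := hjB (by rw [map_mul]; exact hf' ▸ hf)
    let e := Algebra.TensorProduct.cancelBaseChange R S Ω Ω C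
    obtain ⟨ca, hca, hna⟩ := not_nilpotent_near S (S ⊗[R] C) Ω f' fun h =>
      hf1 (by have := h.map e; rw [cancel_model] at this; exact hf' ▸ this)
    obtain ⟨cb, hcb, hnb⟩ := not_nilpotent_near S (S ⊗[R] C) Ω (1 - f') fun h =>
      hf2 (by
        have := h.map e
        rw [cancel_model, map_sub, map_one] at this
        exact hf' ▸ this)
    obtain ⟨c, hc, hpt⟩ := exists_point R S (hinjR S) (mul_ne_zero hca hcb)
    refine ⟨c, hc, fun k _ _ _ hck => iff_of_false ?_ hconn⟩
    obtain ⟨σ, hσ⟩ := hpt k hck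
    let : Algebra S k := σ.toRingHom.toAlgebra
    have : IsScalarTower R S k := IsScalarTower.of_algebraMap_eq fun y => (σ.commutes y).symm
    obtain ⟨hka, hkb⟩ := ne_zero_of_ne_zero S (k := k) hσ
    intro h
    rw [← connectedSpace_congr _ _ (Algebra.TensorProduct.cancelBaseChange R S k k C).toRingEquiv] at h
    refine not_connectedSpace_of_idempotent
      (hid.map (Algebra.TensorProduct.includeRight : S ⊗[R] C →ₐ[S] k ⊗[S] (S ⊗[R] C)))
      (hna k hka) ?_ h
    have := hnb k hkb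
    rwa [TensorProduct.tmul_sub] at this

/-- Geometric connectedness of the generic fibre decides the fibres near it. -/
theorem exists_connected_iff (R : Type u) [CommRing R] [IsDomain R] (C : Type u) [CommRing C]
    [Algebra R C] [Algebra.FiniteType R C] (Ω : Type u) [Field Ω] [IsAlgClosed Ω]
    [Algebra R Ω] [FaithfulSMul R Ω] :
    ∃ c : R, c ≠ 0 ∧ ∀ (k : Type u) [Field k] [IsAlgClosed k] [Algebra R k], algebraMap R k c ≠ 0 →
      (ConnectedSpace (PrimeSpectrum (k ⊗[R] C)) ↔ ConnectedSpace (PrimeSpectrum (Ω ⊗[R] C))) :=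
  reduce_free (fun A _ => ConnectedSpace (PrimeSpectrum A)) connectedSpace_congr
    exists_connected_free R C Ω

end Groth.Agent.GeomIrredStrata
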